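import Cfsg.Agent.Lib.OmegaEight.Rels

/-
The copy of Ω⁺₈(2) contains the centraliser of `t`, controls fusion of its class, and is the whole group
(`Cover.top`).
-/

set_option autoImplicit false
set_option linter.unusedSectionVars false

namespace Cfsg.Agent.OmegaEight

open Cfsg.Agent.LargeExtraspecial Cfsg.Agent.Multiplier
open scoped commutatorElement

variable {G : Type*} [Group G]

theorem perm3_invol : ∀ p : Equiv.Perm (Fin 3), p * p = 1 → ∃ q, q * p * q⁻¹ = 1 ∨ q * p * q⁻¹ = σ₃ := by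
  decide

/-- Two involutions generate a dihedral group. -/
theorem dihedral [Finite G] {u v : G} (hu : u * u = 1) (hv : v * v = 1) :
    (∃ i : ℕ, cj ((u * v) ^ i) v = u) ∨
      ∃ l : ℕ, (u * v) ^ l ≠ 1 ∧ (u * v) ^ l * (u * v) ^ l = 1 ∧
        Commute ((u * v) ^ l) u ∧ Commute ((u * v) ^ l) v ∧
        ((∃ i i' : ℕ, cj ((u * v) ^ i) u = u * (u * v) ^ l ∧ cj ((u * v) ^ i') v = v * (u * v) ^ l) ∨
          ∃ i i' : ℕ, cj ((u * v) ^ i) v = u * (u * v) ^ l ∧ cj ((u * v) ^ i') u = v * (u * v) ^ l) := by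
  set r := u * v with hr
  have hui : u⁻¹ = u := inv_eq_of_mul_eq_one_right hu
  have hvi : v⁻¹ = v := inv_eq_of_mul_eq_one_right hv
  have hru : ∀ i : ℕ, cj u (r ^ i) = (r⁻¹) ^ i := fun i => by
    have h1 : cj u r = r⁻¹ := by
      rw [hr, cj, hui, ← mul_assoc u u v, hu, one_mul, mul_inv_rev, hui, hvi]
    rw [cj, ← conj_pow, ← cj, h1]
  have hrv : ∀ i : ℕ, cj v (r ^ i) = (r⁻¹) ^ i := fun i => by
    have h1 : cj v r = r⁻¹ := by
      rw [hr, cj, hvi, mul_assoc v, mul_assoc u v v, hv, mul_one, mul_inv_rev, hui, hvi]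
    rw [cj, ← conj_pow, ← cj, h1]
  have cu : ∀ i : ℕ, cj (r ^ i) u = r ^ (2 * i) * u := fun i => by
    have h := hru i
    rw [cj, hui, inv_pow] at h
    calc cj (r ^ i) u = r ^ i * (u * (r ^ i)⁻¹ * u) * u⁻¹ := by rw [cj]; group
      _ = r ^ i * (r ^ i) * u := by
          rw [hui, ← h]
          calc r ^ i * (u * (u * r ^ i * u) * u) * u = r ^ i * ((u * u) * r ^ i * (u * u)) * u := by group
            _ = _ := by rw [hu, one_mul, mul_one]
      _ = _ := by rw [← pow_add, ← two_mul]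
  have cv : ∀ i : ℕ, cj (r ^ i) v = r ^ (2 * i) * v := fun i => by
    have h := hrv i
    rw [cj, hvi, inv_pow] at h
    calc cj (r ^ i) v = r ^ i * (v * (r ^ i)⁻¹ * v) * v⁻¹ := by rw [cj]; group
      _ = r ^ i * (r ^ i) * v := by
          rw [hvi, ← h]
          calc r ^ i * (v * (v * r ^ i * v) * v) * v = r ^ i * ((v * v) * r ^ i * (v * v)) * v := by group
            _ = _ := by rw [hv, one_mul, mul_one]
      _ = _ := by rw [← pow_add, ← two_mul]
  have huv : u = r * v := by rw [hr, mul_assoc, hv, mul_one]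
  have hn := orderOf_pos r
  rcases Nat.even_or_odd' (orderOf r) with ⟨l, hl | hl⟩
  · right
    refine ⟨l, ?_⟩
    have hl0 : r ^ l ≠ 1 := fun h => by
      have := Nat.le_of_dvd (by omega) (orderOf_dvd_iff_pow_eq_one.mpr h)
      omega
    have hl2 : r ^ l * r ^ l = 1 := by rw [← pow_add, ← two_mul, ← hl, pow_orderOf_eq_one]
    have hinv : (r ^ l)⁻¹ = r ^ l := inv_eq_of_mul_eq_one_right hl2
    have hju : u * r ^ l = r ^ l * u := comm_of_cj (by rw [hru, inv_pow, hinv])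
    have hjv : v * r ^ l = r ^ l * v := comm_of_cj (by rw [hrv, inv_pow, hinv])
    refine ⟨hl0, hl2, hju.symm, hjv.symm, ?_⟩
    rcases Nat.even_or_odd' l with ⟨i, rfl | rfl⟩
    · exact Or.inl ⟨i, i, by rw [cu, hju], by rw [cv, hjv]⟩
    · refine Or.inr ⟨i + 1, i, ?_, ?_⟩
      · rw [cv, hju, pow_succ r (2 * i), mul_assoc, huv, ← mul_assoc r r v, ← pow_two, ← mul_assoc, ← pow_add]
        rfl
      · rw [cu, hjv, huv, ← mul_assoc, ← pow_succ]
  · refine Or.inl ⟨l + 1, ?_⟩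
    rw [cv, show 2 * (l + 1) = orderOf r + 1 by omega, pow_succ, pow_orderOf_eq_one, one_mul, ← huv]

namespace Fd

variable (D : Fd G) [Finite G]

theorem mu_conj {a b : G} (ha : a ∈ D.L.AA) (hb : b ∈ D.L.BB) :
    cj b a ∈ D.L.AA ∧ Lk.mu D.hs (cj b a) = Lk.mu D.hs a := by
  have e : cj b a = ⁅b, a⁆ * a := by rw [cj, commutatorElement_def]; group
  have h : ⁅b, a⁆ ∈ D.L.EE := by
    rw [← commutatorElement_inv]; exact inv_mem (Lk.comm_AB_mem ha hb)
  rw [e]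
  exact ⟨mul_mem (D.L.E_le_A h) ha,
    by rw [Lk.mu_mul D.hs (D.L.E_le_A h) ha, Lk.mu_E D.hs h, zero_add]⟩

/-- `p` shifts the coordinates of `B` into those of `A`. -/
theorem p_comb (l : Fin 3 → ZMod 2) :
    ∃ a ∈ D.L.AA, Lk.mu D.hs a = l ∧ cj D.p (Lk.comb D.x l) = a * Lk.comb D.x l := by
  have two : ∀ x : ZMod 2, x = 0 ∨ x = 1 := by decide
  have hone : ∀ m, ∃ a ∈ D.L.AA, Lk.mu D.hs a = Pi.single m (l m) ∧
      cj D.p (if l m = 0 then 1 else D.x m) = a * (if l m = 0 then 1 else D.x m) := fun m => by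
    rcases two (l m) with h | h <;> rw [h]
    · exact ⟨1, one_mem _, by rw [Lk.mu_one, Pi.single_zero], by simp [cj]⟩
    · refine ⟨D.k m, D.k_mem m, D.mu_k m, ?_⟩
      rw [if_neg one_ne_zero, D.p_x]
      exact comm_of_cj (D.x_k m)
  have hB : ∀ m, (if l m = 0 then 1 else D.x m) ∈ D.L.BB := fun m => by
    split_ifs; exacts [one_mem _, D.xB m]
  obtain ⟨a0, h0, m0, e0⟩ := hone 0
  obtain ⟨a1, h1, m1, e1⟩ := hone 1
  obtain ⟨a2, h2, m2, e2⟩ := hone 2
  unfold Lk.comb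
  generalize hb0 : (if l 0 = 0 then 1 else D.x 0) = b0 at e0 ⊢
  generalize hb1 : (if l 1 = 0 then 1 else D.x 1) = b1 at e1 ⊢
  generalize (if l 2 = 0 then 1 else D.x 2) = b2 at e2 ⊢
  have hb0B : b0 ∈ D.L.BB := hb0 ▸ hB 0
  have hb01B : b0 * b1 ∈ D.L.BB := mul_mem hb0B (hb1 ▸ hB 1)
  obtain ⟨i1, j1⟩ := D.mu_conj h1 hb0B
  obtain ⟨i2, j2⟩ := D.mu_conj h2 hb01B
  refine ⟨a0 * cj b0 a1 * cj (b0 * b1) a2, mul_mem (mul_mem h0 i1) i2, ?_, ?_⟩
  · rw [Lk.mu_mul D.hs (mul_mem h0 i1) i2, Lk.mu_mul D.hs h0 i1, j1, j2, m0, m1, m2]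
    funext i; fin_cases i <;> simp
  · rw [cj_mul, cj_mul, e0, e1, e2]
    unfold cj; group

theorem ρ_comb {r : S33} (hr : r ∈ Tbar) :
    Lk.comb D.x (Lk.bit r) ∈ D.L.BB ∧ D.L.H.ρ (Lk.comb D.x (Lk.bit r)) = r := by
  have hc := Lk.comb_mem D.xB (Lk.bit r)
  refine ⟨hc, Lk.eq_of_bit (Lk.ρ_B D.hs hc) hr fun a => ?_⟩
  have := Lk.comb_apply D.xB (fun u => Lk.bit (D.L.H.ρ u)) (by funext m; simp [Lk.bit, D.L.H.ρ_one])
    (fun u hu v hv => by
      funext m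
      rw [D.L.H.mul u v (D.L.BB_t hu) (D.L.BB_t hv)]
      exact Lk.bit_mul (Lk.ρ_B D.hs hu) (Lk.ρ_B D.hs hv) m) (Lk.bit r)
  simp only [D.bit_x] at this
  rw [Lk.single_sum] at this
  exact congrFun this a

end Fd

/-- A copy of Ω⁺₈(2) generated by the elements attached to `D`. -/
structure Cover (D : Fd G) where
  φ : O8.G0 →* G
  inj : Function.Injective φ
  φt : φ tM = D.t
  range : φ.range = Subgroup.closure (D.gens '' Set.Iio 8)

theorem Fd.exists_cover [Finite G] (D : Fd G) : Nonempty (Cover D) := by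
  obtain ⟨φ, h1, h2, h3⟩ := D.exists_sub
  exact ⟨⟨φ, h1, h2, h3⟩⟩

namespace Cover

variable {D : Fd G} (V : Cover D) [Finite G]

/-- The subgroup. -/
noncomputable abbrev G0 : Subgroup G := V.φ.range

theorem gens_mem (i : ℕ) (hi : i < 8) : D.gens i ∈ V.G0 := by
  rw [G0, V.range]; exact Subgroup.subset_closure ⟨i, hi, rfl⟩

theorem x_mem (a : Fin 3) : D.x a ∈ V.G0 := by
  fin_cases a
  exacts [V.gens_mem 0 (by norm_num), V.gens_mem 4 (by norm_num), V.gens_mem 6 (by norm_num)]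

theorem Y_mem (a : Fin 3) : D.Y a ∈ V.G0 := by
  fin_cases a
  exacts [V.gens_mem 1 (by norm_num), V.gens_mem 5 (by norm_num), V.gens_mem 7 (by norm_num)]

theorem c_mem (a : Fin 3) : D.c a ∈ V.G0 := D.xY a ▸ mul_mem (V.x_mem a) (V.Y_mem a)

theorem p_mem : D.p ∈ V.G0 := V.gens_mem 2 (by norm_num)

theorem t_mem : D.t ∈ V.G0 := ⟨tM, V.φt⟩

theorem cj_mem {g u : G} (hg : g ∈ V.G0) (hu : u ∈ V.G0) : cj g u ∈ V.G0 :=
  mul_mem (mul_mem hg hu) (inv_mem hg)

theorem n_mem : D.n ∈ V.G0 := mul_mem (mul_mem V.p_mem (V.gens_mem 3 (by norm_num))) V.p_mem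

theorem s_mem : D.s ∈ V.G0 := D.n_t ▸ V.cj_mem V.n_mem V.t_mem

theorem e_mem (a : Fin 3) : D.e a ∈ V.G0 := V.cj_mem (V.c_mem a) V.s_mem

theorem k_mem (a : Fin 3) : D.k a ∈ V.G0 := V.cj_mem (mul_mem (V.c_mem _) (V.c_mem _)) V.s_mem

theorem Q_le {q : G} (hq : q ∈ D.L.H.Q) : q ∈ V.G0 := by
  have hE : ∀ u ∈ D.L.EE, u ∈ V.G0 := fun u hu => by
    obtain ⟨v, hv, hu'⟩ := D.E_basis hu
    rw [hu']
    refine mul_mem ?_ (Lk.comb_mem V.e_mem _)
    rcases hv with rfl | rfl | rfl | rfl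
    exacts [one_mem _, V.t_mem, V.s_mem, mul_mem V.s_mem V.t_mem]
  have hA : ∀ a ∈ D.L.AA, a ∈ V.G0 := fun a ha => by
    have hc := Lk.comb_mem D.k_mem (Lk.mu D.hs a)
    have hmu : Lk.mu D.hs (Lk.comb D.k (Lk.mu D.hs a)) = Lk.mu D.hs a := by
      rw [Lk.comb_apply D.k_mem (Lk.mu D.hs) (Lk.mu_one D.hs) (fun x hx y hy => Lk.mu_mul D.hs hx hy), D.mu_k,
        D.mu_k, D.mu_k, Lk.single_sum]
    have h : a * Lk.comb D.k (Lk.mu D.hs a) ∈ D.L.EE := Lk.mu_ker D.hs (mul_mem ha hc)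
      (by rw [Lk.mu_mul D.hs ha hc, hmu, ZModModule.add_self])
    have hc' : Lk.comb D.k (Lk.mu D.hs a) ∈ V.G0 := Lk.comb_mem V.k_mem _
    simpa using mul_mem (hE _ h) (inv_mem hc')
  rcases D.L.cfg.q_conj hq with h | h
  · exact hA q (Cfg.mem_A.mpr ⟨hq, comm_of_cj h⟩)
  · have h2 : cj (D.p * q) D.s = D.s := by
      rw [← cj_cj, show cj q D.s = D.s * D.t from h, cj_mul, D.p_s, cj_of_comm D.p_t, mul_assoc, D.tt, mul_one]
    have := hA _ (Cfg.mem_A.mpr ⟨mul_mem D.p_mem_Q hq, comm_of_cj h2⟩)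
    simpa using mul_mem (inv_mem V.p_mem) this

theorem exists_lift (r : S33) : ∃ h ∈ V.G0, h * D.t = D.t * h ∧ D.L.H.ρ h = r := by
  have hmul : ∀ r r', (∃ h ∈ V.G0, h * D.t = D.t * h ∧ D.L.H.ρ h = r) →
      (∃ h ∈ V.G0, h * D.t = D.t * h ∧ D.L.H.ρ h = r') → ∃ h ∈ V.G0, h * D.t = D.t * h ∧ D.L.H.ρ h = r * r' := by
    rintro r r' ⟨h, h1, h2, rfl⟩ ⟨h', h1', h2', rfl⟩
    exact ⟨h * h', mul_mem h1 h1', (Commute.mul_left h2 h2').eq, D.L.H.mul h h' h2 h2'⟩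
  have hsb : ∀ a, ∃ h ∈ V.G0, h * D.t = D.t * h ∧ D.L.H.ρ h = Pi.mulSingle a σ₃ := fun a =>
    ⟨D.x a, V.x_mem a, D.L.BB_t (D.xB a), D.xρ a⟩
  have hgm : ∀ a, ∃ h ∈ V.G0, h * D.t = D.t * h ∧ D.L.H.ρ h = Pi.mulSingle a γ₃ := fun a =>
    ⟨D.c a, V.c_mem a, D.ct a, D.cρ a⟩
  have hone : ∀ a (p : Equiv.Perm (Fin 3)), ∃ h ∈ V.G0, h * D.t = D.t * h ∧ D.L.H.ρ h = Pi.mulSingle a p := by
    intro a p
    rcases perm3_cases p with rfl | rfl | rfl | rfl | rfl | rfl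
    · exact ⟨1, one_mem _, by simp, by rw [D.L.H.ρ_one, Pi.mulSingle_one]⟩
    · exact hsb a
    · exact hgm a
    · rw [Pi.mulSingle_mul]; exact hmul _ _ (hgm a) (hgm a)
    · rw [Pi.mulSingle_mul]; exact hmul _ _ (hsb a) (hgm a)
    · rw [Pi.mulSingle_mul, Pi.mulSingle_mul]; exact hmul _ _ (hsb a) (hmul _ _ (hgm a) (hgm a))
  have e : r = Pi.mulSingle 0 (r 0) * Pi.mulSingle 1 (r 1) * Pi.mulSingle 2 (r 2) := by
    funext i; fin_cases i <;> simp
  rw [e]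
  exact hmul _ _ (hmul _ _ (hone 0 _) (hone 1 _)) (hone 2 _)

theorem cent_le {g : G} (hg : g * D.t = D.t * g) : g ∈ V.G0 := by
  obtain ⟨h, h1, h2, h3⟩ := V.exists_lift (D.L.H.ρ g)
  simpa using mul_mem h1 (V.Q_le (D.L.H.mem_of_ρ_eq h2 hg h3))

/-! ### Fusion of the class of `t` -/

theorem fusion_Q {g : G} (hu : cj g D.t ∈ D.L.H.Q) : ∃ h ∈ V.G0, cj h D.t = cj g D.t := by
  rcases eq_or_ne (cj g D.t) D.t with h | h
  · exact ⟨1, one_mem _, by rw [h]; simp [cj]⟩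
  · obtain ⟨h', h1, h2⟩ := Lk.orbit D.hs hu h
    exact ⟨h' * D.n, mul_mem (V.cent_le h1) V.n_mem, by rw [← cj_cj, D.n_t]; exact h2⟩

theorem fusion_comb {g : G} {r : S33} (hr : r ∈ Tbar) {q : G} (hq : q ∈ D.L.H.Q)
    (hu : cj g D.t = q * Lk.comb D.x (Lk.bit r)) : ∃ h ∈ V.G0, cj h D.t = cj g D.t := by
  set X := Lk.comb D.x (Lk.bit r) with hX
  obtain ⟨hXB, hXρ⟩ := D.ρ_comb hr
  rw [← hX] at hXB hXρ
  by_cases hr1 : ∀ a, Lk.bit r a = 0
  · refine V.fusion_Q ?_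
    rw [hu, show X = 1 by simp [hX, Lk.comb, hr1], mul_one]
    exact hq
  push Not at hr1
  obtain ⟨a, ha⟩ := hr1
  have two : ∀ x : ZMod 2, x ≠ 0 → x = 1 := by decide
  have huu : q * X * (q * X) = 1 := by rw [← hu, ← cj_mul, D.tt, cj_one]
  -- `q` centralises `s`
  have hXs : cj X D.s = D.s := cj_of_comm (D.L.BB_s hXB)
  have hXt : cj X D.t = D.t := cj_of_comm (D.L.BB_t hXB)
  have hXe : cj X (D.e a) = D.s * D.e a := by
    have h1 := Lk.pair_B D.hs (D.e_mem a) hXB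
    rw [D.lam_e, Lk.single_dot, hXρ, two _ ha] at h1
    have hne : ⁅D.e a, X⁆ = D.s := (D.L.comm_E_B (D.e_mem a) hXB).resolve_left fun h => by
      rw [h, ind_one] at h1; exact zero_ne_one h1
    have h2 : ⁅X, D.e a⁆ = D.s := by rw [← commutatorElement_inv, hne, inv_eq_of_mul_eq_one_right D.ss]
    rw [← h2, cj, commutatorElement_def]; group
  have hXq : cj X q = q⁻¹ := by
    have hXX : X * X ∈ D.L.H.Q := by
      rw [← D.L.H.ker _ (Commute.mul_left (D.L.BB_t hXB) (D.L.BB_t hXB)).eq,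
        D.L.H.mul X X (D.L.BB_t hXB) (D.L.BB_t hXB), hXρ, (Tbar_comm hr hr).2]
    have hX2 : X * X = 1 := by
      rw [hX]
      unfold Lk.comb
      have sq : ∀ m, (if Lk.bit r m = 0 then 1 else D.x m) * (if Lk.bit r m = 0 then 1 else D.x m) = 1 :=
        fun m => by split_ifs; exacts [one_mul 1, D.xx m]
      have cm : ∀ m m', Commute (if Lk.bit r m = 0 then 1 else D.x m) (if Lk.bit r m' = 0 then 1 else D.x m') :=
        fun m m' => by
          split_ifs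
          exacts [Commute.one_left _, Commute.one_left _, Commute.one_right _, D.xcomm m m']
      rw [((cm 2 0).mul_right (cm 2 1)).mul_mul_mul_comm, (cm 1 0).mul_mul_mul_comm, sq, sq, sq, one_mul, one_mul]
    calc cj X q = q⁻¹ * (q * X * (q * X)) * (X * X)⁻¹ := by rw [cj]; group
      _ = q⁻¹ := by rw [huu, hX2]; simp
  have hqs : q * D.s = D.s * q := by
    refine commutatorElement_eq_one_iff_mul_comm.mp ?_
    have hse : D.s * D.e a ∈ D.L.H.Q := mul_mem D.L.cfg.s_mem (D.e_mem_Q a)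
    have h1 : cj X ⁅q, D.e a⁆ = ⁅q, D.e a⁆ := by
      rcases D.L.H.data.comm q hq _ (D.e_mem_Q a) with h | h <;> rw [h]
      exacts [cj_one X, hXt]
    rw [cj_commutator, hXq, hXe] at h1
    have h2 : ⁅q⁻¹, D.s * D.e a⁆ = ⁅q, D.s * D.e a⁆ := by
      have := D.L.H.data.comm_mul_left (D.L.H.Q.inv_mem hq) hq hse
      rw [inv_mul_cancel, commutatorElement_def, one_mul, inv_one, mul_one, mul_inv_cancel] at this
      rw [eq_inv_of_mul_eq_one_left this.symm]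
      rcases D.L.H.data.comm q hq _ hse with h | h <;> rw [h]
      · exact inv_one
      · exact inv_eq_of_mul_eq_one_right D.tt
    rw [h2] at h1
    have h3 : ⁅q, D.s * D.e a⁆ = ⁅q, D.s⁆ * ⁅q, D.e a⁆ := by
      rw [show ⁅q, D.s * D.e a⁆ = ⁅q, D.s⁆ * cj D.s ⁅q, D.e a⁆ by simp only [cj, commutatorElement_def]; group]
      rcases D.L.H.data.comm q hq _ (D.e_mem_Q a) with h | h <;> rw [h]
      · rw [cj_one]
      · rw [cj_of_comm D.ts.symm]
    rw [h3] at h1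
    exact mul_eq_right.mp h1
  have hqA : q ∈ D.L.AA := Cfg.mem_A.mpr ⟨hq, hqs⟩
  have hcr := (Lk.lam_sq D.hs hqA hXB).2
  rw [huu, Lk.lam_one, hXρ] at hcr
  have dec : ∀ u v : Fin 3 → ZMod 2, Lk.cross u v = 0 → v ≠ 0 → u = 0 ∨ u = v := by decide +kernel
  have hP : ∀ g' : G, cj g' D.t ∈ D.L.BB → ∃ h ∈ V.G0, cj h D.t = cj g' D.t := fun g' hB => by
    have hQ : cj (D.n * g') D.t ∈ D.L.H.Q := by rw [← cj_cj]; exact D.n_Q (Cfg.mem_A.mp hB).1
    obtain ⟨h, h1, h2⟩ := V.fusion_Q hQ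
    exact ⟨D.n * h, mul_mem V.n_mem h1, by rw [← cj_cj, h2, ← cj_cj, cj_self D.n_sq]⟩
  rcases dec _ _ hcr.symm (fun h => ha (congrFun h a)) with h0 | h0
  · refine hP g ?_
    rw [hu]
    exact mul_mem (D.L.E_le_B (Lk.mu_ker D.hs hqA h0)) hXB
  · obtain ⟨a', ha', hm', he'⟩ := D.p_comb (Lk.bit r)
    rw [← hX] at he'
    have hpq : cj D.p q ∈ D.L.AA ∧ Lk.mu D.hs (cj D.p q) = Lk.mu D.hs q := by
      have e : cj D.p q = ⁅D.p, q⁆ * q := by rw [cj, commutatorElement_def]; group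
      rcases D.L.H.data.comm _ D.p_mem_Q q hq with h | h <;> rw [e, h]
      · rw [one_mul]; exact ⟨hqA, rfl⟩
      · exact ⟨mul_mem (D.L.E_le_A D.L.cfg.z_mem_E) hqA,
          by rw [Lk.mu_mul D.hs (D.L.E_le_A D.L.cfg.z_mem_E) hqA, Lk.mu_E D.hs D.L.cfg.z_mem_E, zero_add]⟩
    obtain ⟨h, h1, h2⟩ := hP (D.p * g) (by
      rw [← cj_cj, hu, cj_mul, he', ← mul_assoc]
      refine mul_mem (D.L.E_le_B (Lk.mu_ker D.hs (mul_mem hpq.1 ha') ?_)) hXB
      rw [Lk.mu_mul D.hs hpq.1 ha', hpq.2, hm', h0, ZModModule.add_self])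
    exact ⟨D.p * h, mul_mem V.p_mem h1, by rw [← cj_cj, h2, ← cj_cj, cj_self D.p_sq]⟩

theorem fusion_cent {g : G} (hc : cj g D.t * D.t = D.t * cj g D.t) : ∃ h ∈ V.G0, cj h D.t = cj g D.t := by
  set u := cj g D.t with hu
  have huu : D.L.H.ρ u * D.L.H.ρ u = 1 := by
    rw [← D.L.H.mul u u hc hc, hu, ← cj_mul, D.tt, cj_one, D.L.H.ρ_one]
  choose w hw using fun a => perm3_invol (D.L.H.ρ u a) (congrFun huu a)
  obtain ⟨h, h1, h2, h3⟩ := V.exists_lift w
  have hr : D.L.H.ρ (cj h u) ∈ Tbar := by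
    rw [cj, D.L.H.ρ_conj h2 hc, h3]
    exact mem_Tbar.mpr hw
  set r := D.L.H.ρ (cj h u) with hrdef
  set X := Lk.comb D.x (Lk.bit r)
  obtain ⟨hXB, hXρ⟩ := D.ρ_comb hr
  have hct : cj h u * D.t = D.t * cj h u :=
    (Commute.mul_left (Commute.mul_left h2 hc) (Commute.inv_left h2)).eq
  have hq : cj h u * X⁻¹ ∈ D.L.H.Q := by
    rw [← D.L.H.ker _ (Commute.mul_left hct (Commute.inv_left (D.L.BB_t hXB))).eq,
      D.L.H.mul _ _ hct (Commute.inv_left (D.L.BB_t hXB)).eq, D.L.H.ρ_inv (D.L.BB_t hXB), hXρ, ← hrdef,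
      mul_inv_cancel]
  obtain ⟨k, k1, k2⟩ := V.fusion_comb (g := h * g) hr hq (by rw [← cj_cj, inv_mul_cancel_right])
  exact ⟨h⁻¹ * k, mul_mem (inv_mem h1) k1, by rw [← cj_cj, k2, ← cj_cj, cj_inv_left]⟩

theorem card_G0 : Nat.card V.G0 = 174182400 := by
  rw [← O8.natCard_g0]
  exact (Nat.card_congr (MonoidHom.ofInjective V.inj).toEquiv).symm

/-- An involution of the subgroup commutes with a conjugate of `t` inside it. -/
theorem exists_comm_t {u : G} (hu : u ∈ V.G0) (huu : u * u = 1) :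
    ∃ h ∈ V.G0, cj h u * D.t = D.t * cj h u := by
  classical
  have : Fact (Nat.Prime 2) := ⟨Nat.prime_two⟩
  set C := Subgroup.centralizer ({D.t} : Set G) with hC
  have hmem : ∀ g : C, (g : G) * D.t = D.t * g := fun g => Subgroup.mem_centralizer_singleton_iff.mp g.2
  let π : C →* S33 :=
    { toFun := fun g => D.L.H.ρ g
      map_one' := D.L.H.ρ_one
      map_mul' := fun a b => D.L.H.mul _ _ (hmem a) (hmem b) }
  have hπs : Function.Surjective π := fun r => by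
    obtain ⟨g, hg, hr⟩ := D.L.H.surj r
    exact ⟨⟨g, Subgroup.mem_centralizer_singleton_iff.mpr hg⟩, hr⟩
  have hker : Nat.card π.ker = 512 := by
    rw [← D.L.H.card]
    refine Nat.card_eq_of_bijective (fun g : π.ker => (⟨((g : C) : G), (D.L.H.ker _ (hmem g.1)).mp g.2⟩ : D.L.H.Q))
      ⟨fun a b h => ?_, fun q => ?_⟩
    · simp only [Subtype.mk.injEq] at h
      exact Subtype.ext (Subtype.ext h)
    · exact ⟨⟨⟨q, Subgroup.mem_centralizer_singleton_iff.mpr (D.L.H.ct q.2)⟩, D.L.H.ρ_Q q.2⟩, rfl⟩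
  have hCcard : Nat.card C = 2 ^ 12 * 27 := by
    have h := Subgroup.card_eq_card_quotient_mul_card_subgroup π.ker
    rw [← Subgroup.index_eq_card, Subgroup.index_ker, hker, MonoidHom.range_eq_top.mpr hπs,
      Subgroup.card_top, card_S33] at h
    rw [h]; norm_num
  have hfac : ∀ m : ℕ, ¬ 2 ∣ m → (2 ^ 12 * m).factorization 2 = 12 := fun m hm => by
    rw [Nat.factorization_mul (by norm_num) (fun h => hm (by rw [h]; exact dvd_zero 2)), Finsupp.add_apply,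
      Nat.Prime.factorization_pow Nat.prime_two, Finsupp.single_eq_same, Nat.factorization_eq_zero_of_not_dvd hm]
  let P : Sylow 2 C := default
  have hP : Nat.card P = 2 ^ 12 := by rw [P.card_eq_multiplicity, hCcard, hfac 27 (by norm_num)]
  set P' := (P : Subgroup C).map C.subtype with hP'
  have hle : P' ≤ V.G0 := by
    rintro _ ⟨y, -, rfl⟩; exact V.cent_le (hmem y)
  let S0 : Sylow 2 V.G0 := Sylow.ofCard (P'.subgroupOf V.G0) (by
    rw [Nat.card_congr (Subgroup.subgroupOfEquivOfLe hle).toEquiv,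
      Subgroup.card_map_of_injective C.subtype_injective, V.card_G0,
      show (174182400 : ℕ) = 2 ^ 12 * 42525 by norm_num, hfac 42525 (by norm_num)]
    exact hP)
  obtain ⟨S, hS⟩ := IsPGroup.exists_le_sylow (G := V.G0) (p := 2) (P := Subgroup.zpowers (⟨u, hu⟩ : V.G0)) (by
    intro x
    obtain ⟨n, hn⟩ := Subgroup.mem_zpowers_iff.mp x.2
    refine ⟨1, Subtype.ext ?_⟩
    rw [Subgroup.coe_pow, Subgroup.coe_one, ← hn, pow_one, ← zpow_natCast, ← zpow_mul, mul_comm, zpow_mul,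
      zpow_natCast, pow_two, show (⟨u, hu⟩ : V.G0) * ⟨u, hu⟩ = 1 from Subtype.ext huu, one_zpow])
  obtain ⟨h, hh⟩ := MulAction.exists_smul_eq V.G0 S S0
  refine ⟨h, h.2, ?_⟩
  have h1 : h * (⟨u, hu⟩ : V.G0) * h⁻¹ ∈ (S0 : Subgroup V.G0) := by
    rw [← hh, Sylow.coe_subgroup_smul, Subgroup.pointwise_smul_def]
    exact ⟨_, hS (Subgroup.mem_zpowers _), rfl⟩
  obtain ⟨z, -, hz⟩ : cj (h : G) u ∈ P' := h1
  rw [← hz]
  exact hmem z

theorem fusion {g : G} (hg : cj g D.t ∈ V.G0) : ∃ h ∈ V.G0, cj h D.t = cj g D.t := by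
  obtain ⟨h, h1, h2⟩ := V.exists_comm_t hg (by rw [← cj_mul, D.tt, cj_one])
  rw [cj_cj] at h2
  obtain ⟨k, k1, k2⟩ := V.fusion_cent h2
  exact ⟨h⁻¹ * k, mul_mem (inv_mem h1) k1, by rw [← cj_cj, k2, ← cj_cj, cj_inv_left]⟩

/-- The subgroup is the unique point fixed by its members of the class. -/
theorem unique {g : G} (hg : cj g D.t ∈ V.G0) : g ∈ V.G0 := by
  obtain ⟨h, h1, h2⟩ := V.fusion hg
  have h3 : (h⁻¹ * g) * D.t = D.t * (h⁻¹ * g) := comm_of_cj (by rw [← cj_cj, ← h2, cj_inv_left])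
  simpa using mul_mem h1 (V.cent_le h3)

/-- Conjugate to `t`. -/
def IsT (_V : Cover D) (w : G) : Prop := ∃ g, cj g D.t = w

theorem IsT.cj {w : G} (h : V.IsT w) (g : G) : V.IsT (OmegaEight.cj g w) := by
  obtain ⟨g', rfl⟩ := h
  exact ⟨g * g', (cj_cj _ _ _).symm⟩

theorem isT_iff (x : O8.G0) : V.IsT (V.φ x) ↔ InT x := by
  constructor
  · rintro ⟨g, hg⟩
    obtain ⟨h, ⟨h', rfl⟩, h2⟩ := V.fusion (g := g) (hg ▸ ⟨x, rfl⟩)
    exact ⟨h', V.inj (by rw [map_mul, map_mul, map_inv, V.φt, ← hg, ← h2]; rfl)⟩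
  · rintro ⟨h, rfl⟩
    exact ⟨V.φ h, by rw [map_mul, map_mul, map_inv, V.φt]; rfl⟩

/-- The centraliser lies in the subgroup. -/
def CentLe (x : G) : Prop := ∀ w, w * x = x * w → w ∈ V.G0

theorem CentLe.cj {x : G} (hx : V.CentLe x) {g : G} (hg : g ∈ V.G0) : V.CentLe (OmegaEight.cj g x) := by
  intro w hw
  have h := hx (OmegaEight.cj g⁻¹ w) (by
    have := cj_comm g⁻¹ hw
    rwa [cj_inv_left] at this)
  have := V.cj_mem hg h
  rwa [cj_inv_right] at this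

theorem centLe_t {x : O8.G0} (hx : InT x) : V.CentLe (V.φ x) := by
  obtain ⟨h, rfl⟩ := hx
  have : V.φ (h * tM * h⁻¹) = OmegaEight.cj (V.φ h) D.t := by rw [map_mul, map_mul, map_inv, V.φt]; rfl
  rw [this]
  exact CentLe.cj V (fun w hw => V.cent_le hw) ⟨h, rfl⟩

theorem centLe_rM (k : Fin 4) : V.CentLe (V.φ (rM k)) := by
  obtain ⟨y0, y0', hy, hy', hcy, hcy', hny, hny', hP, hall⟩ := crit k
  set r := V.φ (rM k) with hr
  have hrr : r * r = 1 := by rw [hr, ← map_mul, rM_sq, map_one]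
  set y := V.φ y0 with hyd
  set y' := V.φ y0' with hyd'
  have hc : ∀ {a b : O8.G0}, a * b = b * a → V.φ a * V.φ b = V.φ b * V.φ a := fun h => by
    rw [← map_mul, ← map_mul, h]
  have hc' : ∀ {a b : O8.G0}, V.φ a * V.φ b = V.φ b * V.φ a → a * b = b * a := fun h =>
    V.inj (by rw [map_mul, map_mul, h])
  obtain ⟨g, hg⟩ := (V.isT_iff y0).mpr hy
  obtain ⟨g', hg'⟩ := (V.isT_iff y0').mpr hy'
  have hyy' : y' * y' = 1 := by rw [hyd', ← hg', ← cj_mul, D.tt, cj_one]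
  -- a conjugator between members of the class centralising `r` lies in the subgroup
  have back : ∀ d : G, ∀ g1, cj g1 D.t = y ∨ cj g1 D.t = y' → cj d (cj g1 D.t) ∈ V.G0 → d ∈ V.G0 := by
    intro d g1 h1 h2
    have hg1 : g1 ∈ V.G0 := V.unique (by rcases h1 with e | e <;> rw [e]; exacts [⟨y0, rfl⟩, ⟨y0', rfl⟩])
    rw [cj_cj] at h2
    simpa using mul_mem (V.unique h2) (inv_mem hg1)
  have key : ∀ d, d * r = r * d → cj d y ∈ V.G0 := by
    intro d hd
    by_contra hw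
    set w := cj d y with hwdef
    have hwT : V.IsT w := IsT.cj V ⟨g, hg⟩ d
    obtain ⟨gw, hgw⟩ := hwT
    have hww : w * w = 1 := by rw [← hgw, ← cj_mul, D.tt, cj_one]
    have hwr : Commute w r := by
      have := cj_comm d (hc hcy).symm
      rwa [cj_of_comm hd] at this
    have hy'r : Commute y' r := (hc hcy').symm
    have hρr : ∀ i : ℕ, Commute ((w * y') ^ i) r := fun i => (hwr.mul_left hy'r).pow_left i
    rcases dihedral hww hyy' with ⟨i, hi⟩ | ⟨l, hl1, hl2, hlw, hly, hcl⟩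
    · set d' := ((w * y') ^ i)⁻¹ * d with hd'
      have h1 : cj d' y = y' := by
        calc cj d' y = cj ((w * y') ^ i)⁻¹ w := by rw [hd', ← cj_cj]
          _ = cj ((w * y') ^ i)⁻¹ (cj ((w * y') ^ i) y') := congrArg _ hi.symm
          _ = y' := cj_inv_left _ _
      obtain ⟨d0, hd0⟩ := back d' g (Or.inl hg) (by rw [hg, h1]; exact ⟨y0', rfl⟩)
      have hcd : d0 * rM k = rM k * d0 := hc' (by
        rw [hd0, hd', ← hr]; exact ((hρr i).inv_left.mul_left hd).eq)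
      have hy0 : d0 * y0 * d0⁻¹ = y0' := V.inj (by rw [map_mul, map_mul, map_inv, hd0]; exact h1)
      have hcd' : d0⁻¹ * rM k = rM k * d0⁻¹ := (Commute.inv_left hcd).eq
      apply hP
      constructor <;> intro h
      · have := h.conj d0
        rwa [show d0 * (rM k * y0) * d0⁻¹ = rM k * (d0 * y0 * d0⁻¹) by rw [← mul_assoc, hcd]; group, hy0] at this
      · have := h.conj d0⁻¹
        rw [← hy0] at this
        rwa [inv_inv, show d0⁻¹ * (rM k * (d0 * y0 * d0⁻¹)) * d0 = rM k * y0 by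
          rw [← mul_assoc, hcd']; group] at this
    · set j := (w * y') ^ l with hj
      set z := y' * j with hz
      have hjy : j * y' = y' * j := hly.eq
      have hzG : z ∈ V.G0 := V.centLe_t hy' z ((Commute.mul_left (Commute.refl y') hly).eq)
      obtain ⟨d1, v, hd1, hv, hvz⟩ : ∃ d1 v, d1 * r = r * d1 ∧ (v = y ∨ v = y') ∧ cj d1 v = z := by
        rcases hcl with ⟨i, i', -, h2⟩ | ⟨i, i', -, h2⟩
        · exact ⟨_, y', hρr i', Or.inr rfl, h2⟩
        · exact ⟨(w * y') ^ i' * d, y, ((hρr i').mul_left hd).eq, Or.inl rfl, by rw [← cj_cj]; exact h2⟩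
      obtain ⟨z0, hz0⟩ := hzG
      have hzT : InT z0 := (V.isT_iff z0).mp (by
        rw [hz0, ← hvz]
        rcases hv with e | e <;> rw [e]
        exacts [IsT.cj V ⟨g, hg⟩ _, IsT.cj V ⟨g', hg'⟩ _])
      have hzr : rM k * z0 = z0 * rM k := hc' (by
        rw [hz0, ← hr]; exact ((hy'r.mul_left (hρr l))).symm.eq)
      have hzy : y0' * z0 = z0 * y0' := hc' (by
        rw [hz0, ← hyd']; exact ((Commute.refl y').mul_right hly.symm).eq)
      have hne : z0 ≠ y0' := fun h => by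
        rw [h, ← hyd'] at hz0
        exact hl1 (left_eq_mul.mp hz0)
      have hjG : j ∈ V.G0 := V.centLe_t hy' j hjy
      rcases hall z0 hzT hzr hzy hne with h | h | h
      · obtain ⟨d0, hd0⟩ : d1 ∈ V.G0 := by
          rcases hv with rfl | rfl
          · exact back d1 g (Or.inl hg) (by rw [hg, hvz]; exact ⟨z0, hz0⟩)
          · exact back d1 g' (Or.inr hg') (by rw [hg', hvz]; exact ⟨z0, hz0⟩)
        have hcd : d0 * rM k = rM k * d0 := hc' (by rw [hd0, ← hr, hd1])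
        have hh : ∀ v0, d0 * v0 * d0⁻¹ = z0 → InT (rM k * v0) := fun v0 e => by
          have := h.conj d0⁻¹
          rw [← e] at this
          rwa [inv_inv, show d0⁻¹ * (rM k * (d0 * v0 * d0⁻¹)) * d0 = rM k * v0 by
            rw [← mul_assoc, (Commute.inv_left hcd).eq]; group] at this
        rcases hv with rfl | rfl
        · exact hny (hh y0 (V.inj (by rw [map_mul, map_mul, map_inv, hd0, hz0]; exact hvz)))
        · exact hny' (hh y0' (V.inj (by rw [map_mul, map_mul, map_inv, hd0, hz0]; exact hvz)))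
      · refine hw (?_ : w ∈ V.G0)
        refine V.centLe_t h w ?_
        rw [map_mul, hz0, ← hyd', hz, show y' * (y' * j) = j by rw [← mul_assoc, hyy', one_mul]]
        exact hlw.eq.symm
      · refine hw (?_ : w ∈ V.G0)
        refine V.centLe_t h w ?_
        rw [map_mul, map_mul, hz0, ← hyd', ← hr, hz, ← mul_assoc y', hyy', one_mul]
        exact (hwr.mul_right hlw.symm).eq
  intro d hd
  exact back d g (Or.inl hg) (by rw [hg]; exact key d hd)

theorem centLe_good {x : O8.G0} (hx : Good x) : V.CentLe (V.φ x) := by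
  rcases hx with h | ⟨k, h, hk⟩
  · exact V.centLe_t h
  · have := CentLe.cj V (V.centLe_rM k) (g := (V.φ h)⁻¹) (inv_mem ⟨h, rfl⟩)
    rwa [← hk, map_mul, map_mul, map_inv, show V.φ h * V.φ x * (V.φ h)⁻¹ = OmegaEight.cj (V.φ h) (V.φ x) from rfl,
      cj_inv_left] at this

/-- A good element is conjugated into the subgroup by members only. -/
theorem conj_good {x : O8.G0} (hx : Good x) (hxx : x * x = 1) {g : G} (hg : OmegaEight.cj g (V.φ x) ∈ V.G0) :
    g ∈ V.G0 := by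
  obtain ⟨h, h1, h2⟩ := V.exists_comm_t hg (by rw [← cj_mul, ← map_mul, hxx, map_one, cj_one])
  rw [cj_cj] at h2
  have h3 := V.centLe_good hx (OmegaEight.cj (h * g)⁻¹ D.t) (by
    have := cj_comm (h * g)⁻¹ h2.symm
    rwa [cj_inv_left] at this)
  have h4 := inv_mem (V.unique h3)
  rw [inv_inv] at h4
  simpa using mul_mem (inv_mem h1) h4

theorem all_T {w : G} (hw : V.IsT w) : w ∈ V.G0 := by
  by_contra hwn
  obtain ⟨g, hg⟩ := hw
  have hww : w * w = 1 := by rw [← hg, ← cj_mul, D.tt, cj_one]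
  set u := V.φ (rM 0) with hu
  have huu : u * u = 1 := by rw [hu, ← map_mul, rM_sq, map_one]
  have hnT : ¬ V.IsT u := fun h => rM_not_InT 0 ((V.isT_iff _).mp h)
  have huC : V.CentLe u := V.centLe_rM 0
  rcases dihedral huu hww with ⟨i, hi⟩ | ⟨l, hl1, hl2, hlu, hlw, hcl⟩
  · exact hnT (hi ▸ IsT.cj V ⟨g, hg⟩ _)
  set i := (u * w) ^ l with hidef
  have hiG : i ∈ V.G0 := huC i hlu.eq
  rcases hcl with ⟨m, m', -, h2⟩ | ⟨m, m', h2, -⟩
  · -- `w i` is in the class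
    set z := OmegaEight.cj g⁻¹ (w * i) with hz
    have hzc : Commute z D.t := by
      have hc : (w * i) * w = w * (w * i) := by rw [mul_assoc, hlw.eq]
      have := cj_comm g⁻¹ hc
      rwa [show OmegaEight.cj g⁻¹ w = D.t by rw [← hg, cj_inv_left]] at this
    obtain ⟨z0, hz0⟩ := V.cent_le hzc.eq
    have hzT : InT z0 := (V.isT_iff z0).mp (hz0 ▸ IsT.cj V (h2 ▸ IsT.cj V ⟨g, hg⟩ _) _)
    have hcz : tM * z0 = z0 * tM := V.inj (by rw [map_mul, map_mul, V.φt, hz0]; exact hzc.eq.symm)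
    have hne : z0 ≠ tM := fun h => by
      rw [h, V.φt, hz] at hz0
      refine hl1 (mul_left_cancel (a := w) ?_)
      rw [mul_one, ← cj_inv_right g (w * i), ← hz0, hg]
    have hx : V.φ (tM * z0) = OmegaEight.cj g⁻¹ i := by
      rw [map_mul, V.φt, hz0, hz, ← show OmegaEight.cj g⁻¹ w = D.t by rw [← hg, cj_inv_left], ← cj_mul,
        ← mul_assoc, hww, one_mul]
    have hg0 := V.conj_good (pairs hzT hcz hne) (V.inj (by
      rw [map_mul, map_one, hx, ← cj_mul, hl2, cj_one])) (g := g) (by rw [hx, cj_inv_right]; exact hiG)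
    exact hwn (hg ▸ V.cj_mem hg0 V.t_mem)
  · -- `u i` is in the class
    set z := u * i with hz
    have hzu : Commute z u := (Commute.refl u).mul_left hlu
    obtain ⟨z0, hz0⟩ := huC z hzu.eq
    have hzT : InT z0 := (V.isT_iff z0).mp (hz0 ▸ h2 ▸ IsT.cj V ⟨g, hg⟩ _)
    have hcz : rM 0 * z0 = z0 * rM 0 := V.inj (by rw [map_mul, map_mul, ← hu, hz0]; exact hzu.eq.symm)
    refine hwn (V.centLe_good (final hzT hcz) w ?_)
    rw [map_mul, ← hu, hz0, hz, show u * (u * i) = i by rw [← mul_assoc, huu, one_mul]]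
    exact hlw.eq.symm

theorem top : V.G0 = ⊤ := by
  rw [eq_top_iff]
  intro g _
  exact V.unique (V.all_T ⟨g, rfl⟩)

end Cover

end Cfsg.Agent.OmegaEight
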