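import Cfsg.Agent.Lib.OmegaEight.ClassData

/-
The root class of Ω⁺₈(2) from a certificate, and the facts needed about four further involution classes:
`tM`, `InT`, `rM`, `Good`, `rM_sq`, `rM_not_InT`, `crit`, `pairs`, `final`.
-/

set_option autoImplicit false
set_option maxRecDepth 100000
set_option linter.style.haveILetI false

namespace Cfsg.Agent.OmegaEight

open Cfsg.Agent.Multiplier Cfsg.Agent.BitMat

/-- Bytes of a code. -/
def unpk (v : ℕ) : List ℕ :=
  [tget v 0, tget v 1, tget v 2, tget v 3, tget v 4, tget v 5, tget v 6, tget v 7]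

/-- The code of a byte list. -/
def pk : List ℕ → ℕ
  | [] => 0
  | a :: l => (a &&& 255) ||| (pk l <<< 8)

/-- The bytes having a given bit. -/
def lane : ℕ := 0x0101010101010101

/-- One column of the product. -/
def pterm (v w i : ℕ) : ℕ := ((w >>> i) &&& lane) * tget v i

/-- The code of a product. -/
def pm (v w : ℕ) : ℕ :=
  pterm v w 0 ^^^ pterm v w 1 ^^^ pterm v w 2 ^^^ pterm v w 3 ^^^
    pterm v w 4 ^^^ pterm v w 5 ^^^ pterm v w 6 ^^^ pterm v w 7

/-- The code of the conjugate by a fundamental root element. -/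
def pconj (a v : ℕ) : ℕ :=
  pm (gcodes.getD a 0x8040201008040201) (pm v (gcodes.getD a 0x8040201008040201))

theorem tget_div (v j : ℕ) : tget v j = v / 256 ^ j % 256 := by
  rw [tget, show (255 : ℕ) = 2 ^ 8 - 1 by norm_num, Nat.and_two_pow_sub_one_eq_mod, Nat.shiftRight_eq_div_pow,
    pow_mul]
  norm_num

theorem tget_lt (v j : ℕ) : tget v j < 256 := by rw [tget_div]; exact Nat.mod_lt _ (by norm_num)

theorem digits_eq {v : ℕ} (h : v < 2 ^ 64) : v = tget v 0 + 256 * tget v 1 + 65536 * tget v 2 +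
    16777216 * tget v 3 + 4294967296 * tget v 4 + 1099511627776 * tget v 5 + 281474976710656 * tget v 6 +
    72057594037927936 * tget v 7 := by
  simp only [tget_div]
  norm_num
  omega

theorem eq_of_unpk {v w : ℕ} (hv : v < 2 ^ 64) (hw : w < 2 ^ 64) (h : unpk v = unpk w) : v = w := by
  simp only [unpk, List.cons.injEq] at h
  rw [digits_eq hv, digits_eq hw]
  obtain ⟨h0, h1, h2, h3, h4, h5, h6, h7, -⟩ := h
  rw [h0, h1, h2, h3, h4, h5, h6, h7]

theorem lane_digit (w i j : ℕ) (hi : i < 8) (hj : j < 8) :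
    tget ((w >>> i) &&& lane) j = if Nat.testBit (tget w j) i then 1 else 0 := by
  have hl : ∀ p : Fin 8, ∀ k : Fin 8, Nat.testBit lane (8 * (p : ℕ) + k) = decide (k.val = 0) := by decide +kernel
  apply Nat.eq_of_testBit_eq
  intro k
  rw [tget, tget, Nat.testBit_and, Nat.testBit_shiftRight, Nat.testBit_and, Nat.testBit_shiftRight,
    show (255 : ℕ) = 2 ^ 8 - 1 by norm_num, Nat.testBit_two_pow_sub_one, Nat.testBit_and,
    Nat.testBit_shiftRight, Nat.testBit_two_pow_sub_one]
  by_cases hk : k < 8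
  · rw [hl ⟨j, hj⟩ ⟨k, hk⟩]
    rcases k with - | k
    · simp only [hi, decide_true, Bool.and_true, Nat.add_zero, show i + 8 * j = 8 * j + i by omega]
      cases Nat.testBit w (8 * j + i) <;> simp
    · cases h : Nat.testBit w (8 * j + i) <;> simp [h, hi, Nat.testBit_succ]
  · simp only [hk, decide_false, Bool.and_false]
    rcases k with - | k
    · omega
    · split_ifs <;> simp [Nat.testBit_succ]

theorem tget_pterm (v w i j : ℕ) (hi : i < 8) (hj : j < 8) :
    tget (pterm v w i) j = if Nat.testBit (tget w j) i then tget v i else 0 := by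
  have hc := tget_lt v i
  set m := (w >>> i) &&& lane with hm
  set c := tget v i
  have hm64 : m < 2 ^ 64 := lt_of_le_of_lt Nat.and_le_right (by decide +kernel)
  have hd : ∀ k < 8, tget m k * c < 256 := fun k hk => by
    rw [hm, lane_digit w i k hi hk]; split_ifs <;> omega
  have key : tget (m * c) j = tget m j * c := by
    have e : m * c = tget m 0 * c + 256 * (tget m 1 * c) + 65536 * (tget m 2 * c) +
        16777216 * (tget m 3 * c) + 4294967296 * (tget m 4 * c) + 1099511627776 * (tget m 5 * c) +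
        281474976710656 * (tget m 6 * c) + 72057594037927936 * (tget m 7 * c) := by
      conv_lhs => rw [digits_eq hm64]
      ring
    have h0 := hd 0 (by omega)
    have h1 := hd 1 (by omega)
    have h2 := hd 2 (by omega)
    have h3 := hd 3 (by omega)
    have h4 := hd 4 (by omega)
    have h5 := hd 5 (by omega)
    have h6 := hd 6 (by omega)
    have h7 := hd 7 (by omega)
    rw [tget_div (m * c) j, e]
    interval_cases j <;> norm_num <;> omega
  show tget (m * c) j = _
  rw [key, hm, lane_digit w i j hi hj]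
  split_ifs <;> simp

theorem tget_xor (a b j : ℕ) : tget (a ^^^ b) j = tget a j ^^^ tget b j := by
  simp only [tget, Nat.shiftRight_xor_distrib, Nat.and_xor_distrib_right]

theorem unpk_pm (v w : ℕ) : unpk (pm v w) = mulB (unpk v) (unpk w) := by
  have key : ∀ j < 8, tget (pm v w) j = appB (unpk v) (tget w j) := by
    intro j hj
    have ht : ∀ i, i < 8 → tget (pterm v w i) j = if Nat.testBit (tget w j) i then tget v i else 0 :=
      fun i hi => tget_pterm v w i j hi hj
    simp only [pm, tget_xor, ht 0 (by omega), ht 1 (by omega), ht 2 (by omega), ht 3 (by omega),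
      ht 4 (by omega), ht 5 (by omega), ht 6 (by omega), ht 7 (by omega)]
    simp only [unpk, appB, Nat.testBit_shiftRight, ← Nat.shiftRight_add, Nat.xor_zero, Nat.xor_assoc]
  show [_, _, _, _, _, _, _, _] = [_, _, _, _, _, _, _, _]
  rw [key 0 (by omega), key 1 (by omega), key 2 (by omega), key 3 (by omega), key 4 (by omega),
    key 5 (by omega), key 6 (by omega), key 7 (by omega)]

theorem pm_lt (v w : ℕ) : pm v w < 2 ^ 64 := by
  have h : ∀ i, pterm v w i < 2 ^ 64 := fun i =>
    lt_of_le_of_lt (Nat.mul_le_mul Nat.and_le_right (Nat.le_of_lt_succ (show tget v i < 255 + 1 from tget_lt v i)))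
      (by decide +kernel)
  exact Nat.xor_lt_two_pow (Nat.xor_lt_two_pow (Nat.xor_lt_two_pow (Nat.xor_lt_two_pow (Nat.xor_lt_two_pow
    (Nat.xor_lt_two_pow (Nat.xor_lt_two_pow (h 0) (h 1)) (h 2)) (h 3)) (h 4)) (h 5)) (h 6)) (h 7)

theorem tget_pk : ∀ (l : List ℕ) (j : ℕ), tget (pk l) j = l.getD j 0 &&& 255
  | [], j => by simp [pk, tget]
  | a :: l, 0 => by
    simp only [pk, tget, Nat.mul_zero, Nat.shiftRight_zero, List.getD_cons_zero]
    apply Nat.eq_of_testBit_eq
    intro i
    rw [Nat.testBit_and, Nat.testBit_or, Nat.testBit_and, Nat.testBit_shiftLeft,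
      show (255 : ℕ) = 2 ^ 8 - 1 by norm_num, Nat.testBit_two_pow_sub_one]
    by_cases hi : i < 8 <;> simp [hi]
  | a :: l, j + 1 => by
    rw [List.getD_cons_succ, ← tget_pk l j]
    simp only [pk, tget]
    apply Nat.eq_of_testBit_eq
    intro i
    rw [Nat.testBit_and, Nat.testBit_and, Nat.testBit_shiftRight, Nat.testBit_shiftRight, Nat.testBit_or,
      Nat.testBit_and, Nat.testBit_shiftLeft, show (255 : ℕ) = 2 ^ 8 - 1 by norm_num,
      Nat.testBit_two_pow_sub_one, Nat.testBit_two_pow_sub_one,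
      show 8 * (j + 1) + i - 8 = 8 * j + i by omega]
    simp [show ¬ 8 * (j + 1) + i < 8 by omega, show 8 ≤ 8 * (j + 1) + i by omega]

theorem unpk_pk {l : List ℕ} (h : l.length = 8) : unpk (pk l) = l.map (· &&& 255) := by
  obtain ⟨a0, a1, a2, a3, a4, a5, a6, a7, rfl⟩ : ∃ a0 a1 a2 a3 a4 a5 a6 a7,
      l = [a0, a1, a2, a3, a4, a5, a6, a7] := by
    rcases l with _ | ⟨a0, _ | ⟨a1, _ | ⟨a2, _ | ⟨a3, _ | ⟨a4, _ | ⟨a5, _ | ⟨a6, _ | ⟨a7, _ | ⟨a8, r⟩⟩⟩⟩⟩⟩⟩⟩⟩ <;>
      simp at h
    exact ⟨a0, a1, a2, a3, a4, a5, a6, a7, rfl⟩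
  simp [unpk, tget_pk]

theorem toMat_mask {l : List ℕ} : toMat O8.e8 (l.map (· &&& 255)) = toMat O8.e8 l := by
  funext i j
  simp only [toMat, bitVal]
  have e : (l.map (· &&& 255)).getD (O8.e8 j : ℕ) 0 = l.getD (O8.e8 j : ℕ) 0 &&& 255 := by
    simp only [List.getD_eq_getElem?_getD, List.getElem?_map]
    cases l[(O8.e8 j : ℕ)]? <;> simp
  rw [e, Nat.testBit_and, show (255 : ℕ) = 2 ^ 8 - 1 by norm_num, Nat.testBit_two_pow_sub_one]
  simp [(O8.e8 i).2]

theorem mask_eq_of_toMat {A B : List ℕ} (h : toMat O8.e8 A = toMat O8.e8 B) (j : ℕ) (hj : j < 8) :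
    A.getD j 0 &&& 255 = B.getD j 0 &&& 255 := by
  apply Nat.eq_of_testBit_eq
  intro i
  rw [Nat.testBit_and, Nat.testBit_and, show (255 : ℕ) = 2 ^ 8 - 1 by norm_num, Nat.testBit_two_pow_sub_one]
  by_cases hi : i < 8
  · have h1 := congrFun (congrFun h (O8.e8.symm ⟨i, hi⟩)) (O8.e8.symm ⟨j, hj⟩)
    simp only [toMat, Equiv.apply_symm_apply, bitVal] at h1
    cases ha : Nat.testBit (A.getD j 0) i <;> cases hb : Nat.testBit (B.getD j 0) i <;> simp_all
  · simp [hi]

theorem unpk_eq_of_toMat {v w : ℕ} (h : toMat O8.e8 (unpk v) = toMat O8.e8 (unpk w)) : unpk v = unpk w := by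
  have e : ∀ j < 8, tget v j = tget w j := fun j hj => by
    have h1 := mask_eq_of_toMat h j hj
    have m : ∀ u : ℕ, (unpk u).getD j 0 = tget u j := fun u => by interval_cases j <;> rfl
    have mm : ∀ u : ℕ, tget u j &&& 255 = tget u j := fun u => by
      rw [tget, Nat.and_assoc]; norm_num
    rwa [m, m, mm, mm] at h1
  simp [unpk, e]

/-- `v` codes `x`. -/
def Cd (x : O8.G0) (v : ℕ) : Prop := O8.rho x = toMat O8.e8 (unpk v) ∧ v < 2 ^ 64

theorem Cd.of_cols {x : O8.G0} {A : List ℕ} (hA : A.length = 8) (h : O8.rho x = toMat O8.e8 A)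
    (hlt : pk A < 2 ^ 64) : Cd x (pk A) := by
  have h1 : toMat O8.e8 (unpk (pk A)) = toMat O8.e8 A := by rw [unpk_pk hA, toMat_mask]
  exact ⟨h.trans h1.symm, hlt⟩

theorem Cd.eq_iff {x y : O8.G0} {v w : ℕ} (hx : Cd x v) (hy : Cd y w) : x = y ↔ v = w := by
  constructor
  · rintro rfl
    exact eq_of_unpk hx.2 hy.2 (unpk_eq_of_toMat (hx.1.symm.trans hy.1))
  · rintro rfl
    exact O8.rho_injective (hx.1.trans hy.1.symm)

theorem Cd.mul {x y : O8.G0} {v w : ℕ} (hx : Cd x v) (hy : Cd y w) : Cd (x * y) (pm v w) :=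
  ⟨by rw [map_mul, hx.1, hy.1, unpk_pm, toMat_mulB O8.e8 rfl rfl], pm_lt v w⟩

/-- The code of the value of a word. -/
def wcode (w : List ℕ) : ℕ := pk (O8.cw (w.map fun a => gwords.getD a []).flatten)

theorem pk_lt : ∀ l : List ℕ, pk l < 2 ^ (8 * l.length)
  | [] => by simp [pk]
  | a :: l => by
    have ih := pk_lt l
    rw [pk]
    refine Nat.or_lt_two_pow (lt_of_le_of_lt Nat.and_le_right ?_) ?_
    · calc (255 : ℕ) < 2 ^ 8 := by norm_num
        _ ≤ _ := Nat.pow_le_pow_right (by norm_num) (by simp)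
    · rw [Nat.shiftLeft_eq, List.length_cons, Nat.mul_add, Nat.pow_add]
      exact Nat.mul_lt_mul_of_lt_of_le ih le_rfl (by positivity)

theorem cd_word (w : List ℕ) : Cd (evalL gw w) (wcode w) :=
  Cd.of_cols (O8.length_cw _) (by rw [evalL_gw, O8.rho_el]) (by
    have := pk_lt (O8.cw (w.map fun a => gwords.getD a []).flatten)
    rwa [O8.length_cw] at this)

theorem cd_gw (a : ℕ) : Cd (gw a) (gcodes.getD a 0x8040201008040201) := by
  have h : ∀ k < 8, wcode [k] = gcodes.getD k 0x8040201008040201 := by decide +kernel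
  by_cases ha : a < 8
  · have := cd_word [a]
    rw [h a ha] at this
    simpa [evalL] using this
  · rw [List.getD_eq_default _ _ (show gcodes.length ≤ a from not_lt.mp ha), gw,
      List.getD_eq_default _ _ (show gwords.length ≤ a from not_lt.mp ha)]
    have h0 : wcode [] = 0x8040201008040201 := by decide +kernel
    exact h0 ▸ cd_word []

theorem Cd.conj {x : O8.G0} {v : ℕ} (hx : Cd x v) (a : ℕ) : Cd (gw a * x * gw a) (pconj a v) := by
  rw [mul_assoc]
  exact (cd_gw a).mul (hx.mul (cd_gw a))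

/-- The central root involution. -/
noncomputable def tM : O8.G0 := evalL gw tWord

/-- The class of `tM`. -/
def InT (x : O8.G0) : Prop := ∃ h, h * tM * h⁻¹ = x

theorem InT.conj {x : O8.G0} (hx : InT x) (h : O8.G0) : InT (h * x * h⁻¹) := by
  obtain ⟨g, rfl⟩ := hx
  exact ⟨h * g, by group⟩

/-- Membership test for the class. -/
def memT (v : ℕ) : Bool := (buckets.getD (v % 63) []).any fun p => p.1 == v

/-- Membership with depth. -/
def memD (v d : ℕ) : Bool := (buckets.getD (v % 63) []).any fun p => p.1 == v && p.2.2 == d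

theorem t_code : wcode tWord = tCode := by decide +kernel

theorem cd_tM : Cd tM tCode := t_code ▸ cd_word _

theorem parents : buckets.flatten.all (fun p =>
    (p.2.2 == 0 && p.1 == tCode) || (0 < p.2.2 && pconj p.2.1 (pconj p.2.1 p.1) == p.1 &&
      memD (pconj p.2.1 p.1) (p.2.2 - 1))) = true := by decide +kernel

theorem closed : buckets.flatten.all (fun p => (List.range 8).all fun a => memT (pconj a p.1)) = true := by
  decide +kernel

theorem t_mem : memT tCode = true := by decide +kernel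

theorem mem_flatten_of_any {v : ℕ} {f : ℕ × ℕ × ℕ → Bool}
    (h : (buckets.getD (v % 63) []).any f = true) : ∃ p ∈ buckets.flatten, f p = true := by
  obtain ⟨p, hp, hf⟩ := List.any_eq_true.mp h
  refine ⟨p, List.mem_flatten.mpr ⟨_, ?_, hp⟩, hf⟩
  by_cases hk : v % 63 < buckets.length
  · rw [List.getD_eq_getElem _ _ hk]; exact List.getElem_mem hk
  · rw [List.getD_eq_default _ _ (not_lt.mp hk)] at hp; simp at hp

theorem exists_of_memT {v : ℕ} (h : memT v = true) : ∃ x, Cd x v ∧ InT x := by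
  suffices key : ∀ d, ∀ p ∈ buckets.flatten, p.2.2 = d → ∃ x, Cd x p.1 ∧ InT x by
    obtain ⟨p, hp, hf⟩ := mem_flatten_of_any h
    rw [beq_iff_eq] at hf
    exact hf ▸ key _ p hp rfl
  intro d
  induction d using Nat.strong_induction_on with
  | _ d ih =>
    intro p hp hd
    have := List.all_eq_true.mp parents p hp
    simp only [Bool.or_eq_true, Bool.and_eq_true, beq_iff_eq, decide_eq_true_eq] at this
    rcases this with ⟨-, h1⟩ | ⟨⟨h0, h1⟩, h2⟩
    · exact ⟨tM, h1 ▸ cd_tM, 1, by group⟩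
    · obtain ⟨q, hq, hqf⟩ := mem_flatten_of_any h2
      simp only [Bool.and_eq_true, beq_iff_eq] at hqf
      obtain ⟨x, hx, hT⟩ := ih _ (by omega) q hq rfl
      refine ⟨gw p.2.1 * x * gw p.2.1, ?_, ?_⟩
      · rw [hqf.1] at hx
        have := hx.conj p.2.1
        rwa [h1] at this
      · have := hT.conj (gw p.2.1)
        rwa [inv_eq_of_mul_eq_one_right (gw_sq _)] at this

theorem memT_of_InT {x : O8.G0} (hx : InT x) : ∃ p ∈ buckets.flatten, Cd x p.1 ∧ memT p.1 = true := by
  obtain ⟨h, rfl⟩ := hx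
  suffices key : ∀ g ∈ Subgroup.closure (gw '' Set.Iio 8), ∀ z v, Cd z v → memT v = true →
      ∃ w, Cd (g * z * g⁻¹) w ∧ memT w = true by
    obtain ⟨w, hw, hm⟩ := key h (closure_gw ▸ Subgroup.mem_top h) tM tCode cd_tM t_mem
    obtain ⟨p, hp, hf⟩ := mem_flatten_of_any hm
    rw [beq_iff_eq] at hf
    exact ⟨p, hp, hf ▸ hw, hf ▸ hm⟩
  intro g hg
  induction hg using Subgroup.closure_induction'' with
  | mem y hy =>
    obtain ⟨a, ha, rfl⟩ := hy
    intro z v hz hv
    rw [inv_eq_of_mul_eq_one_right (gw_sq a)]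
    refine ⟨_, hz.conj a, ?_⟩
    obtain ⟨p, hp, hf⟩ := mem_flatten_of_any hv
    rw [beq_iff_eq] at hf
    exact hf ▸ List.all_eq_true.mp (List.all_eq_true.mp closed p hp) a (List.mem_range.mpr ha)
  | inv_mem y hy =>
    obtain ⟨a, ha, rfl⟩ := hy
    intro z v hz hv
    rw [inv_inv, inv_eq_of_mul_eq_one_right (gw_sq a)]
    refine ⟨_, hz.conj a, ?_⟩
    obtain ⟨p, hp, hf⟩ := mem_flatten_of_any hv
    rw [beq_iff_eq] at hf
    exact hf ▸ List.all_eq_true.mp (List.all_eq_true.mp closed p hp) a (List.mem_range.mpr ha)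
  | one => intro z v hz hv; exact ⟨v, by simpa using hz, hv⟩
  | mul a b _ _ iha ihb =>
    intro z v hz hv
    obtain ⟨w, hw, hm⟩ := ihb z v hz hv
    obtain ⟨u, hu, hn⟩ := iha _ w hw hm
    exact ⟨u, by simpa [mul_assoc] using hu, hn⟩

theorem InT_iff {x : O8.G0} {v : ℕ} (hx : Cd x v) : InT x ↔ memT v = true := by
  constructor
  · intro h
    obtain ⟨p, -, hp, hm⟩ := memT_of_InT h
    rwa [(hx.eq_iff hp).mp rfl]
  · intro h
    obtain ⟨y, hy, hT⟩ := exists_of_memT h
    rwa [(hx.eq_iff hy).mpr rfl]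

theorem comm_iff {x y : O8.G0} {v w : ℕ} (hx : Cd x v) (hy : Cd y w) :
    x * y = y * x ↔ pm v w = pm w v := (hx.mul hy).eq_iff (hy.mul hx)

attribute [local irreducible] memT pm pconj

/-- The further representatives. -/
noncomputable def rM (k : Fin 4) : O8.G0 := evalL gw (repWords.getD k [])

/-- Their codes. -/
def rCode (k : Fin 4) : ℕ := repCodes.getD k 0

theorem cd_rM (k : Fin 4) : Cd (rM k) (rCode k) := by
  have h : ∀ k : Fin 4, wcode (repWords.getD k []) = rCode k := by decide +kernel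
  exact h k ▸ cd_word _

theorem rM_facts : ∀ k : Fin 4, memT (rCode k) = false ∧ pm (rCode k) (rCode k) = wcode [] := by decide +kernel

theorem rM_sq (k : Fin 4) : rM k * rM k = 1 :=
  (((cd_rM k).mul (cd_rM k)).eq_iff (y := 1) (w := wcode []) (cd_word [])).mpr (rM_facts k).2

theorem rM_not_InT (k : Fin 4) : ¬ InT (rM k) := fun h => by
  rw [InT_iff (cd_rM k), (rM_facts k).1] at h
  exact Bool.noConfusion h

/-- Having a partner in the class with product in the class. -/
def Paired (x : O8.G0) : Prop := ∃ z, InT z ∧ x * z = z * x ∧ InT (x * z)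

theorem Paired.conj {x : O8.G0} (hx : Paired x) (h : O8.G0) : Paired (h * x * h⁻¹) := by
  obtain ⟨z, hz, hc, hxz⟩ := hx
  refine ⟨h * z * h⁻¹, hz.conj h, ?_, ?_⟩
  · calc h * x * h⁻¹ * (h * z * h⁻¹) = h * (x * z) * h⁻¹ := by group
      _ = h * (z * x) * h⁻¹ := by rw [hc]
      _ = _ := by group
  · have := hxz.conj h
    simpa [mul_assoc] using this

/-- The partner with a paired product, the one without, and the one used in the check. -/
def partners (k : Fin 4) : ℕ × ℕ × ℕ × ℕ :=
  let d := critData.getD k (0, 0, 0, true)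
  (d.1, d.2.1, d.2.2.1, if d.2.2.2 then d.1 else d.2.1)

theorem crit_facts : ∀ k : Fin 4,
    memT (partners k).1 = true ∧ memT (partners k).2.1 = true ∧ memT (partners k).2.2.1 = true ∧
    pm (rCode k) (partners k).1 = pm (partners k).1 (rCode k) ∧
    pm (rCode k) (partners k).2.1 = pm (partners k).2.1 (rCode k) ∧
    pm (pm (rCode k) (partners k).1) (partners k).2.2.1 = pm (partners k).2.2.1 (pm (rCode k) (partners k).1) ∧
    memT (pm (pm (rCode k) (partners k).1) (partners k).2.2.1) = true ∧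
    memT (pm (rCode k) (partners k).1) = false ∧ memT (pm (rCode k) (partners k).2.1) = false := by
  decide +kernel

theorem crit_no : ∀ k : Fin 4, buckets.flatten.all (fun p =>
    !(pm (pm (rCode k) (partners k).2.1) p.1 == pm p.1 (pm (rCode k) (partners k).2.1)) ||
      !memT (pm (pm (rCode k) (partners k).2.1) p.1)) = true := by decide +kernel

theorem crit_all : ∀ k : Fin 4, buckets.flatten.all (fun p =>
    !(pm (rCode k) p.1 == pm p.1 (rCode k)) || !(pm (partners k).2.2.2 p.1 == pm p.1 (partners k).2.2.2) ||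
      p.1 == (partners k).2.2.2 || memT (pm (rCode k) p.1) || memT (pm (partners k).2.2.2 p.1) ||
      memT (pm (rCode k) (pm (partners k).2.2.2 p.1))) = true := by decide +kernel

/-- The criterion for the centraliser of a representative: two partners with products of different kinds. -/
theorem crit (k : Fin 4) : ∃ y y' : O8.G0, InT y ∧ InT y' ∧ rM k * y = y * rM k ∧ rM k * y' = y' * rM k ∧
    ¬ InT (rM k * y) ∧ ¬ InT (rM k * y') ∧
    ¬ ((Paired (rM k * y) ↔ Paired (rM k * y'))) ∧
    ∀ z, InT z → rM k * z = z * rM k → y' * z = z * y' → z ≠ y' →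
      InT (rM k * z) ∨ InT (y' * z) ∨ InT (rM k * (y' * z)) := by
  obtain ⟨m1, m2, m3, c1, c2, c3, m4, n1, n2⟩ := crit_facts k
  have hr := cd_rM k
  obtain ⟨a, ha, hTa⟩ := exists_of_memT m1
  obtain ⟨b, hb, hTb⟩ := exists_of_memT m2
  obtain ⟨w, hw, hTw⟩ := exists_of_memT m3
  have hPa : Paired (rM k * a) :=
    ⟨w, hTw, (comm_iff (hr.mul ha) hw).mpr c3, (InT_iff ((hr.mul ha).mul hw)).mpr m4⟩
  have hPb : ¬ Paired (rM k * b) := by
    rintro ⟨z, hz, hzc, hzT⟩
    obtain ⟨p, hp, hzp, -⟩ := memT_of_InT hz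
    have := List.all_eq_true.mp (crit_no k) p hp
    rw [beq_iff_eq.mpr ((comm_iff (hr.mul hb) hzp).mp hzc), (InT_iff ((hr.mul hb).mul hzp)).mp hzT] at this
    simp at this
  have hna : ¬ InT (rM k * a) := fun h => by rw [InT_iff (hr.mul ha), n1] at h; exact Bool.noConfusion h
  have hnb : ¬ InT (rM k * b) := fun h => by rw [InT_iff (hr.mul hb), n2] at h; exact Bool.noConfusion h
  have hca := (comm_iff hr ha).mpr c1
  have hcb := (comm_iff hr hb).mpr c2
  have key : ∀ y', Cd y' (partners k).2.2.2 → ∀ z, InT z → rM k * z = z * rM k → y' * z = z * y' → z ≠ y' →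
      InT (rM k * z) ∨ InT (y' * z) ∨ InT (rM k * (y' * z)) := by
    intro y' hy z hz h1 h2 h3
    obtain ⟨p, hp, hzp, -⟩ := memT_of_InT hz
    have := List.all_eq_true.mp (crit_all k) p hp
    rw [beq_iff_eq.mpr ((comm_iff hr hzp).mp h1), beq_iff_eq.mpr ((comm_iff hy hzp).mp h2)] at this
    have h3' : p.1 ≠ (partners k).2.2.2 := fun e => h3 ((hzp.eq_iff hy).mpr e)
    simp only [Bool.not_true, Bool.false_or, Bool.or_eq_true, beq_iff_eq] at this
    rw [InT_iff (hr.mul hzp), InT_iff (hy.mul hzp), InT_iff (hr.mul (hy.mul hzp))]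
    tauto
  by_cases hsel : (partners k).2.2.2 = (partners k).1
  · exact ⟨b, a, hTb, hTa, hcb, hca, hnb, hna, by tauto, key a (hsel ▸ ha)⟩
  · have : (partners k).2.2.2 = (partners k).2.1 := by
      unfold partners at hsel ⊢
      dsimp only at hsel ⊢
      split_ifs at hsel ⊢ <;> simp_all
    exact ⟨a, b, hTa, hTb, hca, hcb, hna, hnb, by tauto, key b (this ▸ hb)⟩

/-- In the class of `tM` or of a representative. -/
def Good (x : O8.G0) : Prop := InT x ∨ ∃ k h, h * x * h⁻¹ = rM k

theorem cert_ok : certs.all (fun c =>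
    decide (c.2.1 < 4) &&
      c.2.2.foldl (fun v a => pconj a v) c.1 == repCodes.getD c.2.1 0) = true := by decide +kernel

theorem good_of_test {x : O8.G0} {v : ℕ} (hx : Cd x v)
    (h : memT v = true ∨ certs.any (fun c => c.1 == v) = true) : Good x := by
  rcases h with h | h
  · exact Or.inl ((InT_iff hx).mpr h)
  · obtain ⟨c, hc, hcv⟩ := List.any_eq_true.mp h
    rw [beq_iff_eq] at hcv
    have := List.all_eq_true.mp cert_ok c hc
    simp only [Bool.and_eq_true, decide_eq_true_eq, beq_iff_eq] at this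
    obtain ⟨hk, hw⟩ := this
    rw [hcv] at hw
    have key : ∀ (l : List ℕ) (y : O8.G0) (u : ℕ), Cd y u →
        ∃ h, Cd (h * y * h⁻¹) (l.foldl (fun v a => pconj a v) u) := by
      intro l
      induction l with
      | nil => exact fun y u hy => ⟨1, by simpa using hy⟩
      | cons a l ih =>
        intro y u hy
        obtain ⟨h, hh⟩ := ih _ _ (hy.conj a)
        refine ⟨h * gw a, ?_⟩
        rw [List.foldl_cons]
        rw [show h * gw a * y * (h * gw a)⁻¹ = h * (gw a * y * gw a) * h⁻¹ by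
          rw [mul_inv_rev, inv_eq_of_mul_eq_one_right (gw_sq a)]; group]
        exact hh
    obtain ⟨g, hg⟩ := key c.2.2 x v hx
    exact Or.inr ⟨⟨c.2.1, hk⟩, g, (hg.eq_iff (cd_rM ⟨c.2.1, hk⟩)).mpr hw⟩

theorem pairs_check : buckets.flatten.all (fun p => !(pm tCode p.1 == pm p.1 tCode) || p.1 == tCode ||
    memT (pm tCode p.1) || certs.any (fun c => c.1 == pm tCode p.1)) = true := by decide +kernel

/-- Products of two commuting members of the class. -/
theorem pairs {z : O8.G0} (hz : InT z) (hc : tM * z = z * tM) (hne : z ≠ tM) : Good (tM * z) := by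
  obtain ⟨p, hp, hzp, -⟩ := memT_of_InT hz
  have := List.all_eq_true.mp pairs_check p hp
  rw [beq_iff_eq.mpr ((comm_iff cd_tM hzp).mp hc)] at this
  have h3 : p.1 ≠ tCode := fun e => hne ((hzp.eq_iff cd_tM).mpr e)
  simp only [Bool.not_true, Bool.false_or, Bool.or_eq_true, beq_iff_eq] at this
  refine good_of_test (cd_tM.mul hzp) ?_
  rcases this with (h | h) | h
  exacts [absurd h h3, Or.inl h, Or.inr h]

theorem final_check : buckets.flatten.all (fun p => !(pm (rCode 0) p.1 == pm p.1 (rCode 0)) ||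
    memT (pm (rCode 0) p.1) || certs.any (fun c => c.1 == pm (rCode 0) p.1)) = true := by decide +kernel

/-- Products of the first representative with a commuting member of the class. -/
theorem final {z : O8.G0} (hz : InT z) (hc : rM 0 * z = z * rM 0) : Good (rM 0 * z) := by
  obtain ⟨p, hp, hzp, -⟩ := memT_of_InT hz
  have := List.all_eq_true.mp final_check p hp
  rw [beq_iff_eq.mpr ((comm_iff (cd_rM 0) hzp).mp hc)] at this
  simp only [Bool.not_true, Bool.false_or, Bool.or_eq_true, beq_iff_eq] at this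
  exact good_of_test ((cd_rM 0).mul hzp) this

end Cfsg.Agent.OmegaEight
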