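import Cfsg.Agent.Lib.OmegaEight.Linked

/-
A standard linked pair: the commutator map is the cross product (`Lk.gam_eq`), `⟨t,s⟩` is the fixed space
of `C_P(t)` on `Q` (`Lk.fixed`), the stabiliser of `s` (`Lk.stab`), one class of conjugates of `t` in
`Q ∖ ⟨t⟩` (`Lk.orbit`), and fixed-point-freeness of the factors of order three (`Lk.fpf`).
-/

set_option autoImplicit false

namespace Cfsg.Agent.OmegaEight

open Cfsg.Agent.LargeExtraspecial
open scoped commutatorElement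

variable {G : Type*} [Group G]

/-- `y` fixes `x` modulo `z`. -/
def FixMod (z y x : G) : Prop := y * x * y⁻¹ = x ∨ y * x * y⁻¹ = x * z

theorem FixMod.mul {z y y' x : G} (hz : y * z = z * y) (hzz : z * z = 1) (h : FixMod z y x) (h' : FixMod z y' x) :
    FixMod z (y * y') x := by
  have hyz : y * z * y⁻¹ = z := by rw [hz, mul_inv_cancel_right]
  have e : y * y' * x * (y * y')⁻¹ = y * (y' * x * y'⁻¹) * y⁻¹ := by group
  unfold FixMod
  rcases h' with h' | h' <;> rw [e, h']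
  · exact h
  · have e2 : y * (x * z) * y⁻¹ = y * x * y⁻¹ * z := by
      conv_rhs => rw [← hyz]
      group
    rcases h with h | h <;> rw [e2, h]
    · exact Or.inr rfl
    · exact Or.inl (by rw [mul_assoc, hzz, mul_one])

theorem FixMod.of_comm {z y x : G} (h : ⁅y, x⁆ = 1 ∨ ⁅y, x⁆ = z) (hzx : x * z = z * x) : FixMod z y x := by
  have e : y * x * y⁻¹ = ⁅y, x⁆ * x := by rw [commutatorElement_def]; group
  unfold FixMod
  rcases h with h | h <;> rw [e, h]
  exacts [Or.inl (one_mul x), Or.inr hzx.symm]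

namespace Lk

variable {L : Lk G}

theorem mem_V_iff {x : G} : x ∈ Subgroup.closure ({L.H.t, L.s} : Set G) ↔
    (x = 1 ∨ x = L.H.t ∨ x = L.s ∨ x = L.s * L.H.t) := L.cfg.mem_V

theorem comm_sym {x y : G} (hy : ⁅x, y⁆ * ⁅x, y⁆ = 1) : ⁅y, x⁆ = ⁅x, y⁆ := by
  rw [← commutatorElement_inv x y, inv_eq_of_mul_eq_one_right hy]

/-- The stabiliser of `s` modulo `t` maps into the standard Sylow group. -/
theorem stab (hs : L.Std) {g : G} (hg : g * L.H.t = L.H.t * g)
    (h : g * L.s * g⁻¹ = L.s ∨ g * L.s * g⁻¹ = L.s * L.H.t) : L.H.ρ g ∈ Tbar := by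
  obtain ⟨g', hg', hs', hρ⟩ : ∃ g', g' * L.H.t = L.H.t * g' ∧ g' * L.s = L.s * g' ∧ L.H.ρ g' = L.H.ρ g := by
    rcases h with h | h
    · exact ⟨g, hg, mul_inv_eq_iff_eq_mul.mp h, rfl⟩
    · obtain ⟨q, hq, hqs⟩ := L.H.data.exists_conj_eq L.cfg.s_mem L.cfg.dP.z_ne L.cfg.ne
      have hqt := L.H.ct (inv_mem hq)
      refine ⟨q⁻¹ * g, (Commute.mul_left hqt hg).eq, ?_, ?_⟩
      · calc q⁻¹ * g * L.s = q⁻¹ * (g * L.s * g⁻¹) * g := by group
          _ = q⁻¹ * (q * L.s * q⁻¹) * g := by rw [h, hqs]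
          _ = L.s * (q⁻¹ * g) := by group
      · rw [L.H.mul _ _ hqt hg, L.H.ρ_Q (inv_mem hq), one_mul]
  rw [← hρ]
  refine Tbar_self_norm fun a => ?_
  have hb := bb_mem hs a
  have hmem : g' * bb hs a * g'⁻¹ ∈ L.BB :=
    Cfg.mem_A.mpr ⟨L.cfg.dP.norm g' hs' _ (Cfg.mem_A.mp hb).1,
      (Commute.mul_left (Commute.mul_left hg' (L.BB_t hb)) (Commute.inv_left hg')).eq⟩
  have := ρ_B hs hmem
  rwa [L.H.ρ_conj hg' (L.BB_t hb), bb_ρ] at this

theorem gam_ne_zero [Finite G] (hs : L.Std) : ¬ ∀ a ∈ L.AA, ∀ b ∈ L.BB, gam hs a b = 0 := by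
  intro h0
  set V := Subgroup.closure ({L.H.t, L.s} : Set G) with hV
  have htV : L.H.t ∈ V := mem_V_iff.mpr (by tauto)
  have hsV : L.s ∈ V := mem_V_iff.mpr (by tauto)
  have htt := L.H.data.z_sq
  have hst : L.s * L.H.t ≠ 1 := fun e => L.cfg.ne (by
    rw [eq_inv_of_mul_eq_one_left e, inv_eq_of_mul_eq_one_right htt])
  have hV1 : ∀ a ∈ L.AA, ∀ b ∈ L.BB, ⁅b, a⁆ ∈ V := fun a ha b hb => by
    rw [← commutatorElement_inv]
    exact inv_mem (mem_V_iff.mpr (lam_ker hs (comm_AB_mem ha hb) (h0 a ha b hb)))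
  obtain ⟨q, hq, hqs⟩ := L.H.data.exists_conj_eq L.cfg.s_mem L.cfg.dP.z_ne L.cfg.ne
  have hqst : ∀ x ∈ L.H.Q, x * L.s * x⁻¹ = L.s * L.H.t → ∀ b ∈ L.BB, ⁅b, x⁆ = L.s ∨ ⁅b, x⁆ = L.s * L.H.t → False := by
    intro x hx hxs b hb hw
    set w := ⁅b, x⁆ with hwdef
    have hwV : w = 1 ∨ w = L.H.t ∨ w = L.s ∨ w = L.s * L.H.t := by tauto
    have hww : w * w = 1 := L.cfg.E_sq (L.V_mem_E hwV)
    have h1 : b * x * b⁻¹ = w * x := by rw [hwdef, commutatorElement_def]; group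
    have h2 : w * x * (w * x) = x * x := by
      rw [← h1]
      rcases L.H.data.sq hx with h | h <;>
        calc b * x * b⁻¹ * (b * x * b⁻¹) = b * (x * x) * b⁻¹ := by group
          _ = _ := by rw [h]; first | simp | rw [L.BB_t hb, mul_inv_cancel_right]
    have h3 : x * w * x⁻¹ = w := by
      calc x * w * x⁻¹ = w⁻¹ * (w * x * (w * x)) * x⁻¹ * x⁻¹ := by group
        _ = w⁻¹ := by rw [h2]; group
        _ = w := inv_eq_of_mul_eq_one_right hww
    have hxt : x * L.H.t * x⁻¹ = L.H.t := by rw [L.H.ct hx, mul_inv_cancel_right]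
    rcases hw with e | e
    · rw [e, hxs] at h3
      exact L.H.data.z_ne (mul_eq_left.mp h3)
    · rw [e, show x * (L.s * L.H.t) * x⁻¹ = x * L.s * x⁻¹ * (x * L.H.t * x⁻¹) by group, hxs, hxt] at h3
      exact L.H.data.z_ne (mul_eq_left.mp h3)
  -- a commutator with q in V forces b into E
  have hK : ∀ b ∈ L.BB, ⁅b, q⁆ ∈ V → L.H.ρ b = 1 := by
    intro b hb hw
    have hw' : ⁅b, q⁆ = 1 ∨ ⁅b, q⁆ = L.H.t := by
      rcases mem_V_iff.mp hw with h | h | h | h
      · exact Or.inl h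
      · exact Or.inr h
      · exact (hqst q hq hqs b hb (Or.inl h)).elim
      · exact (hqst q hq hqs b hb (Or.inr h)).elim
    refine eq_of_bit (ρ_B hs hb) (one_mem _) fun m => ?_
    rw [← nu_eq hs hb m, show bit (1 : S33) m = 0 by simp [bit], ind_eq_zero]
    have hm := ee_mem hs m
    rcases L.comm_E_B hm hb with h | h
    · exact h
    · exfalso
      have h' : ⁅b, ee hs m⁆ = L.s := by
        rw [← commutatorElement_inv, h, inv_eq_of_mul_eq_one_right L.cfg.dP.z_sq]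
      refine hqst (ee hs m * q) (mul_mem hm.1 hq) ?_ b hb ?_
      · calc ee hs m * q * L.s * (ee hs m * q)⁻¹ = ee hs m * (q * L.s * q⁻¹) * (ee hs m)⁻¹ := by group
          _ = _ := by
            rw [hqs, (Commute.mul_right (Cfg.mem_A.mp (L.E_le_A hm)).2 (L.H.ct hm.1)).eq, mul_inv_cancel_right]
      · have e : ⁅b, ee hs m * q⁆ = ⁅b, ee hs m⁆ * (ee hs m * ⁅b, q⁆ * (ee hs m)⁻¹) := by
          simp only [commutatorElement_def]; group
        rcases hw' with h2 | h2 <;> rw [e, h', h2]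
        · left; simp
        · right; rw [L.H.ct hm.1, mul_inv_cancel_right]
  -- commutators with Q
  have hwA : ∀ b ∈ L.BB, ⁅b, q⁆ ∈ L.AA := fun b hb => by
    refine Cfg.mem_A.mpr ⟨?_, ?_⟩
    · rw [commutatorElement_def]
      exact mul_mem (L.H.data.norm b (L.BB_t hb) q hq) (inv_mem (S := Subgroup G) hq)
    · have hcs : b * q * b⁻¹ * L.s * (b * q * b⁻¹)⁻¹ = L.s * L.H.t := by
        calc b * q * b⁻¹ * L.s * (b * q * b⁻¹)⁻¹ = b * (q * (b⁻¹ * L.s * b) * q⁻¹) * b⁻¹ := by group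
          _ = b * (L.s * L.H.t) * b⁻¹ := by
            rw [mul_assoc b⁻¹, ← L.BB_s hb, inv_mul_cancel_left, hqs]
          _ = _ := by rw [(Commute.mul_right (L.BB_s hb) (L.BB_t hb)).eq, mul_inv_cancel_right]
      rw [commutatorElement_def]
      calc b * q * b⁻¹ * q⁻¹ * L.s = b * q * b⁻¹ * (q⁻¹ * (L.s * L.H.t) * q) * L.H.t * q⁻¹ := by
            rw [show b * q * b⁻¹ * (q⁻¹ * (L.s * L.H.t) * q) * L.H.t * q⁻¹ =
              b * q * b⁻¹ * q⁻¹ * L.s * (L.H.t * (q * L.H.t * q⁻¹)) by group,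
              L.H.ct hq, mul_inv_cancel_right, htt, mul_one]
        _ = b * q * b⁻¹ * L.s * L.H.t * q⁻¹ := by rw [← hqs]; group
        _ = L.s * L.H.t * (b * q * b⁻¹) * L.H.t * q⁻¹ := by rw [← hcs]; group
        _ = _ := by
          rw [mul_assoc _ (b * q * b⁻¹) L.H.t, L.H.ct (L.H.data.norm b (L.BB_t hb) q hq), ← mul_assoc,
            mul_assoc L.s, htt, mul_one]
          group
  have hcover : ∀ b ∈ L.BB, ∀ x ∈ L.H.Q, ⁅b, x⁆ ∈ V ∨ ⁅b, x⁆ * ⁅b, q⁆⁻¹ ∈ V := by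
    intro b hb x hx
    rcases L.cfg.q_conj hx with h | h
    · exact Or.inl (hV1 x (Cfg.mem_A.mpr ⟨hx, mul_inv_eq_iff_eq_mul.mp h⟩) b hb)
    · right
      have ha : x * q⁻¹ ∈ L.AA := by
        refine Cfg.mem_A.mpr ⟨mul_mem hx (inv_mem hq), ?_⟩
        calc x * q⁻¹ * L.s = x * (q⁻¹ * (L.s * L.H.t) * q) * L.H.t * q⁻¹ := by
              rw [show x * (q⁻¹ * (L.s * L.H.t) * q) * L.H.t * q⁻¹ = x * q⁻¹ * L.s * (L.H.t * (q * L.H.t * q⁻¹)) by
                group, L.H.ct hq, mul_inv_cancel_right, htt, mul_one]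
          _ = x * L.s * L.H.t * q⁻¹ := by rw [← hqs]; group
          _ = L.s * L.H.t * x * L.H.t * q⁻¹ := by rw [← h]; group
          _ = _ := by
            rw [mul_assoc _ x L.H.t, L.H.ct hx, ← mul_assoc, mul_assoc L.s, htt, mul_one]
            group
      have hwa := hwA b hb
      have e : ⁅b, x⁆ * ⁅b, q⁆⁻¹ =
          ⁅b, x * q⁻¹⁆ * ((x * q⁻¹) * ⁅b, q⁆ * (x * q⁻¹)⁻¹ * ⁅b, q⁆⁻¹) := by
        simp only [commutatorElement_def]; group
      rw [e, ← commutatorElement_def]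
      refine mul_mem (hV1 _ ha b hb) ?_
      rcases L.H.data.comm _ (Cfg.mem_A.mp ha).1 _ (Cfg.mem_A.mp hwa).1 with h | h <;> rw [h]
      exacts [one_mem _, htV]
  obtain ⟨c, hc, hcρ⟩ := L.H.surj (gm 0)
  have hcs : ∀ j : Fin 3, j ≠ 0 → c * L.s * c⁻¹ ∈ V ∨ c * L.s * c⁻¹ * ⁅bb hs j, q⁆⁻¹ ∈ V := by
    intro j hj
    set b := bb hs j
    have hb := bb_mem hs j
    set e := ee hs j
    have he := ee_mem hs j
    have hes : ⁅b, e⁆ = L.s := by
      have h1 : ind ⁅e, b⁆ = 1 := by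
        show lam hs (ee hs j) j = 1
        rw [ee_lam]; simp
      rcases L.comm_E_B he hb with h | h
      · rw [h, ind_one] at h1; exact absurd h1 zero_ne_one
      · rw [← commutatorElement_inv, h, inv_eq_of_mul_eq_one_right L.cfg.dP.z_sq]
    have hρ : L.H.ρ b = L.H.ρ (c * b * c⁻¹) := by
      rw [L.H.ρ_conj hc (L.BB_t hb), bb_ρ, hcρ, sb, gm,
        (Pi.mulSingle_commute (f := fun _ : Fin 3 => Equiv.Perm (Fin 3)) (Ne.symm hj) γ₃ σ₃).eq, mul_inv_cancel_right]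
    have hcbt : c * b * c⁻¹ * L.H.t = L.H.t * (c * b * c⁻¹) :=
      (Commute.mul_left (Commute.mul_left hc (L.BB_t hb)) (Commute.inv_left hc)).eq
    set r := b⁻¹ * (c * b * c⁻¹) with hrdef
    have hr : r ∈ L.H.Q := L.H.mem_of_ρ_eq (L.BB_t hb) hcbt hρ
    have hx : c * e * c⁻¹ ∈ L.H.Q := L.H.data.norm c hc e he.1
    have e1 : c * L.s * c⁻¹ = b * ⁅r, c * e * c⁻¹⁆ * b⁻¹ * ⁅b, c * e * c⁻¹⁆ := by
      have : b * ⁅r, c * e * c⁻¹⁆ * b⁻¹ * ⁅b, c * e * c⁻¹⁆ = ⁅b * r, c * e * c⁻¹⁆ := by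
        simp only [commutatorElement_def]; group
      rw [this, hrdef, mul_inv_cancel_left, ← hes]
      simp only [commutatorElement_def]; group
    obtain ⟨z, hz, e2⟩ : ∃ z ∈ V, c * L.s * c⁻¹ = z * ⁅b, c * e * c⁻¹⁆ := by
      refine ⟨b * ⁅r, c * e * c⁻¹⁆ * b⁻¹, ?_, e1⟩
      rcases L.H.data.comm r hr _ hx with h | h <;> rw [h]
      · simpa using one_mem V
      · rw [L.BB_t hb, mul_inv_cancel_right]; exact htV
    rcases hcover b hb _ hx with h | h <;> rw [e2]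
    · exact Or.inl (mul_mem hz h)
    · exact Or.inr (by rw [mul_assoc]; exact mul_mem hz h)
  have hnotV : c * L.s * c⁻¹ ∉ V := fun h => by
    rcases mem_V_iff.mp h with h | h | h | h
    · exact L.cfg.dP.z_ne (conj_eq_one_iff.mp h)
    · have : L.s = c⁻¹ * L.H.t * c := by rw [← h]; group
      rw [mul_assoc, ← hc, inv_mul_cancel_left] at this
      exact L.cfg.ne this
    all_goals
      have := mem_Tbar.mp (stab hs hc (by tauto)) 0
      rw [hcρ, gm, Pi.mulSingle_eq_same] at this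
      rcases this with h' | h'
      · exact γ₃_facts.2.2.2.1 h'
      · exact γ₃_facts.2.2.2.2.2.1 h'
  have h1 := (hcs 1 (by decide)).resolve_left hnotV
  have h2 := (hcs 2 (by decide)).resolve_left hnotV
  set w1 := ⁅bb hs 1, q⁆
  set w2 := ⁅bb hs 2, q⁆
  have h12 : w1 * w2⁻¹ ∈ V := by
    have := mul_mem (inv_mem h1) h2
    rwa [show (c * L.s * c⁻¹ * w1⁻¹)⁻¹ * (c * L.s * c⁻¹ * w2⁻¹) = w1 * w2⁻¹ by group] at this
  have hb1 := bb_mem hs 1
  have hb2 := bb_mem hs 2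
  have hprod : ⁅bb hs 1 * bb hs 2, q⁆ ∈ V := by
    have e : ⁅bb hs 1 * bb hs 2, q⁆ = ⁅bb hs 1, w2⁆ * w2 * w1 := by
      simp only [w1, w2, commutatorElement_def]; group
    have hw2A := hwA _ hb2
    have hw1A := hwA _ hb1
    have e2 : w2 * w1 = (w1 * w2⁻¹) * ((w2 * w2) * ((w2⁻¹ * w1⁻¹ * w2 * w1))) := by group
    rw [e, mul_assoc, e2]
    refine mul_mem (hV1 w2 hw2A _ hb1) (mul_mem h12 (mul_mem ?_ ?_))
    · rcases L.H.data.sq (Cfg.mem_A.mp hw2A).1 with h | h <;> rw [h]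
      exacts [one_mem _, htV]
    · have e3 : w2⁻¹ * w1⁻¹ * w2 * w1 = ⁅w2⁻¹, w1⁻¹⁆ := by rw [commutatorElement_def]; group
      rcases L.H.data.comm _ (inv_mem (S := Subgroup G) (Cfg.mem_A.mp hw2A).1) _
        (inv_mem (S := Subgroup G) (Cfg.mem_A.mp hw1A).1) with h | h <;> rw [e3, h]
      exacts [one_mem _, htV]
  have := congrFun (hK _ (mul_mem hb1 hb2) hprod) 1
  rw [L.H.mul _ _ (L.BB_t hb1) (L.BB_t hb2), bb_ρ, bb_ρ] at this
  simp [sb, γ₃_facts.2.2.2.2.1] at this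

/-- The commutator map is the cross product. -/
theorem gam_eq [Finite G] (hs : L.Std) {a b : G} (ha : a ∈ L.AA) (hb : b ∈ L.BB) :
    gam hs a b = cross (mu hs a) (bit (L.H.ρ b)) := by
  obtain ⟨ε, h⟩ := gam_eq_smul hs
  have two : ∀ x : ZMod 2, x = 0 ∨ x = 1 := by decide
  rcases two ε with rfl | rfl
  · exact absurd (fun a ha b hb => by rw [h a ha b hb, zero_smul]) (gam_ne_zero hs)
  · rw [h a ha b hb, one_smul]

theorem cross_eq_zero {u : Fin 3 → ZMod 2} (h : ∀ j, cross u (Pi.single j 1) = 0) : u = 0 := by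
  have h0 := h 0
  have h1 := h 1
  funext m
  fin_cases m
  · simpa [cross] using congrFun h1 2
  · simpa [cross] using congrFun h0 2
  · simpa [cross] using congrFun h0 1

/-- The fixed space of `C_P(t)` on `Q`. -/
theorem fixed [Finite G] (hs : L.Std) {q : G} (hq : q ∈ L.H.Q)
    (h : ∀ b ∈ L.BB, FixMod L.H.t b q) : q = 1 ∨ q = L.H.t ∨ q = L.s ∨ q = L.s * L.H.t := by
  have hcomm : ∀ b ∈ L.BB, ⁅q, b⁆ = 1 ∨ ⁅q, b⁆ = L.H.t := fun b hb => by
    have e : ⁅q, b⁆ = q * (b * q * b⁻¹)⁻¹ := by rw [commutatorElement_def]; group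
    rcases h b hb with h | h <;> rw [e, h]
    · exact Or.inl (mul_inv_cancel q)
    · refine Or.inr ?_
      rw [mul_inv_rev, inv_eq_of_mul_eq_one_right L.H.data.z_sq, ← mul_assoc, L.H.ct hq, mul_inv_cancel_right]
  by_cases hA : q ∈ L.AA
  · have hmu : mu hs q = 0 := by
      refine cross_eq_zero fun j => ?_
      rw [← funext (bit_sb j), ← bb_ρ hs j, ← gam_eq hs hA (bb_mem hs j), gam]
      rcases hcomm _ (bb_mem hs j) with e | e <;> rw [e]
      exacts [lam_one hs, lam_V hs (by tauto)]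
    have hE := mu_ker hs hA hmu
    refine lam_ker hs hE (funext fun j => ind_eq_zero.mpr ?_)
    rcases hcomm _ (bb_mem hs j) with e | e
    · exact e
    · rcases L.comm_E_B hE (bb_mem hs j) with e' | e'
      · exact e'
      · exact absurd (e'.symm.trans e) L.cfg.ne
  · exfalso
    have hb := bb_mem hs 0
    have he := ee_mem hs 0
    set b := bb hs 0 with hbdef
    set e := ee hs 0 with hedef
    have hes : b * e * b⁻¹ = L.s * e := by
      have h1 : ⁅e, b⁆ = L.s := by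
        refine (L.comm_E_B he hb).resolve_left fun h1 => ?_
        have : lam hs (ee hs 0) 0 = 0 := ind_eq_zero.mpr h1
        rw [ee_lam] at this
        simp at this
      have h2 : ⁅b, e⁆ = L.s := by rw [← commutatorElement_inv, h1, inv_eq_of_mul_eq_one_right L.cfg.dP.z_sq]
      rw [← h2, commutatorElement_def]; group
    have hqs : ⁅q, L.s⁆ = L.H.t := (L.H.data.comm q hq L.s L.cfg.s_mem).resolve_left fun h1 =>
      hA (Cfg.mem_A.mpr ⟨hq, commutatorElement_eq_one_iff_mul_comm.mp h1⟩)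
    have key : ⁅b * q * b⁻¹, b * e * b⁻¹⁆ = ⁅q, e⁆ := by
      rw [← conjugate_commutatorElement]
      rcases L.H.data.comm q hq e he.1 with h1 | h1 <;> rw [h1]
      · simp
      · rw [L.BB_t hb, mul_inv_cancel_right]
    have h3 : ⁅b * q * b⁻¹, b * e * b⁻¹⁆ = ⁅q, L.s * e⁆ := by
      rw [hes]
      rcases h b hb with h1 | h1 <;> rw [h1]
      have hse : L.H.t * (L.s * e) = (L.s * e) * L.H.t := (L.H.ct (mul_mem L.cfg.s_mem he.1)).symm
      rw [L.H.data.comm_mul_left hq L.H.data.z_mem (mul_mem L.cfg.s_mem he.1),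
        commutatorElement_eq_one_iff_mul_comm.mpr hse, mul_one]
    rw [h3, show ⁅q, L.s * e⁆ = ⁅q, L.s⁆ * (L.s * ⁅q, e⁆ * L.s⁻¹) by
      simp only [commutatorElement_def]; group, hqs] at key
    rcases L.H.data.comm q hq e he.1 with h1 | h1 <;> rw [h1] at key
    · simp [L.H.data.z_ne] at key
    · rw [← L.ts, mul_inv_cancel_right, L.H.data.z_sq] at key
      exact L.H.data.z_ne key.symm

/-- One class of conjugates of `t` in `Q ∖ ⟨t⟩`. -/
theorem orbit [Finite G] (hs : L.Std) {g : G} (hg : g * L.H.t * g⁻¹ ∈ L.H.Q) (hne : g * L.H.t * g⁻¹ ≠ L.H.t) :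
    ∃ h, h * L.H.t = L.H.t * h ∧ h * L.s * h⁻¹ = g * L.H.t * g⁻¹ := by
  obtain ⟨L', hH, hs', -⟩ := exists_lk L.H hg hne
  set s' := g * L.H.t * g⁻¹ with hs'def
  obtain ⟨w, hw⟩ := exists_conj_Tbar L'.card_E_range.2
  obtain ⟨x, hx, hxρ⟩ := L.H.surj w
  set s'' := x * s' * x⁻¹ with hs''
  have hs''Q : s'' ∈ L.H.Q := L.H.data.norm x hx s' hg
  have hfix : ∀ b ∈ L.BB, FixMod L.H.t b s'' := by
    intro b hb
    have h1 : L.H.ρ b ∈ L'.φB.range.map (MulAut.conj w).toMonoidHom := hw ▸ ρ_B hs hb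
    obtain ⟨r, ⟨b', rfl⟩, hr⟩ := h1
    have hb't : (b' : G) * L.H.t = L.H.t * b' := by
      have := L'.BB_t b'.2
      rwa [hH] at this
    have hb's : (b' : G) * s' = s' * b' := by
      have := L'.BB_s b'.2
      rwa [hs'] at this
    have hct : x * b' * x⁻¹ * L.H.t = L.H.t * (x * b' * x⁻¹) :=
      (Commute.mul_left (Commute.mul_left hx hb't) (Commute.inv_left hx)).eq
    have hρ : L.H.ρ (x * b' * x⁻¹) = L.H.ρ b := by
      rw [L.H.ρ_conj hx hb't, hxρ, ← hr]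
      show w * L.H.ρ b' * w⁻¹ = w * L'.H.ρ b' * w⁻¹
      rw [hH]
    have hq := L.H.mem_of_ρ_eq hct (L.BB_t hb) hρ
    rw [show b = x * b' * x⁻¹ * ((x * b' * x⁻¹)⁻¹ * b) by group]
    refine FixMod.mul hct L.H.data.z_sq (Or.inl ?_) (FixMod.of_comm (L.H.data.comm _ hq _ hs''Q) (L.H.ct hs''Q))
    calc x * b' * x⁻¹ * (x * s' * x⁻¹) * (x * b' * x⁻¹)⁻¹ = x * (b' * s' * (b' : G)⁻¹) * x⁻¹ := by group
      _ = s'' := by rw [hb's, mul_inv_cancel_right]
  have hback : ∀ u, s'' = x * u * x⁻¹ → s' = u := fun u e => mul_left_cancel (mul_right_cancel (e : x * s' * x⁻¹ = _))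
  obtain ⟨q, hq, hqe⟩ : ∃ q, q * L.H.t = L.H.t * q ∧ q * L.s * q⁻¹ = s'' := by
    rcases fixed hs hs''Q hfix with h | h | h | h
    · exact absurd (hback 1 (by rw [h]; group)) (fun e => L.H.data.z_ne (conj_eq_one_iff.mp e))
    · exact absurd (hback L.H.t (by rw [h, hx, mul_inv_cancel_right])) hne
    · exact ⟨1, by simp, by rw [h]; group⟩
    · obtain ⟨q, hq, hqe⟩ := L.H.data.exists_conj_eq L.cfg.s_mem L.cfg.dP.z_ne L.cfg.ne
      exact ⟨q, L.H.ct hq, hqe.trans h.symm⟩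
  refine ⟨x⁻¹ * q, (Commute.mul_left (Commute.inv_left hx) hq).eq, ?_⟩
  calc x⁻¹ * q * L.s * (x⁻¹ * q)⁻¹ = x⁻¹ * (q * L.s * q⁻¹) * x := by group
    _ = s' := by rw [hqe, hs'']; group

/-- A factor of order three fixes nothing on `Q/⟨t⟩`. -/
theorem fpf [Finite G] (hs : L.Std) {a : Fin 3} {c : G} (hc : c * L.H.t = L.H.t * c) (hcρ : L.H.ρ c = gm a)
    {q : G} (hq : q ∈ L.H.Q) (h : FixMod L.H.t c q) : q = 1 ∨ q = L.H.t := by
  by_contra hne
  have htt := L.H.data.z_sq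
  -- invariance of the fixed set
  have hinv : ∀ b ∈ L.BB, ∀ x ∈ L.H.Q, FixMod L.H.t c x → FixMod L.H.t c (b * x * b⁻¹) := by
    intro b hb x hx hfx
    have hbt := L.BB_t hb
    have hbct : b⁻¹ * c * b * L.H.t = L.H.t * (b⁻¹ * c * b) :=
      (Commute.mul_left (Commute.mul_left (Commute.inv_left hbt) hc) hbt).eq
    have hρ : L.H.ρ (b⁻¹ * c * b) = L.H.ρ c ∨ L.H.ρ (b⁻¹ * c * b) = L.H.ρ (c * c) := by
      have e : L.H.ρ (b⁻¹ * c * b) = (L.H.ρ b)⁻¹ * gm a * L.H.ρ b := by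
        rw [L.H.mul _ _ (Commute.mul_left (Commute.inv_left hbt) hc).eq hbt, L.H.mul _ _ (Commute.inv_left hbt).eq hc,
          L.H.ρ_inv hbt, hcρ]
      rw [e, L.H.mul _ _ hc hc, hcρ]
      have hi : σ₃⁻¹ = σ₃ := inv_eq_of_mul_eq_one_right γ₃_facts.2.1
      have h2 := mem_Tbar.mp (ρ_B hs hb)
      rcases h2 a with h1 | h1 <;> [left; right] <;> funext m <;>
        (rcases eq_or_ne m a with rfl | hm
         · simp [gm, h1, hi, γ₃_facts.2.2.1]
         · rcases h2 m with h3 | h3 <;> simp [gm, hm, h3, hi, γ₃_facts.2.1])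
    have hfix : FixMod L.H.t (b⁻¹ * c * b) x := by
      obtain ⟨c', hc', hc'f, hc'ρ⟩ : ∃ c', c' * L.H.t = L.H.t * c' ∧ FixMod L.H.t c' x ∧
          L.H.ρ c' = L.H.ρ (b⁻¹ * c * b) := by
        rcases hρ with h1 | h1
        · exact ⟨c, hc, hfx, h1.symm⟩
        · exact ⟨c * c, (Commute.mul_left hc hc).eq, hfx.mul hc htt hfx, h1.symm⟩
      have hr := L.H.mem_of_ρ_eq hc' hbct hc'ρ
      rw [show b⁻¹ * c * b = c' * (c'⁻¹ * (b⁻¹ * c * b)) by group]
      exact hc'f.mul hc' htt (FixMod.of_comm (L.H.data.comm _ hr x hx) (L.H.ct hx))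
    have e : c * (b * x * b⁻¹) * c⁻¹ = b * (b⁻¹ * c * b * x * (b⁻¹ * c * b)⁻¹) * b⁻¹ := by group
    unfold FixMod
    rcases hfix with h1 | h1 <;> rw [e, h1]
    · exact Or.inl rfl
    · refine Or.inr ?_
      calc b * (x * L.H.t) * b⁻¹ = b * x * b⁻¹ * (b * L.H.t * b⁻¹) := by group
        _ = _ := by rw [hbt, mul_inv_cancel_right]
  -- one more generator fixed
  have step : ∀ (j : Fin 3) (S : Finset (Fin 3)) (x : G), x ∈ L.H.Q → ¬ (x = 1 ∨ x = L.H.t) → FixMod L.H.t c x →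
      (∀ i ∈ S, FixMod L.H.t (bb hs i) x) → ∃ y ∈ L.H.Q, ¬ (y = 1 ∨ y = L.H.t) ∧ FixMod L.H.t c y ∧
        ∀ i ∈ insert j S, FixMod L.H.t (bb hs i) y := by
    intro j S x hx hxne hfx hS
    set b := bb hs j with hbdef
    have hb := bb_mem hs j
    have hbt := L.BB_t hb
    by_cases hj : FixMod L.H.t b x
    · refine ⟨x, hx, hxne, hfx, fun i hi => ?_⟩
      rcases Finset.mem_insert.mp hi with rfl | hi
      exacts [hj, hS i hi]
    set u := b * x * b⁻¹ with hu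
    have huQ : u ∈ L.H.Q := L.H.data.norm b hbt x hx
    have hfu := hinv b hb x hx hfx
    have hprod : ∀ g, g * L.H.t = L.H.t * g → FixMod L.H.t g u → FixMod L.H.t g x → FixMod L.H.t g (u * x) := by
      intro g hg h1 h2
      have e : g * (u * x) * g⁻¹ = (g * u * g⁻¹) * (g * x * g⁻¹) := by group
      unfold FixMod
      rcases h1 with h1 | h1 <;> rcases h2 with h2 | h2 <;> rw [e, h1, h2]
      · exact Or.inl rfl
      · exact Or.inr (mul_assoc u x L.H.t).symm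
      · exact Or.inr (by rw [mul_assoc u L.H.t x, ← L.H.ct hx, ← mul_assoc u x])
      · refine Or.inl ?_
        rw [mul_assoc u, ← mul_assoc L.H.t x, ← L.H.ct hx, mul_assoc x, htt, mul_one]
    refine ⟨u * x, mul_mem huQ hx, ?_, hprod c hc hfu hfx, fun i hi => ?_⟩
    · intro h1
      apply hj
      unfold FixMod
      rw [← hu]
      rcases L.H.data.sq hx with h2 | h2 <;> rcases h1 with h1 | h1
      · exact Or.inl (mul_right_cancel (h1.trans h2.symm))
      · exact Or.inr (mul_right_cancel (h1.trans (by rw [L.H.ct hx, mul_assoc, h2, mul_one])))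
      · exact Or.inr (mul_right_cancel (h1.trans (by rw [L.H.ct hx, mul_assoc, h2, htt])))
      · exact Or.inl (mul_right_cancel (h1.trans h2.symm))
    rcases Finset.mem_insert.mp hi with rfl | hi
    · have hbb : FixMod L.H.t (b * b) x := by
        refine FixMod.of_comm (L.H.data.comm _ ?_ x hx) (L.H.ct hx)
        rcases L.cfg.dP.sq (Cfg.mem_A.mp hb).1 with h1 | h1 <;> rw [hbdef, h1]
        exacts [one_mem _, L.cfg.s_mem]
      have hux : b * u * b⁻¹ = b * b * x * (b * b)⁻¹ := by rw [hu]; group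
      have e : b * (u * x) * b⁻¹ = (b * b * x * (b * b)⁻¹) * u := by rw [← hux, hu]; group
      have hswap : x * u = u * x ∨ x * u = u * x * L.H.t := by
        have e2 : x * u = ⁅x, u⁆ * (u * x) := by rw [commutatorElement_def]; group
        rcases L.H.data.comm x hx u huQ with h1 | h1 <;> rw [e2, h1]
        · exact Or.inl (one_mul _)
        · exact Or.inr (L.H.ct (mul_mem huQ hx)).symm
      show b * (u * x) * b⁻¹ = u * x ∨ b * (u * x) * b⁻¹ = u * x * L.H.t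
      rcases hbb with h1 | h1 <;> rw [e, h1]
      · exact hswap
      · rw [mul_assoc x, ← L.H.ct huQ, ← mul_assoc]
        rcases hswap with h2 | h2 <;> rw [h2]
        · exact Or.inr rfl
        · exact Or.inl (by rw [mul_assoc, htt, mul_one])
    · refine hprod _ (L.BB_t (bb_mem hs i)) ?_ (hS i hi)
      set b' := bb hs i
      have hb' := bb_mem hs i
      have hr : (b' * b)⁻¹ * (b * b') ∈ L.EE := by
        refine L.mem_E_of_B (mul_mem (inv_mem (mul_mem hb' hb)) (mul_mem hb hb')) ?_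
        refine L.H.mem_of_ρ_eq (Commute.mul_left (L.BB_t hb') hbt).eq (Commute.mul_left hbt (L.BB_t hb')).eq ?_
        rw [L.H.mul _ _ (L.BB_t hb') hbt, L.H.mul _ _ hbt (L.BB_t hb')]
        exact (Tbar_comm (ρ_B hs hb') (ρ_B hs hb)).1
      set r := (b' * b)⁻¹ * (b * b') with hrdef
      -- b' b = b b' r⁻¹
      have hri : FixMod L.H.t r⁻¹ x := FixMod.of_comm (L.H.data.comm _ (inv_mem hr.1) x hx) (L.H.ct hx)
      have h2 := (hS i hi).mul (L.BB_t hb') htt hri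
      have e : b' * u * b'⁻¹ = b * (b' * r⁻¹ * x * (b' * r⁻¹)⁻¹) * b⁻¹ := by
        rw [show b' * u * b'⁻¹ = b' * b * x * (b' * b)⁻¹ by rw [hu]; group,
          show b' * b = b * b' * r⁻¹ by rw [hrdef]; group]
        group
      unfold FixMod
      rcases h2 with h1 | h1 <;> rw [e, h1]
      · exact Or.inl rfl
      · refine Or.inr ?_
        rw [hu]
        calc b * (x * L.H.t) * b⁻¹ = b * x * b⁻¹ * (b * L.H.t * b⁻¹) := by group
          _ = _ := by rw [hbt, mul_inv_cancel_right]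
  obtain ⟨y0, h0Q, h0n, h0c, h0⟩ := step 0 ∅ q hq hne h (by simp)
  obtain ⟨y1, h1Q, h1n, h1c, h1⟩ := step 1 _ y0 h0Q h0n h0c h0
  obtain ⟨y2, h2Q, h2n, h2c, h2⟩ := step 2 _ y1 h1Q h1n h1c h1
  have hall : ∀ b ∈ L.BB, FixMod L.H.t b y2 := fun b hb =>
    B_induction hs (p := fun b => FixMod L.H.t b y2)
      (fun f hf => FixMod.of_comm (L.H.data.comm f hf.1 y2 h2Q) (L.H.ct h2Q))
      (fun i => h2 i (by fin_cases i <;> simp))
      (fun x hx _ _ px py => px.mul (L.BB_t hx) htt py) hb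
  have hct : c * L.H.t * c⁻¹ = L.H.t := by rw [hc, mul_inv_cancel_right]
  have hcs : c * L.s * c⁻¹ = L.s ∨ c * L.s * c⁻¹ = L.s * L.H.t := by
    rcases fixed hs h2Q hall with e | e | e | e
    · exact absurd (Or.inl e) h2n
    · exact absurd (Or.inr e) h2n
    · rw [e] at h2c; exact h2c
    · rw [e] at h2c
      have e2 : c * L.s * c⁻¹ = c * (L.s * L.H.t) * c⁻¹ * L.H.t := by
        calc c * L.s * c⁻¹ = c * L.s * c⁻¹ * (L.H.t * L.H.t) := by rw [htt, mul_one]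
          _ = c * L.s * c⁻¹ * (c * L.H.t * c⁻¹) * L.H.t := by rw [hct]; group
          _ = _ := by group
      rcases h2c with h1 | h1 <;> rw [e2, h1]
      · exact Or.inl (by rw [mul_assoc, htt, mul_one])
      · exact Or.inr (by rw [mul_assoc _ L.H.t, htt, mul_one])
  have := mem_Tbar.mp (stab hs hc hcs) a
  rw [hcρ, gm, Pi.mulSingle_eq_same] at this
  rcases this with h' | h'
  · exact γ₃_facts.2.2.2.1 h'
  · exact γ₃_facts.2.2.2.2.2.1 h'

end Lk

end Cfsg.Agent.OmegaEight
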