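import Cfsg.Agent.EqLemmas

/-
Coset table certificates for a family of involutions `g : ℕ → G` with relations: a deduction list
fills a table (one byte per entry), and a complete table bounds the order of the generated group.
-/

set_option autoImplicit false

namespace Cfsg.Agent.OmegaEight

/-- The value of a word. -/
def evalL {G : Type*} [Group G] (g : ℕ → G) (w : List ℕ) : G := (w.map g).prod

/-- A table entry: zero, or one more than the coset. -/
def tget (st k : ℕ) : ℕ := (st >>> (8 * k)) &&& 255

/-- Fill an empty entry. -/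
def tput (st k v : ℕ) : ℕ := if tget st k = 0 then st ||| (v <<< (8 * k)) else st

theorem tget_tput (st k v k' : ℕ) (hv : v < 256) :
    tget (tput st k v) k' = if k' = k ∧ tget st k = 0 then v else tget st k' := by
  unfold tput
  by_cases h0 : tget st k = 0
  swap
  · simp [h0]
  simp only [h0, if_true, and_true]
  apply Nat.eq_of_testBit_eq
  intro i
  have e : ∀ x : ℕ, (x &&& 255).testBit i = (x.testBit i && decide (i < 8)) := fun x => by
    rw [Nat.testBit_and, show (255 : ℕ) = 2 ^ 8 - 1 by norm_num, Nat.testBit_two_pow_sub_one]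
  have hhi : ¬ i < 8 → v.testBit i = false := fun h =>
    Nat.testBit_lt_two_pow (lt_of_lt_of_le hv (by
      calc (256 : ℕ) = 2 ^ 8 := by norm_num
        _ ≤ 2 ^ i := Nat.pow_le_pow_right (by norm_num) (by omega)))
  have hlow : i < 8 → st.testBit (8 * k + i) = false := fun h => by
    have := congrArg (fun x => Nat.testBit x i) h0
    simp only [tget, e, Nat.testBit_shiftRight, Nat.zero_testBit] at this
    simpa [h] using this
  by_cases hi : i < 8
  · by_cases hk : k' = k
    · subst hk
      rw [if_pos rfl, tget, e, Nat.testBit_shiftRight, Nat.testBit_or, hlow hi, Nat.testBit_shiftLeft]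
      simp [hi]
    · rw [if_neg hk, tget, tget, e, e, Nat.testBit_shiftRight, Nat.testBit_shiftRight, Nat.testBit_or,
        Nat.testBit_shiftLeft]
      rcases lt_or_gt_of_ne hk with h | h
      · have : ¬ (8 * k ≤ 8 * k' + i) := by omega
        simp [this]
      · have : v.testBit (8 * k' + i - 8 * k) = false :=
          Nat.testBit_lt_two_pow (lt_of_lt_of_le hv (by
            calc (256 : ℕ) = 2 ^ 8 := by norm_num
              _ ≤ 2 ^ (8 * k' + i - 8 * k) := Nat.pow_le_pow_right (by norm_num) (by omega)))
        simp [this]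
  · split_ifs with hk
    · rw [hhi hi, tget, e]; simp [hi]
    · rw [tget, tget, e, e]; simp [hi]

/-- Follow a word through the table. -/
def trav (ng st : ℕ) : ℕ → List ℕ → Option ℕ
  | i, [] => some i
  | i, a :: l => if a < ng then
      match tget st (i * ng + a) with
      | 0 => none
      | j + 1 => trav ng st j l
    else none

/-- One deduction `(i, a, j, kind, code)`. -/
def stepOK (ng : ℕ) (sub : List ℕ) (R reps : List (List ℕ)) (st : ℕ) (s : ℕ × ℕ × ℕ × ℕ × ℕ) : Bool :=
  match s with
  | (i, a, j, kind, code) => decide (a < ng) && decide (i < 255) && decide (j < 255) &&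
    match kind with
    | 0 => decide (i = 0) && decide (j = 0) && decide (a ∈ sub)
    | 1 => decide (reps.getD j [] = reps.getD i [] ++ [a])
    | _ =>
      match (if code / 64 % 2 = 1 then (R.getD (code / 128) []).reverse else R.getD (code / 128) []).rotate
          (code % 64) with
      | [] => false
      | b :: l => decide (b = a) && decide (trav ng st i l.reverse = some j)

/-- All deductions. -/
def run (ng : ℕ) (sub : List ℕ) (R reps : List (List ℕ)) : ℕ → List (ℕ × ℕ × ℕ × ℕ × ℕ) → Option ℕ
  | st, [] => some st
  | st, s :: l => if stepOK ng sub R reps st s then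
      run ng sub R reps (tput (tput st (s.1 * ng + s.2.1) (s.2.2.1 + 1)) (s.2.2.1 * ng + s.2.1) (s.1 + 1)) l
    else none

/-- The complete check. -/
def check (ng : ℕ) (sub : List ℕ) (R reps : List (List ℕ)) (steps : List (ℕ × ℕ × ℕ × ℕ × ℕ)) : Bool :=
  decide (reps.getD 0 [] = []) && decide (0 < reps.length) &&
    match run ng sub R reps 0 steps with
    | none => false
    | some st => (List.range (reps.length * ng)).all fun k =>
        decide (tget st k ≠ 0) && decide (tget st k ≤ reps.length)

variable {G : Type*} [Group G] (g : ℕ → G) (H : Subgroup G)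

theorem evalL_append (l m : List ℕ) : evalL g (l ++ m) = evalL g l * evalL g m := by
  simp [evalL]

theorem evalL_reverse (hg : ∀ a, g a * g a = 1) (l : List ℕ) : evalL g l.reverse = (evalL g l)⁻¹ := by
  induction l with
  | nil => simp [evalL]
  | cons a l ih =>
    rw [List.reverse_cons, evalL_append, ih, show a :: l = [a] ++ l from rfl, evalL_append, mul_inv_rev]
    congr 1
    show g a * 1 = (g a * 1)⁻¹
    rw [mul_one]
    exact eq_inv_of_mul_eq_one_left (hg a)

theorem evalL_rotate {l : List ℕ} (h : evalL g l = 1) (k : ℕ) : evalL g (l.rotate k) = 1 := by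
  rw [List.rotate_eq_drop_append_take_mod, evalL_append]
  rw [← List.take_append_drop (k % l.length) l, evalL_append] at h
  rw [mul_eq_one_comm] at h
  exact h

/-- Valid entries. -/
def TInv (ng : ℕ) (reps : List (List ℕ)) (st : ℕ) : Prop :=
  ∀ i a j : ℕ, a < ng → tget st (i * ng + a) = j + 1 →
    evalL g (reps.getD i []) * g a * (evalL g (reps.getD j []))⁻¹ ∈ H

variable {g H}

theorem trav_mem {ng st : ℕ} {reps : List (List ℕ)} (hI : TInv g H ng reps st) :
    ∀ (l : List ℕ) (i j : ℕ), trav ng st i l = some j →
      evalL g (reps.getD i []) * evalL g l * (evalL g (reps.getD j []))⁻¹ ∈ H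
  | [], i, j, h => by
    simp only [trav, Option.some.injEq] at h
    subst h
    simp [evalL]
  | a :: l, i, j, h => by
    unfold trav at h
    split_ifs at h with ha
    split at h
    · exact absurd h (by simp)
    · rename_i m hm
      have e := mul_mem (hI i a m ha hm) (trav_mem hI l m j h)
      rw [show a :: l = [a] ++ l from rfl, evalL_append, show evalL g [a] = g a by simp [evalL]]
      simpa [mul_assoc] using e

theorem run_inv {ng : ℕ} {sub : List ℕ} {R reps : List (List ℕ)} (hg : ∀ a, g a * g a = 1)
    (hR : ∀ w ∈ R, evalL g w = 1) (hsub : ∀ a ∈ sub, g a ∈ H) (h0 : reps.getD 0 [] = []) :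
    ∀ (l : List (ℕ × ℕ × ℕ × ℕ × ℕ)) (st st' : ℕ), TInv g H ng reps st →
      run ng sub R reps st l = some st' → TInv g H ng reps st'
  | [], st, st', hI, h => by
    simp only [run, Option.some.injEq] at h
    exact h ▸ hI
  | (i, a, j, kind, code) :: l, st, st', hI, h => by
    unfold run at h
    split_ifs at h with hs
    refine run_inv hg hR hsub h0 l _ st' ?_ h
    simp only [stepOK, Bool.and_eq_true, decide_eq_true_eq] at hs
    obtain ⟨⟨⟨ha, hi⟩, hj⟩, hs⟩ := hs
    have key : evalL g (reps.getD i []) * g a * (evalL g (reps.getD j []))⁻¹ ∈ H := by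
      split at hs
      · simp only [Bool.and_eq_true, decide_eq_true_eq] at hs
        obtain ⟨⟨rfl, rfl⟩, hm⟩ := hs
        rw [h0]
        simpa [evalL] using hsub a hm
      · rw [decide_eq_true_eq] at hs
        rw [hs, evalL_append]
        simp [evalL]
      · split at hs
        · simp at hs
        · rename_i b t hw
          simp only [Bool.and_eq_true, decide_eq_true_eq] at hs
          obtain ⟨rfl, ht⟩ := hs
          have hbase : evalL g (R.getD (code / 128) []) = 1 := by
            by_cases hlt : code / 128 < R.length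
            · rw [List.getD_eq_getElem _ _ hlt]; exact hR _ (List.getElem_mem hlt)
            · rw [List.getD_eq_default _ _ (not_lt.mp hlt)]; rfl
          have hone : evalL g (b :: t) = 1 := by
            rw [← hw]
            refine evalL_rotate g ?_ _
            split_ifs
            · rw [evalL_reverse g hg, hbase, inv_one]
            · exact hbase
          have e : g b = evalL g t.reverse := by
            rw [evalL_reverse g hg]
            refine eq_inv_of_mul_eq_one_left ?_
            simpa [evalL] using hone
          rw [e]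
          exact trav_mem hI _ _ _ ht
    have key' : evalL g (reps.getD j []) * g a * (evalL g (reps.getD i []))⁻¹ ∈ H := by
      have := inv_mem key
      rw [show (evalL g (reps.getD i []) * g a * (evalL g (reps.getD j []))⁻¹)⁻¹ =
        evalL g (reps.getD j []) * (g a)⁻¹ * (evalL g (reps.getD i []))⁻¹ by group,
        inv_eq_of_mul_eq_one_right (hg a)] at this
      exact this
    intro i' a' j' ha' hget
    rw [tget_tput _ _ _ _ (by simp only; omega)] at hget
    have hidx : ∀ x : ℕ, i' * ng + a' = x * ng + a → i' = x ∧ a' = a := by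
      intro x he
      have e1 := congrArg (· % ng) he
      simp only [Nat.mul_add_mod_self_right, Nat.mod_eq_of_lt ha', Nat.mod_eq_of_lt ha] at e1
      subst e1
      refine ⟨Nat.eq_of_mul_eq_mul_right (m := ng) (by omega) ?_, rfl⟩
      omega
    split_ifs at hget with h1
    · obtain ⟨e1, e2⟩ := hidx j h1.1
      have e3 : j' = i := by simp only at hget; omega
      rw [e1, e2, e3]
      exact key'
    · rw [tget_tput _ _ _ _ (by simp only; omega)] at hget
      split_ifs at hget with h2
      · obtain ⟨e1, e2⟩ := hidx i h2.1
        have e3 : j' = j := by simp only at hget; omega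
        rw [e1, e2, e3]
        exact key
      · exact hI i' a' j' ha' hget

/-- A complete table bounds the order. -/
theorem card_le_of_check [Finite G] {ng : ℕ} {sub : List ℕ} {R reps : List (List ℕ)}
    {steps : List (ℕ × ℕ × ℕ × ℕ × ℕ)} (hc : check ng sub R reps steps = true)
    (hg : ∀ a, g a * g a = 1) (hR : ∀ w ∈ R, evalL g w = 1) (hsub : ∀ a ∈ sub, g a ∈ H) :
    Nat.card (Subgroup.closure (g '' Set.Iio ng)) ≤ reps.length * Nat.card H := by
  simp only [check, Bool.and_eq_true, decide_eq_true_eq] at hc
  obtain ⟨⟨h0, hlen⟩, hc⟩ := hc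
  split at hc
  · simp at hc
  rename_i st hst
  have hI : TInv g H ng reps st := by
    refine run_inv hg hR hsub h0 steps 0 st ?_ hst
    intro i a j _ h
    simp [tget] at h
  simp only [List.all_eq_true, List.mem_range, Bool.and_eq_true, decide_eq_true_eq] at hc
  have hcov : ∀ x ∈ Subgroup.closure (g '' Set.Iio ng),
      ∃ i : Fin reps.length, x * (evalL g (reps.getD i []))⁻¹ ∈ H := by
    intro x hx
    have hstep : ∀ y z : G, y ∈ g '' Set.Iio ng →
        (∃ i : Fin reps.length, z * (evalL g (reps.getD i []))⁻¹ ∈ H) →
        ∃ i : Fin reps.length, z * y * (evalL g (reps.getD i []))⁻¹ ∈ H := by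
      rintro y z ⟨a, ha, rfl⟩ ⟨i, hi⟩
      have hk : (i : ℕ) * ng + a < reps.length * ng := by
        calc (i : ℕ) * ng + a < ((i : ℕ) + 1) * ng := by rw [add_mul, one_mul]; exact Nat.add_lt_add_left ha _
          _ ≤ reps.length * ng := Nat.mul_le_mul_right _ i.2
      obtain ⟨hne, hle⟩ := hc _ hk
      obtain ⟨j, hj⟩ : ∃ j, tget st ((i : ℕ) * ng + a) = j + 1 :=
        ⟨_, (Nat.succ_pred_eq_of_ne_zero hne).symm⟩
      refine ⟨⟨j, by omega⟩, ?_⟩
      have := mul_mem hi (hI i a j ha hj)
      simpa [mul_assoc] using this
    induction hx using Subgroup.closure_induction_right with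
    | one => exact ⟨⟨0, hlen⟩, by show 1 * (evalL g (reps.getD 0 []))⁻¹ ∈ H; rw [h0]; simp [evalL]⟩
    | mul_right z _ y hy ih => exact hstep y z hy ih
    | mul_inv_cancel z _ y hy ih =>
      obtain ⟨a, ha, rfl⟩ := hy
      rw [inv_eq_of_mul_eq_one_right (hg a)]
      exact hstep _ z ⟨a, ha, rfl⟩ ih
  choose f hf using hcov
  have hinj : Function.Injective (fun x : Subgroup.closure (g '' Set.Iio ng) =>
      ((f x x.2, ⟨_, hf x x.2⟩) : Fin reps.length × H)) := by
    intro x y h
    simp only [Prod.mk.injEq, Subtype.mk.injEq] at h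
    obtain ⟨h1, h2⟩ := h
    rw [h1] at h2
    exact Subtype.ext (mul_right_cancel h2)
  refine (Nat.card_le_card_of_injective _ hinj).trans ?_
  rw [Nat.card_prod, Nat.card_eq_fintype_card, Fintype.card_fin]

end Cfsg.Agent.OmegaEight
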