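import Cfsg.Agent.Lib.OmegaEight.Lifts

/-
The elements attached to a complement: `e a`, `k a`, `p`, the second root involutions `Y a`, the reflections
`N a`, their conjugation table, and the partner `y ∈ P` with `(p y)³ = 1` (`exists_frame`).
-/

set_option autoImplicit false
set_option linter.unusedSectionVars false

namespace Cfsg.Agent.OmegaEight

open Cfsg.Agent.LargeExtraspecial
open scoped commutatorElement

variable {G : Type*} [Group G]

/-- Conjugation. -/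
def cj (g u : G) : G := g * u * g⁻¹

theorem cj_mul (g u v : G) : cj g (u * v) = cj g u * cj g v := by unfold cj; group

theorem cj_cj (g h u : G) : cj g (cj h u) = cj (g * h) u := by unfold cj; group

theorem cj_one (g : G) : cj g (1 : G) = 1 := by simp [cj]

theorem cj_comm (g : G) {u v : G} (h : u * v = v * u) : cj g u * cj g v = cj g v * cj g u := by
  rw [← cj_mul, ← cj_mul, h]

theorem cj_of_comm {g u : G} (h : g * u = u * g) : cj g u = u := by rw [cj, h, mul_inv_cancel_right]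

theorem comm_of_cj {g u : G} (h : cj g u = u) : g * u = u * g := mul_inv_eq_iff_eq_mul.mp h

theorem cj_inj {g u v : G} (h : cj g u = cj g v) : u = v := mul_left_cancel (mul_right_cancel h)

theorem cj_inv_left (g u : G) : cj g⁻¹ (cj g u) = u := by unfold cj; group

theorem cj_inv_right (g u : G) : cj g (cj g⁻¹ u) = u := by unfold cj; group

theorem cj_self {g u : G} (h : g * g = 1) : cj g (cj g u) = u := by
  rw [cj_cj, h]; simp [cj]

/-- For involutions `g`, a conjugate determines the reverse one. -/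
theorem cj_symm {g u v : G} (h : g * g = 1) (e : cj g u = v) : cj g v = u := by rw [← e, cj_self h]

/-- An involution commutes with a word in the other form. -/
theorem conj_inv {g u : G} (h : g * g = 1) : cj g u = g * u * g := by
  rw [cj, inv_eq_of_mul_eq_one_right h]

theorem comm_inv {u v : G} (hu : u * u = 1) (hv : v * v = 1) : ⁅u, v⁆ = u * cj v u := by
  rw [conj_inv hv, commutatorElement_def, inv_eq_of_mul_eq_one_right hu, inv_eq_of_mul_eq_one_right hv]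
  group

theorem fin3_facts : ∀ a : Fin 3, a ≠ a + 1 ∧ a ≠ a + 2 ∧ a + 1 ≠ a ∧ a + 2 ≠ a ∧ a + 1 ≠ a + 2 ∧
    a + 2 ≠ a + 1 ∧ a + 1 + 1 = a + 2 ∧ a + 1 + 2 = a ∧ a + 2 + 1 = a ∧ a + 2 + 2 = a + 1 := by decide

theorem fin3_cases : ∀ a b : Fin 3, b = a ∨ b = a + 1 ∨ b = a + 2 := by decide

theorem fin3_other : ∀ a b : Fin 3, a ≠ b → b = a + 1 ∨ b = a + 2 := by decide

namespace Lk

theorem cross_two : ∀ (a : Fin 3) (u : Fin 3 → ZMod 2), cross u (Pi.single (a + 1) 1) = 0 →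
    cross u (Pi.single (a + 2) 1) = 0 → u = 0 := by decide +kernel

theorem cross_left : ∀ (a : Fin 3) (u : Fin 3 → ZMod 2), cross u (Pi.single (a + 1) 1) = Pi.single (a + 2) 1 →
    cross u (Pi.single a 1) = 0 → u = Pi.single a 1 := by decide +kernel

theorem cross_right : ∀ (a : Fin 3) (v : Fin 3 → ZMod 2), cross (Pi.single (a + 1) 1) v = 0 →
    cross (Pi.single (a + 2) 1) v = 0 → v = 0 := by decide +kernel

theorem single_dot : ∀ (i : Fin 3) (u : Fin 3 → ZMod 2), dot (Pi.single i 1) u = u i := by decide +kernel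

theorem cross_zero_left : ∀ v : Fin 3 → ZMod 2, cross 0 v = 0 := by decide +kernel

theorem cross_zero_right : ∀ v : Fin 3 → ZMod 2, cross v 0 = 0 := by decide +kernel

end Lk

namespace Fr

variable (F : Fr G)

/-- The involution. -/
abbrev t : G := F.L.H.t
/-- The second involution. -/
abbrev s : G := F.L.s

theorem tt : F.t * F.t = 1 := F.L.H.data.z_sq
theorem ss : F.s * F.s = 1 := F.L.cfg.dP.z_sq
theorem ts : F.t * F.s = F.s * F.t := F.L.ts
theorem t_ne : F.t ≠ 1 := F.L.H.data.z_ne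
theorem s_ne : F.s ≠ 1 := F.L.cfg.dP.z_ne
theorem st_ne : F.s * F.t ≠ 1 := fun h =>
  F.L.cfg.ne ((eq_inv_of_mul_eq_one_left h).trans (inv_eq_of_mul_eq_one_right F.tt))

theorem c_t (a : Fin 3) : cj (F.c a) F.t = F.t := cj_of_comm (F.ct a)
theorem x_t (a : Fin 3) : cj (F.x a) F.t = F.t := cj_of_comm (F.L.BB_t (F.xB a))
theorem x_s (a : Fin 3) : cj (F.x a) F.s = F.s := cj_of_comm (F.L.BB_s (F.xB a))

theorem bit_x (a : Fin 3) : Lk.bit (F.L.H.ρ (F.x a)) = Pi.single a 1 := by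
  rw [F.xρ]; exact funext (Lk.bit_sb a)

/-- The conjugate of `s` by the `a`-th element of order three. -/
def e (a : Fin 3) : G := cj (F.c a) F.s

/-- The commutator of `x (a+1)` and `e (a+2)`'s conjugates. -/
def k (a : Fin 3) : G := cj (F.c (a + 1) * F.c (a + 2)) F.s

/-- The involution `p`. -/
def p : G := cj (F.c 0 * F.c 1 * F.c 2) F.s

/-- The second root involution of the `a`-th factor. -/
def Y (a : Fin 3) : G := cj (F.c a) (F.x a)

/-- The reflection of the `a`-th factor. -/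
def N (a : Fin 3) : G := F.c a * F.x a

theorem cj_x_c (a b : Fin 3) (h : a ≠ b) : cj (F.x a) (F.c b) = F.c b := cj_of_comm (F.xc a b h)

theorem cj_x_c_self (a : Fin 3) : cj (F.x a) (F.c a) = F.c a * F.c a := by
  rw [conj_inv (F.xx a), F.xcx]

/-- Conjugation by `x` of a conjugate of `s`. -/
theorem x_conj (a : Fin 3) (C : G) : cj (F.x a) (cj C F.s) = cj (cj (F.x a) C) F.s := by
  rw [cj_cj, show cj (cj (F.x a) C) F.s = cj (F.x a * C) (cj (F.x a)⁻¹ F.s) by simp only [cj]; group]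
  congr 1
  rw [inv_eq_of_mul_eq_one_right (F.xx a), F.x_s]

theorem cccc (a : Fin 3) : F.c a * F.c a * (F.c a * F.c a) = F.c a := by
  rw [← mul_assoc, F.ccc, one_mul]

theorem e_mem_Q (a : Fin 3) : F.e a ∈ F.L.H.Q := F.L.H.data.norm _ (F.ct a) _ F.L.cfg.s_mem

theorem e_sq (a : Fin 3) : F.e a * F.e a = 1 := by rw [e, ← cj_mul, F.ss, cj_one]

theorem x_e_ne (a b : Fin 3) (h : a ≠ b) : cj (F.x a) (F.e b) = F.e b := by
  rw [e, F.x_conj, F.cj_x_c a b h]

variable [Finite G]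

theorem e_key (a : Fin 3) : F.e a ∈ F.L.EE ∧ cj (F.x a) (F.e a) = F.s * F.e a := by
  have hu := F.e_mem_Q a
  set u := F.e a with hudef
  set v := cj (F.c a) u with hv
  have hvQ : v ∈ F.L.H.Q := F.L.H.data.norm _ (F.ct a) _ hu
  have huu : u * u = 1 := F.e_sq a
  have hvv : v * v = 1 := by rw [hv, ← cj_mul, huu, cj_one]
  have hcv : cj (F.c a) v = F.s := by
    rw [hv, hudef, e, cj_cj, cj_cj, F.ccc]; simp [cj]
  have hxu : cj (F.x a) u = v := by
    rw [hudef, e, F.x_conj, F.cj_x_c_self, hv, hudef, e, cj_cj]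
  have hsQ := F.L.cfg.s_mem
  have hpr : F.s * u * v = 1 ∨ F.s * u * v = F.t := by
    refine Lk.fpf F.hs (F.ct a) (F.cρ a) (mul_mem (mul_mem hsQ hu) hvQ) ?_
    have e1 : cj (F.c a) (F.s * u * v) = u * v * F.s := by rw [cj_mul, cj_mul, hcv, ← hv]; rfl
    show cj (F.c a) (F.s * u * v) = F.s * u * v ∨ cj (F.c a) (F.s * u * v) = F.s * u * v * F.t
    rw [e1, mul_assoc F.s u v]
    have hw := mul_mem hu hvQ
    have e2 : u * v * F.s = ⁅u * v, F.s⁆ * (F.s * (u * v)) := by rw [commutatorElement_def]; group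
    rcases F.L.H.data.comm _ hw _ hsQ with h | h <;> rw [e2, h]
    · exact Or.inl (one_mul _)
    · exact Or.inr (F.L.H.ct (mul_mem hsQ hw)).symm
  have hvt : v * F.t = F.t * v := F.L.H.ct hvQ
  have hv2 : v = u * F.s ∨ v = u * F.s * F.t := by
    have e1 : v = (F.s * u)⁻¹ * (F.s * u * v) := by group
    have e2 : (F.s * u)⁻¹ = u * F.s := by
      rw [mul_inv_rev, inv_eq_of_mul_eq_one_right huu, inv_eq_of_mul_eq_one_right F.ss]
    rcases hpr with h | h <;> rw [h, e2] at e1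
    · exact Or.inl (by rw [e1, mul_one])
    · exact Or.inr e1
  have hus : u * F.s = F.s * u := by
    have h1 : u * F.s * (u * F.s) = 1 := by
      rcases hv2 with h | h
      · rw [← h]; exact hvv
      · have h' : u * F.s = v * F.t := by rw [h, mul_assoc _ F.t, F.tt, mul_one]
        rw [h', hvt]
        calc F.t * v * (F.t * v) = F.t * (v * F.t) * v := by group
          _ = F.t * (F.t * v) * v := by rw [hvt]
          _ = F.t * F.t * (v * v) := by group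
          _ = 1 := by rw [F.tt, hvv, one_mul]
    calc u * F.s = (u * F.s)⁻¹ := eq_inv_of_mul_eq_one_left h1
      _ = F.s * u := by rw [mul_inv_rev, inv_eq_of_mul_eq_one_right huu, inv_eq_of_mul_eq_one_right F.ss]
  have huA : u ∈ F.L.AA := Cfg.mem_A.mpr ⟨hu, hus⟩
  have huE : u ∈ F.L.EE := by
    refine Lk.mu_ker F.hs huA ?_
    have hz : ∀ b, a ≠ b → Lk.cross (Lk.mu F.hs u) (Pi.single b 1) = 0 := fun b hb => by
      rw [← F.bit_x b, ← Lk.gam_eq F.hs huA (F.xB b), Lk.gam,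
        commutatorElement_eq_one_iff_mul_comm.mpr (comm_of_cj (F.x_e_ne b a hb.symm)).symm]
      exact Lk.lam_one F.hs
    exact Lk.cross_two a _ (hz _ (fin3_facts a).1) (hz _ (fin3_facts a).2.1)
  refine ⟨huE, ?_⟩
  rw [hxu]
  have h1 : v = u ∨ v = u * F.s := by
    have h2 : v = u * ⁅u, F.x a⁆ := by
      rw [comm_inv huu (F.xx a), hxu, ← mul_assoc, huu, one_mul]
    rcases F.L.comm_E_B huE (F.xB a) with h | h <;> rw [h] at h2
    · exact Or.inl (by rw [h2, mul_one])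
    · exact Or.inr h2
  rcases h1 with h | h
  · exfalso
    rcases hv2 with h2 | h2
    · exact F.s_ne (mul_eq_left.mp (h2.symm.trans h))
    · rw [mul_assoc] at h2
      exact F.st_ne (mul_eq_left.mp (h2.symm.trans h))
  · rw [h, hus]

theorem e_mem (a : Fin 3) : F.e a ∈ F.L.EE := (F.e_key a).1

theorem x_e (a : Fin 3) : cj (F.x a) (F.e a) = F.s * F.e a := (F.e_key a).2

theorem e_s (a : Fin 3) : F.s * F.e a = F.e a * F.s :=
  F.L.E_comm F.L.cfg.s_mem_E (F.e_mem a)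

theorem e_t (a : Fin 3) : F.t * F.e a = F.e a * F.t :=
  F.L.E_comm F.L.cfg.z_mem_E (F.e_mem a)

theorem e_e (a b : Fin 3) : F.e a * F.e b = F.e b * F.e a := F.L.E_comm (F.e_mem a) (F.e_mem b)

theorem cc_s (a : Fin 3) : cj (F.c a * F.c a) F.s = F.s * F.e a := by
  rw [← F.x_e a, e, F.x_conj, F.cj_x_c_self]

theorem c_e (a : Fin 3) : cj (F.c a) (F.e a) = F.s * F.e a := by rw [e, cj_cj, F.cc_s]; rfl

theorem c_se (a : Fin 3) : cj (F.c a) (F.s * F.e a) = F.s := by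
  rw [← F.cc_s, cj_cj, ← mul_assoc, F.ccc]; simp [cj]

theorem lam_e (a : Fin 3) : Lk.lam F.hs (F.e a) = Pi.single a 1 := by
  funext m
  rw [← Lk.dot_single (Lk.lam F.hs (F.e a)) m, ← F.bit_x m, ← Lk.pair_B F.hs (F.e_mem a) (F.xB m),
    comm_inv (F.e_sq a) (F.xx m)]
  rcases eq_or_ne m a with rfl | h
  · rw [F.x_e, F.e_s, ← mul_assoc, F.e_sq, one_mul, ind_of_ne F.s_ne, Pi.single_eq_same]
  · rw [F.x_e_ne m a h, F.e_sq, ind_one, Pi.single_eq_of_ne h]

/-! ### The elements `k` -/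

theorem k_eq (a : Fin 3) : F.k a = cj (F.c (a + 1)) (F.e (a + 2)) := (cj_cj _ _ _).symm

theorem k_eq' (a : Fin 3) : F.k a = cj (F.c (a + 2)) (F.e (a + 1)) := by
  rw [e, cj_cj, k, F.ccomm]

theorem k_sq (a : Fin 3) : F.k a * F.k a = 1 := by rw [F.k_eq, ← cj_mul, F.e_sq, cj_one]

theorem k_mem_Q (a : Fin 3) : F.k a ∈ F.L.H.Q := by
  rw [F.k_eq]; exact F.L.H.data.norm _ (F.ct _) _ (F.e_mem_Q _)

theorem k_t (a : Fin 3) : F.k a * F.t = F.t * F.k a := F.L.H.ct (F.k_mem_Q a)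

theorem k_s (a : Fin 3) : F.k a * F.s = F.s * F.k a := by
  rw [F.k_eq, ← F.c_se (a + 1)]
  exact cj_comm _ (F.L.E_comm (F.e_mem _) (mul_mem F.L.cfg.s_mem_E (F.e_mem _)))

theorem k_mem (a : Fin 3) : F.k a ∈ F.L.AA := Cfg.mem_A.mpr ⟨F.k_mem_Q a, F.k_s a⟩

theorem e_k1 (a : Fin 3) : F.e (a + 1) * F.k a = F.k a * F.e (a + 1) := by
  rw [F.k_eq]; nth_rewrite 1 [e]; nth_rewrite 2 [e]
  exact cj_comm _ (F.e_s _)

theorem e_k2 (a : Fin 3) : F.e (a + 2) * F.k a = F.k a * F.e (a + 2) := by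
  rw [F.k_eq']; nth_rewrite 1 [e]; nth_rewrite 2 [e]
  exact cj_comm _ (F.e_s _)

theorem x_k (a : Fin 3) : cj (F.x a) (F.k a) = F.k a := by
  rw [k, F.x_conj, cj_mul, F.cj_x_c _ _ (fin3_facts a).1, F.cj_x_c _ _ (fin3_facts a).2.1]

theorem x_k1 (a : Fin 3) : cj (F.x (a + 1)) (F.k a) = F.k a * F.e (a + 2) := by
  obtain ⟨-, -, -, -, h12, -⟩ := fin3_facts a
  rw [k, F.x_conj, cj_mul, F.cj_x_c_self, F.cj_x_c _ _ h12,
    show F.c (a + 1) * F.c (a + 1) * F.c (a + 2) = F.c (a + 2) * (F.c (a + 1) * F.c (a + 1)) from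
      (Commute.mul_left (F.ccomm _ _) (F.ccomm _ _)).eq,
    ← cj_cj, F.cc_s, cj_mul, ← F.k_eq', show cj (F.c (a + 2)) F.s = F.e (a + 2) from rfl, ← k, F.e_k2]

theorem x_k2 (a : Fin 3) : cj (F.x (a + 2)) (F.k a) = F.k a * F.e (a + 1) := by
  obtain ⟨-, -, -, -, -, h21, -⟩ := fin3_facts a
  rw [k, F.x_conj, cj_mul, F.cj_x_c_self, F.cj_x_c _ _ h21, ← cj_cj, F.cc_s, cj_mul, ← F.k_eq,
    show cj (F.c (a + 1)) F.s = F.e (a + 1) from rfl, ← k, F.e_k1]

theorem mu_k (a : Fin 3) : Lk.mu F.hs (F.k a) = Pi.single a 1 := by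
  refine Lk.cross_left a _ ?_ ?_
  · rw [← F.bit_x, ← Lk.gam_eq F.hs (F.k_mem a) (F.xB _), Lk.gam, comm_inv (F.k_sq a) (F.xx _), F.x_k1,
      ← mul_assoc, F.k_sq, one_mul, F.lam_e]
  · rw [← F.bit_x, ← Lk.gam_eq F.hs (F.k_mem a) (F.xB _), Lk.gam, comm_inv (F.k_sq a) (F.xx _), F.x_k,
      F.k_sq]
    exact Lk.lam_one F.hs

theorem k_e (a : Fin 3) : cj (F.k a) (F.e a) = F.e a * F.t := by
  have h : ⁅F.e a, F.k a⁆ = F.t := by
    refine (F.L.comm_E_A (F.e_mem a) (F.k_mem a)).resolve_left fun h => ?_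
    have := Lk.pair_A F.hs (F.e_mem a) (F.k_mem a)
    rw [h, ind_one, F.mu_k, Lk.dot_single, F.lam_e, Pi.single_eq_same] at this
    exact zero_ne_one this
  rw [comm_inv (F.e_sq a) (F.k_sq a)] at h
  rw [← h, ← mul_assoc, F.e_sq, one_mul]

theorem k_e_ne (a b : Fin 3) (h : b ≠ a) : F.k a * F.e b = F.e b * F.k a := by
  rcases fin3_other a b h.symm with rfl | rfl
  exacts [(F.e_k1 a).symm, (F.e_k2 a).symm]

theorem k_k (a b : Fin 3) : F.k a * F.k b = F.k b * F.k a := by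
  have key : ∀ a, F.k a * F.k (a + 1) = F.k (a + 1) * F.k a := fun a => by
    obtain ⟨-, -, -, -, -, -, h11, h12, -⟩ := fin3_facts a
    have h := F.k_eq (a + 1)
    rw [h11, h12] at h
    rw [h, F.k_eq']
    exact cj_comm _ (F.e_e _ _)
  rcases fin3_cases a b with rfl | rfl | rfl
  · rfl
  · exact key a
  · have := key (a + 2)
    rw [(fin3_facts a).2.2.2.2.2.2.2.2.1] at this
    exact this.symm

/-! ### The element `p` -/

theorem C_rot (a : Fin 3) : F.c 0 * F.c 1 * F.c 2 = F.c a * (F.c (a + 1) * F.c (a + 2)) := by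
  have h01 : Commute (F.c 0) (F.c 1) := F.ccomm 0 1
  have h02 : Commute (F.c 0) (F.c 2) := F.ccomm 0 2
  have h12 : Commute (F.c 1) (F.c 2) := F.ccomm 1 2
  fin_cases a
  · exact mul_assoc _ _ _
  · show _ = F.c 1 * (F.c 2 * F.c 0)
    rw [mul_assoc, (h01.mul_right h02).eq, mul_assoc]
  · show _ = F.c 2 * (F.c 0 * F.c 1)
    exact ((h02.symm.mul_right h12.symm).eq).symm

theorem p_eq (a : Fin 3) : F.p = cj (F.c a) (F.k a) := by rw [p, F.C_rot a, k, cj_cj]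

theorem p_eq' (a : Fin 3) : F.p = cj (F.c (a + 1) * F.c (a + 2)) (F.e a) := by
  rw [p, F.C_rot a, e, cj_cj]
  congr 1
  exact (Commute.mul_right (F.ccomm _ _) (F.ccomm _ _)).eq

theorem p_sq : F.p * F.p = 1 := by rw [F.p_eq 0, ← cj_mul, F.k_sq, cj_one]

theorem p_mem_Q : F.p ∈ F.L.H.Q := by
  rw [F.p_eq 0]; exact F.L.H.data.norm _ (F.ct 0) _ (F.k_mem_Q 0)

theorem p_t : F.p * F.t = F.t * F.p := F.L.H.ct F.p_mem_Q

theorem x_p (a : Fin 3) : cj (F.x a) F.p = F.k a * F.p := by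
  conv_rhs => rw [F.p_eq' a, k, ← cj_mul, ← F.cc_s, cj_cj]
  rw [p, F.C_rot a, F.x_conj, cj_mul, cj_mul, F.cj_x_c_self, F.cj_x_c _ _ (fin3_facts a).1,
    F.cj_x_c _ _ (fin3_facts a).2.1]
  congr 1
  exact (Commute.mul_right (Commute.mul_left (F.ccomm _ _) (F.ccomm _ _))
    (Commute.mul_left (F.ccomm _ _) (F.ccomm _ _))).eq

theorem p_k (a : Fin 3) : F.p * F.k a = F.k a * F.p := by
  rw [F.p_eq' a, k]
  exact cj_comm _ (F.e_s a).symm

theorem p_e (a : Fin 3) : F.p * F.e a = F.e a * F.p := by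
  rw [F.p_eq a, e]
  exact cj_comm _ (F.k_s a)

theorem p_s : cj F.p F.s = F.s * F.t := by
  have h : cj (F.k 0) (F.s * F.e 0) = F.s * F.e 0 * F.t := by
    rw [cj_mul, cj_of_comm (F.k_s 0), F.k_e, mul_assoc]
  calc cj F.p F.s = cj (cj (F.c 0) (F.k 0)) (cj (F.c 0) (F.s * F.e 0)) := by rw [← F.p_eq, F.c_se]
    _ = cj (F.c 0) (cj (F.k 0) (F.s * F.e 0)) := by simp only [cj]; group
    _ = F.s * F.t := by rw [h, cj_mul, F.c_se, F.c_t]

theorem p_ne : F.p ≠ 1 := fun h => by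
  have := F.p_s
  rw [h, cj, one_mul, inv_one, mul_one] at this
  exact F.t_ne (mul_eq_left.mp this.symm)

/-! ### The second root involutions and the reflections -/

theorem N_sq (a : Fin 3) : F.N a * F.N a = 1 := by
  rw [N, mul_assoc, ← mul_assoc (F.x a), F.xcx, ← mul_assoc, F.ccc]

theorem cj_N (a : Fin 3) (u : G) : cj (F.N a) u = cj (F.c a) (cj (F.x a) u) := (cj_cj _ _ _).symm

theorem N_x (a : Fin 3) : cj (F.N a) (F.x a) = F.Y a := by
  rw [F.cj_N, cj_of_comm rfl, Y]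

theorem Y_sq (a : Fin 3) : F.Y a * F.Y a = 1 := by rw [Y, ← cj_mul, F.xx, cj_one]

theorem cj_Y (a : Fin 3) (u : G) : cj (F.Y a) (cj (F.c a) u) = cj (F.c a) (cj (F.x a) u) := by
  unfold Y cj; group

theorem Y_x (a b : Fin 3) (h : a ≠ b) : F.Y a * F.x b = F.x b * F.Y a := by
  have hc : cj (F.c a) (F.x b) = F.x b := cj_of_comm (F.xc b a h.symm).symm
  have := cj_comm (F.c a) (F.xcomm a b)
  rwa [hc] at this

theorem Y_Y (a b : Fin 3) (h : a ≠ b) : F.Y a * F.Y b = F.Y b * F.Y a := by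
  have h1 : Commute (F.Y a) (F.c b) := by
    refine comm_of_cj ?_ |> fun h => (h : F.Y a * F.c b = F.c b * F.Y a)
    rw [show F.c b = cj (F.c a) (F.c b) from (cj_of_comm (F.ccomm a b)).symm, F.cj_Y, F.cj_x_c a b h]
  exact ((h1.mul_right (F.Y_x a b h)).mul_right h1.inv_right).eq

theorem Y_t (a : Fin 3) : cj (F.Y a) F.t = F.t := by
  conv_lhs => rw [← F.c_t a, F.cj_Y, F.x_t, F.c_t]

theorem Y_e (a : Fin 3) : cj (F.Y a) (F.e a) = F.e a := by rw [e, F.cj_Y, F.x_s]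

theorem Y_s (a : Fin 3) : cj (F.Y a) F.s = F.e a * F.s := by
  conv_lhs => rw [← F.c_se a, F.cj_Y, cj_mul, F.x_s, F.x_e, ← mul_assoc, F.ss, one_mul, F.c_e]
  exact F.e_s a

theorem Y_p (a : Fin 3) : F.Y a * F.p = F.p * F.Y a :=
  comm_of_cj (by rw [F.p_eq a, F.cj_Y, F.x_k])

theorem k_eq_c (a b : Fin 3) (h : a ≠ b) :
    ∃ m, a ≠ m ∧ m ≠ b ∧ F.k b = cj (F.c a) (F.e m) := by
  obtain ⟨ha1, ha2, -, -, h12, h21, h11, e12, e21, h22⟩ := fin3_facts a
  rcases fin3_other a b h with rfl | rfl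
  · refine ⟨a + 2, ha2, h21, ?_⟩
    have := F.k_eq' (a + 1)
    rwa [e12, h11] at this
  · refine ⟨a + 1, ha1, h12, ?_⟩
    have := F.k_eq (a + 2)
    rwa [e21, h22] at this

theorem Y_k (a b : Fin 3) (h : a ≠ b) : F.Y a * F.k b = F.k b * F.Y a := by
  obtain ⟨m, hm, -, hk⟩ := F.k_eq_c a b h
  exact comm_of_cj (by rw [hk, F.cj_Y, F.x_e_ne a m hm])

theorem N_t (a : Fin 3) : cj (F.N a) F.t = F.t := by rw [F.cj_N, F.x_t, F.c_t]

theorem N_s (a : Fin 3) : cj (F.N a) F.s = F.e a := by rw [F.cj_N, F.x_s, e]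

theorem N_e (a : Fin 3) : cj (F.N a) (F.e a) = F.s := by rw [F.cj_N, F.x_e, F.c_se]

theorem N_k (a : Fin 3) : cj (F.N a) (F.k a) = F.p := by rw [F.cj_N, F.x_k, ← F.p_eq]

theorem N_p (a : Fin 3) : cj (F.N a) F.p = F.k a := cj_symm (F.N_sq a) (F.N_k a)

theorem N_Y (a : Fin 3) : cj (F.N a) (F.Y a) = F.x a := cj_symm (F.N_sq a) (F.N_x a)

theorem N_xb (a b : Fin 3) (h : a ≠ b) : cj (F.N a) (F.x b) = F.x b := by
  rw [F.cj_N, cj_of_comm (F.xcomm a b), cj_of_comm (F.xc b a h.symm).symm]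

theorem N_k_ne (a b : Fin 3) (h : a ≠ b) : ∃ m, a ≠ m ∧ m ≠ b ∧ cj (F.N a) (F.k b) = F.e m := by
  obtain ⟨m, hm, hmb, hk⟩ := F.k_eq_c a b h
  exact ⟨m, hm, hmb, cj_symm (F.N_sq a) (by rw [F.cj_N, F.x_e_ne a m hm, ← hk])⟩

/-! ### Centralisers -/

theorem decomp_E {g : G} (hgt : g * F.t = F.t * g) (hgs : g * F.s = F.s * g)
    (hge : ∀ m, g * F.e m = F.e m * g) : g ∈ F.L.EE := by
  obtain ⟨a, ha, b, hb, rfl, -⟩ := Lk.decomp F.hs hgt hgs
  have hE : ∀ e ∈ F.L.EE, ⁅e, a * b⁆ = ⁅e, a⁆ * ⁅e, b⁆ := fun e he => by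
    rw [show ⁅e, a * b⁆ = ⁅e, a⁆ * (a * ⁅e, b⁆ * a⁻¹) by simp only [commutatorElement_def]; group]
    rcases F.L.comm_E_B he hb with h | h <;> rw [h]
    · group
    · rw [(Cfg.mem_A.mp ha).2, mul_inv_cancel_right]
  have hboth : ∀ m, ⁅F.e m, a⁆ = 1 ∧ ⁅F.e m, b⁆ = 1 := fun m => by
    have h1 := hE _ (F.e_mem m)
    rw [commutatorElement_eq_one_iff_mul_comm.mpr (hge m).symm] at h1
    rcases F.L.comm_E_A (F.e_mem m) ha with h | h <;> rcases F.L.comm_E_B (F.e_mem m) hb with h' | h' <;>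
      rw [h, h'] at h1
    · exact ⟨h, h'⟩
    · exact absurd (by rw [one_mul] at h1; exact h1.symm) F.s_ne
    · exact absurd (by rw [mul_one] at h1; exact h1.symm) F.t_ne
    · exact absurd (by rw [F.ts] at h1; exact h1.symm) F.st_ne
  have haE : a ∈ F.L.EE := Lk.mu_ker F.hs ha (funext fun m => by
    have := Lk.pair_A F.hs (F.e_mem m) ha
    rw [(hboth m).1, ind_one, F.lam_e, Lk.single_dot] at this
    exact this.symm)
  have hbE : b ∈ F.L.EE := by
    refine F.L.mem_E_of_B hb ((F.L.H.ker b (F.L.BB_t hb)).mp ?_)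
    refine Lk.eq_of_bit (Lk.ρ_B F.hs hb) (one_mem _) fun m => ?_
    have := Lk.pair_B F.hs (F.e_mem m) hb
    rw [(hboth m).2, ind_one, F.lam_e, Lk.single_dot] at this
    rw [show Lk.bit (1 : S33) m = 0 by simp [Lk.bit]]
    exact this.symm
  exact mul_mem haE hbE

theorem cent_pair (a : Fin 3) {g : G} (hgt : g * F.t = F.t * g) (hgs : g * F.s = F.s * g)
    (hx : ∀ b, a ≠ b → g * F.x b = F.x b * g) (hk : ∀ b, a ≠ b → g * F.k b = F.k b * g) :
    g ∈ F.L.EE ∧ ∀ b, a ≠ b → Lk.lam F.hs g b = 0 := by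
  obtain ⟨u, hu, v, hv, rfl, hvρ⟩ := Lk.decomp F.hs hgt hgs
  have h1 : ∀ b, a ≠ b → Lk.cross (Lk.mu F.hs u) (Pi.single b 1) = 0 := fun b hb => by
    have := (Lk.lam_comm F.hs hu hv (one_mem F.L.AA) (F.xB b)).2
    rw [one_mul, commutatorElement_eq_one_iff_mul_comm.mpr (hx b hb), Lk.lam_one, Lk.mu_one,
      Lk.cross_zero_left, zero_add, F.bit_x] at this
    exact this.symm
  have h2 : ∀ b, a ≠ b → Lk.cross (Pi.single b 1) (Lk.bit (F.L.H.ρ v)) = 0 := fun b hb => by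
    have := (Lk.lam_comm F.hs hu hv (F.k_mem b) (one_mem F.L.BB)).2
    rw [mul_one, commutatorElement_eq_one_iff_mul_comm.mpr (hk b hb), Lk.lam_one, F.L.H.ρ_one,
      show Lk.bit (1 : S33) = 0 by funext m; simp [Lk.bit], Lk.cross_zero_right, add_zero, F.mu_k] at this
    exact this.symm
  have huE : u ∈ F.L.EE := Lk.mu_ker F.hs hu
    (Lk.cross_two a _ (h1 _ (fin3_facts a).1) (h1 _ (fin3_facts a).2.1))
  have hv1 := Lk.cross_right a _ (h2 _ (fin3_facts a).1) (h2 _ (fin3_facts a).2.1)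
  have hvE : v ∈ F.L.EE := by
    refine F.L.mem_E_of_B hv ((F.L.H.ker v (F.L.BB_t hv)).mp ?_)
    refine Lk.eq_of_bit (Lk.ρ_B F.hs hv) (one_mem _) fun m => ?_
    rw [congrFun hv1 m]; simp [Lk.bit]
  have hg := mul_mem huE hvE
  refine ⟨hg, fun b hb => ?_⟩
  rw [← Lk.dot_single (Lk.lam F.hs (u * v)) b, ← F.bit_x b, ← Lk.pair_B F.hs hg (F.xB b),
    commutatorElement_eq_one_iff_mul_comm.mpr (hx b hb), ind_one]

/-- An element of `E` in the basis `t`, `s`, `e`. -/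
theorem E_basis {g : G} (hg : g ∈ F.L.EE) :
    ∃ v, (v = 1 ∨ v = F.t ∨ v = F.s ∨ v = F.s * F.t) ∧ g = v * Lk.comb F.e (Lk.lam F.hs g) := by
  have hc : Lk.comb F.e (Lk.lam F.hs g) ∈ F.L.EE := Lk.comb_mem F.e_mem _
  refine ⟨g * (Lk.comb F.e (Lk.lam F.hs g))⁻¹, Lk.lam_ker F.hs (mul_mem hg (inv_mem hc)) ?_, by group⟩
  have h1 : Lk.lam F.hs (Lk.comb F.e (Lk.lam F.hs g)) = Lk.lam F.hs g := by
    rw [Lk.comb_apply F.e_mem (Lk.lam F.hs) (Lk.lam_one F.hs) (fun x hx y hy => Lk.lam_mul F.hs hx hy),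
      F.lam_e, F.lam_e, F.lam_e, Lk.single_sum]
  have h2 := Lk.lam_mul F.hs (mul_mem hg (inv_mem hc)) hc
  rw [inv_mul_cancel_right, h1] at h2
  exact right_eq_add.mp h2

theorem E_basis_one (a : Fin 3) {g : G} (hg : g ∈ F.L.EE) (h : ∀ b, a ≠ b → Lk.lam F.hs g b = 0) :
    ∃ v r, (v = 1 ∨ v = F.t ∨ v = F.s ∨ v = F.s * F.t) ∧ (r = 1 ∨ r = F.e a) ∧ g = v * r := by
  obtain ⟨v, hv, hg'⟩ := F.E_basis hg
  refine ⟨v, _, hv, ?_, hg'⟩
  generalize Lk.lam F.hs g = l at h ⊢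
  have two : ∀ x : ZMod 2, x = 0 ∨ x = 1 := by decide
  unfold Lk.comb
  fin_cases a
  · rw [h 1 (by decide), h 2 (by decide)]; rcases two (l 0) with e | e <;> simp [e]
  · rw [h 0 (by decide), h 2 (by decide)]; rcases two (l 1) with e | e <;> simp [e]
  · rw [h 0 (by decide), h 1 (by decide)]; rcases two (l 2) with e | e <;> simp [e]

end Fr

end Cfsg.Agent.OmegaEight
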