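import Cfsg.Agent.Lib.OmegaEight.Outer
import Cfsg.Agent.Lib.LargeExtraspecial.OutForm

/-
A non-isolated `t` has a conjugate inside `Q` different from itself (`exists_linked`).
-/

set_option autoImplicit false

namespace Cfsg.Agent.OmegaEight

open Cfsg.Agent.LargeExtraspecial
open QuadraticMap (polar)
open scoped commutatorElement

section linear

variable {V : Type*} [AddCommGroup V] [Module (ZMod 2) V]

theorem end_add_self (f : Module.End (ZMod 2) V) : f + f = 0 :=
  LinearMap.ext fun v => by simp [ZModModule.add_self]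

/-- No three commuting dihedral pairs of isometries on an 8-dimensional space with mutually annihilating
transvection-like parts and singular images. -/
theorem no_triple [FiniteDimensional (ZMod 2) V] (q : QuadraticForm (ZMod 2) V)
    (hnd : ∀ w, (∀ v, polar q w v = 0) → w = 0) (hdim : Module.finrank (ZMod 2) V ≤ 8)
    (C X : Fin 3 → Module.End (ZMod 2) V) (hC : ∀ a, C a * C a * C a = 1) (hX : ∀ a, X a * X a = 1)
    (hXC : ∀ a, X a * C a * X a = C a * C a) (hP : ∀ a, C a + C a * C a ≠ 0)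
    (hqC : ∀ a v, q (C a v) = q v) (hqX : ∀ a v, q (X a v) = q v)
    (hcCC : ∀ a b, a ≠ b → C a * C b = C b * C a) (hcCX : ∀ a b, a ≠ b → C a * X b = X b * C a)
    (hNN : ∀ a b, a ≠ b → (X a + 1) * (X b + 1) = 0)
    (hsing : ∀ a v, q (X a v + v) = 0) : False := by
  set P : Fin 3 → Module.End (ZMod 2) V := fun a => C a + C a * C a with hPdef
  have hC4 : ∀ a, C a * C a * (C a * C a) = C a := fun a => by rw [← mul_assoc, hC, one_mul]
  -- the conjugate reflection
  have hYX : ∀ a, C a * X a * (C a * C a) * X a = C a * C a := fun a => by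
    have e : X a * (C a * C a) * X a = C a := by
      calc X a * (C a * C a) * X a = X a * C a * (X a * X a) * C a * X a := by
            rw [hX]; simp [mul_assoc]
        _ = (X a * C a * X a) * (X a * C a * X a) := by simp [mul_assoc]
        _ = _ := by rw [hXC, hC4]
    calc C a * X a * (C a * C a) * X a = C a * (X a * (C a * C a) * X a) := by simp [mul_assoc]
      _ = _ := by rw [e]
  have hsplit : ∀ a, C a * C a + 1 = (C a * X a * (C a * C a) + 1) * X a + (X a + 1) := fun a => by
    rw [add_mul, one_mul, hYX, add_assoc, ← add_assoc (X a), end_add_self, zero_add]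
  have hYN : ∀ a b, a ≠ b → (C a * X a * (C a * C a) + 1) * (X b + 1) = 0 := fun a b hab => by
    have hc : C a * C a * (X b + 1) = (X b + 1) * (C a * C a) := by
      rw [mul_add, add_mul, mul_one, one_mul, mul_assoc, hcCX a b hab, ← mul_assoc, hcCX a b hab, mul_assoc]
    calc (C a * X a * (C a * C a) + 1) * (X b + 1)
        = (C a * X a * (C a * C a) + C a * 1 * (C a * C a)) * (X b + 1) := by
          rw [mul_one, ← mul_assoc (C a) (C a) (C a), hC]
      _ = C a * (X a + 1) * ((C a * C a) * (X b + 1)) := by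
          simp [mul_add, add_mul, mul_assoc]
      _ = C a * ((X a + 1) * (X b + 1)) * (C a * C a) := by rw [hc]; simp [mul_assoc]
      _ = 0 := by rw [hNN a b hab]; simp
  have hCN : ∀ a b, a ≠ b → (C a * C a + 1) * (X b + 1) = 0 := fun a b hab => by
    have hXX : X a * (X b + 1) = (X b + 1) * X a := by
      have h1 := hNN a b hab
      have h2 := hNN b a (Ne.symm hab)
      have e : X a * X b = X b * X a := by
        have h12 : (X a + 1) * (X b + 1) = (X b + 1) * (X a + 1) := h1.trans h2.symm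
        simp only [mul_add, add_mul, mul_one, one_mul] at h12
        have := congrArg (fun f => f + (X a + (X b + 1))) h12
        rw [show X a * X b + X b + (X a + 1) + (X a + (X b + 1)) =
          X a * X b + ((X a + X a) + (X b + X b) + ((1 : Module.End (ZMod 2) V) + 1)) by abel] at this
        rw [show X b * X a + X a + (X b + 1) + (X a + (X b + 1)) =
          X b * X a + ((X a + X a) + (X b + X b) + ((1 : Module.End (ZMod 2) V) + 1)) by abel] at this
        simpa [end_add_self] using this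
      rw [mul_add, add_mul, mul_one, one_mul, e]
    rw [hsplit, add_mul, mul_assoc, hXX, ← mul_assoc, hYN a b hab, zero_mul, hNN a b hab, add_zero]
  have hPP : ∀ a b, a ≠ b → P a * P b = 0 := fun a b hab => by
    have hsq : ∀ c, P c = C c * C c * (C c * C c + 1) := fun c => by
      rw [mul_add, mul_one, hC4]
    have h0 : (C a * C a + 1) * (C b * C b + 1) = 0 := by
      have hc : (C a * C a + 1) * C b = C b * (C a * C a + 1) := by
        rw [add_mul, mul_add, one_mul, mul_one, mul_assoc, hcCC a b hab, ← mul_assoc, hcCC a b hab, mul_assoc]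
      rw [hsplit b, mul_add, hCN a b hab, add_zero, ← mul_assoc]
      have e : C b * X b * (C b * C b) + 1 = C b * (X b + 1) * (C b * C b) := by
        rw [mul_add, add_mul, mul_one, ← mul_assoc (C b) (C b) (C b), hC]
      rw [e]
      calc (C a * C a + 1) * (C b * (X b + 1) * (C b * C b)) * X b
          = (C a * C a + 1) * C b * (X b + 1) * (C b * C b) * X b := by simp [mul_assoc]
        _ = C b * ((C a * C a + 1) * (X b + 1)) * (C b * C b) * X b := by rw [hc]; simp [mul_assoc]
        _ = 0 := by rw [hCN a b hab]; simp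
    have hc2 : (C a * C a + 1) * (C b * C b) = C b * C b * (C a * C a + 1) := by
      have hh : Commute (C a) (C b) := hcCC a b hab
      have e : C a * C a * (C b * C b) = C b * C b * (C a * C a) :=
        ((hh.mul_left hh).mul_right (hh.mul_left hh)).eq
      rw [add_mul, mul_add, one_mul, mul_one, e]
    rw [hsq a, hsq b, mul_assoc, ← mul_assoc (C a * C a + 1), hc2, mul_assoc (C b * C b), h0]
    simp
  have hPi : ∀ a, P a * P a = P a := fun a => by
    show (C a + C a * C a) * (C a + C a * C a) = _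
    rw [add_mul, mul_add, mul_add, hC4, ← mul_assoc (C a) (C a) (C a), hC]
    rw [show C a * C a + 1 + (1 + C a) = C a + C a * C a + ((1 : Module.End (ZMod 2) V) + 1) by abel,
      end_add_self, add_zero]
  have hadj : ∀ a u v, polar q (P a u) v = polar q u (P a v) := fun a u v => by
    have h1 : ∀ u v, polar q (C a u) (C a v) = polar q u v := fun u v => by
      simp only [polar, ← map_add, hqC]
    have h2 : ∀ u v, polar q (C a u) v = polar q u ((C a * C a) v) := fun u v => by
      conv_rhs => rw [← h1 u ((C a * C a) v)]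
      rw [show C a ((C a * C a) v) = (C a * C a * C a) v from rfl, hC]
      rfl
    have h3 : polar q ((C a * C a) u) v = polar q u (C a v) := by
      rw [show (C a * C a) u = C a (C a u) from rfl, h2, h2,
        show (C a * C a) ((C a * C a) v) = (C a * C a * (C a * C a)) v from rfl, hC4]
    show polar q (C a u + (C a * C a) u) v = polar q u (C a v + (C a * C a) v)
    rw [QuadraticMap.polar_add_left, QuadraticMap.polar_add_right, h2, h3, add_comm]
  -- some image has rank at most two
  have hdisj : ∀ a b, a ≠ b → ∀ v ∈ LinearMap.range (P a), P b v = 0 := fun a b hab v ⟨u, hu⟩ => by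
    rw [← hu, show P b (P a u) = (P b * P a) u from rfl, hPP b a (Ne.symm hab)]; rfl
  have hfix : ∀ a, ∀ v ∈ LinearMap.range (P a), P a v = v := fun a v ⟨u, hu⟩ => by
    rw [← hu, show P a (P a u) = (P a * P a) u from rfl, hPi]
  have h01 : LinearMap.range (P 0) ⊓ LinearMap.range (P 1) = ⊥ := by
    rw [Submodule.eq_bot_iff]
    rintro v ⟨h0, h1⟩
    rw [← hfix 0 v h0]
    exact hdisj 1 0 (by decide) v h1
  have h012 : (LinearMap.range (P 0) ⊔ LinearMap.range (P 1)) ⊓ LinearMap.range (P 2) = ⊥ := by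
    rw [Submodule.eq_bot_iff]
    rintro v ⟨h, h2⟩
    obtain ⟨a, ha, b, hb, rfl⟩ := Submodule.mem_sup.mp h
    rw [← hfix 2 _ h2, map_add, hdisj 0 2 (by decide) a ha, hdisj 1 2 (by decide) b hb, add_zero]
  obtain ⟨a, ha⟩ : ∃ a, Module.finrank (ZMod 2) (LinearMap.range (P a)) ≤ 2 := by
    by_contra! h
    have e1 := Submodule.finrank_sup_add_finrank_inf_eq (LinearMap.range (P 0)) (LinearMap.range (P 1))
    have e2 := Submodule.finrank_sup_add_finrank_inf_eq (LinearMap.range (P 0) ⊔ LinearMap.range (P 1))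
      (LinearMap.range (P 2))
    rw [h01, finrank_bot] at e1
    rw [h012, finrank_bot] at e2
    have := Submodule.finrank_le (LinearMap.range (P 0) ⊔ LinearMap.range (P 1) ⊔ LinearMap.range (P 2))
    have := h 0
    have := h 1
    have := h 2
    omega
  have hXP : X a * P a = P a * X a := by
    have e1 : X a * C a = C a * C a * X a := by
      rw [← hXC, mul_assoc (X a * C a), hX, mul_one]
    have e2 : X a * (C a * C a) = C a * X a := by
      rw [← mul_assoc, e1, mul_assoc (C a * C a), e1, ← mul_assoc, hC4]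
    show X a * (C a + C a * C a) = (C a + C a * C a) * X a
    rw [mul_add, add_mul, e1, e2, add_comm]
  -- a moved vector in the image
  obtain ⟨u, hu, hmove⟩ : ∃ u ∈ LinearMap.range (P a), X a u ≠ u := by
    by_contra! h
    apply hP a
    show P a = 0
    have hXP1 : X a * P a = P a := LinearMap.ext fun v => h _ ⟨v, rfl⟩
    have hPC : P a * C a = C a * P a := by
      show (C a + C a * C a) * C a = C a * (C a + C a * C a)
      rw [add_mul, mul_add, mul_assoc]
    have h1 : X a * C a * P a = C a * P a := by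
      rw [mul_assoc, ← hPC, ← mul_assoc, hXP1]
    have e1 : X a * C a = C a * C a * X a := by
      rw [← hXC, mul_assoc (X a * C a), hX, mul_one]
    rw [e1, mul_assoc, hXP1] at h1
    have h2 : P a * P a = 0 := by
      show (C a + C a * C a) * P a = 0
      rw [add_mul, h1, end_add_self]
    rwa [hPi] at h2
  set w := X a u + u with hw
  have hw0 : w ≠ 0 := fun e => hmove ((eq_neg_of_add_eq_zero_left e).trans (ZModModule.neg_eq_self _))
  have hwR : w ∈ LinearMap.range (P a) := by
    refine add_mem ⟨X a u, ?_⟩ hu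
    rw [show P a (X a u) = (P a * X a) u from rfl, ← hXP, Module.End.mul_apply, hfix a u hu]
  have hXu : X a u = u + w := by
    rw [hw, add_comm (X a u), ← add_assoc, ZModModule.add_self, zero_add]
  have hwu : polar q w u = 0 := by
    have := hqX a u
    rw [hXu] at this
    rw [QuadraticMap.polar_comm]
    simp only [polar, this, sub_self]
    rw [zero_sub, hw, hsing, neg_zero]
  have hww : polar q w w = 0 := by
    simp only [polar, ZModModule.add_self, map_zero, hw, hsing a u, sub_zero]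
  have hind : LinearIndependent (ZMod 2) ![u, w] := by
    rw [LinearIndependent.pair_iff]
    intro c d h
    have hu0 : u ≠ 0 := fun e => hmove (by rw [e, map_zero])
    have hne : u + w ≠ 0 := fun e => hw0 (by
      have : X a u = 0 := hXu.trans e
      have h' : u = 0 := by
        have := congrArg (X a) this
        rwa [show X a (X a u) = (X a * X a) u from rfl, hX, map_zero] at this
      exact absurd h' hu0)
    rcases OutForm.two_cases c with rfl | rfl <;> rcases OutForm.two_cases d with rfl | rfl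
    · exact ⟨rfl, rfl⟩
    · simp [hw0] at h
    · simp [hu0] at h
    · simp [hne] at h
  have hspan : LinearMap.range (P a) = Submodule.span (ZMod 2) (Set.range ![u, w]) := by
    refine (Submodule.eq_of_le_of_finrank_le ?_ ?_).symm
    · rw [Submodule.span_le]
      rintro _ ⟨i, rfl⟩
      fin_cases i
      exacts [hu, hwR]
    · rw [finrank_span_eq_card hind]
      simpa using ha
  refine hw0 (hnd w fun v => ?_)
  conv_lhs => rw [← hfix a w hwR, hadj]
  have hm : P a v ∈ Submodule.span (ZMod 2) (Set.range ![u, w]) := hspan ▸ ⟨v, rfl⟩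
  generalize P a v = z at hm ⊢
  induction hm using Submodule.span_induction with
  | mem x hx => obtain ⟨i, rfl⟩ := hx; fin_cases i; exacts [hwu, hww]
  | zero => simp [polar]
  | add x y _ _ hx hy => rw [QuadraticMap.polar_add_right, hx, hy, add_zero]
  | smul c x _ hx => rw [QuadraticMap.polar_smul_right, hx, smul_zero]

end linear

variable {G : Type*} [Group G]

/-- The automorphism of `Q` induced by an element of the centraliser. -/
def Hyp.aut (H : Hyp G) (g : {g : G // g * H.t = H.t * g}) : MulAut ↥H.Q where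
  toFun x := ⟨g.1 * x * g.1⁻¹, H.data.norm g.1 g.2 _ x.2⟩
  invFun x := ⟨g.1⁻¹ * x * g.1, by
    have := H.data.norm g.1⁻¹ (Commute.inv_left g.2).eq _ x.2
    rwa [inv_inv] at this⟩
  left_inv x := Subtype.ext (by simp [mul_assoc])
  right_inv x := Subtype.ext (by simp [mul_assoc])
  map_mul' x y := Subtype.ext (by simp [mul_assoc])

theorem exists_linked [Finite G] (H : Hyp G)
    (hne : ∃ g, g * H.t * g⁻¹ * H.t = H.t * (g * H.t * g⁻¹) ∧ g * H.t * g⁻¹ ≠ H.t) :
    ∃ g, g * H.t * g⁻¹ ∈ H.Q ∧ g * H.t * g⁻¹ ≠ H.t := by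
  by_contra! hw
  obtain ⟨g, hc, hne⟩ := hne
  set K := H.conj g with hKdef
  have O : Outer H K := by
    refine ⟨hc.symm, fun h => hne (hw g h), fun h => ?_, fun x hx => ?_, hw⟩
    · have h' : g⁻¹ * H.t * g ∈ H.Q := mem_conjS.mp h
      have := hw g⁻¹ (by simpa using h')
      apply hne
      have e := congrArg (fun y => g * y * g⁻¹) this
      simpa [mul_assoc] using e.symm
    · have h' : g⁻¹ * (x * (g * H.t * g⁻¹) * x⁻¹) * g ∈ H.Q := mem_conjS.mp hx
      have e : g⁻¹ * x * g * H.t * (g⁻¹ * x * g)⁻¹ = g⁻¹ * (x * (g * H.t * g⁻¹) * x⁻¹) * g := by group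
      have := hw (g⁻¹ * x * g) (e ▸ h')
      show x * (g * H.t * g⁻¹) * x⁻¹ = g * H.t * g⁻¹
      conv_rhs => rw [← this]
      group
  obtain ⟨W, hW, hWmem⟩ := O.card_map O.card_E0_le
  obtain ⟨w, hw'⟩ := exists_conj_Tbar hW
  set H' := H.twist w with hH'
  have hb : ∀ a, ∃ b ∈ Cfg.A K.Q H.t, H'.ρ b = sb a := fun a => by
    have h1 : sb a ∈ W.map (MulAut.conj w).toMonoidHom := hw' ▸ sb_mem a
    obtain ⟨r, hr, hre⟩ := h1
    obtain ⟨b, hb, hbr⟩ := (hWmem r).mp hr
    exact ⟨b, hb, by show w * H.ρ b * w⁻¹ = sb a; rw [hbr, ← hre]; rfl⟩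
  choose b hbA hbρ using hb
  obtain ⟨h32, -, hRD, hall⟩ := O.shape
  set D := Cfg.A H.Q K.t with hD
  have hbc : ∀ a, b a * H.t = H.t * b a := fun a => (Cfg.mem_A.mp (hbA a)).2
  -- commutators with b fall into D
  have hf : ∀ a, ∀ q ∈ H.Q, b a * q * (b a)⁻¹ * q⁻¹ ∈ D := by
    intro a q hq
    set f := b a * q * (b a)⁻¹ * q⁻¹ with hfdef
    have hfQ : f ∈ H.Q := mul_mem (H.data.norm _ (hbc a) _ hq) (inv_mem hq)
    have hfd : ∀ d ∈ D, f * d = d * f := by
      intro d hd
      have hdQ := (Cfg.mem_A.mp hd).1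
      have hbd := O.centralise hd (hbA a)
      have e1 : ⁅f * q, d⁆ = ⁅q, d⁆ := by
        have e2 : ⁅f * q, d⁆ = b a * ⁅q, d⁆ * (b a)⁻¹ := by
          have e3 : (b a)⁻¹ * d * b a = d := by rw [mul_assoc, ← hbd, inv_mul_cancel_left]
          rw [show f * q = b a * q * (b a)⁻¹ by rw [hfdef]; group]
          simp only [commutatorElement_def]
          calc b a * q * (b a)⁻¹ * d * (b a * q * (b a)⁻¹)⁻¹ * d⁻¹
              = b a * (q * ((b a)⁻¹ * d * b a) * q⁻¹ * ((b a)⁻¹ * d * b a)⁻¹) * (b a)⁻¹ := by group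
            _ = _ := by rw [e3]
        rcases H.data.comm q hq d hdQ with h | h <;> rw [e2, h]
        · simp
        · rw [hbc a, mul_inv_cancel_right]
      rw [H.data.comm_mul_left hfQ hq hdQ] at e1
      exact commutatorElement_eq_one_iff_mul_comm.mp (mul_eq_right.mp e1)
    have hle : Nat.card (D ⊔ Subgroup.zpowers f : Subgroup G) ≤ 32 := by
      refine H.card_le_of_comm (sup_le inf_le_left (Subgroup.zpowers_le.mpr hfQ)) ?_
      rw [show D ⊔ Subgroup.zpowers f = Subgroup.closure ((D : Set G) ∪ {f}) by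
        rw [Subgroup.closure_union, Subgroup.closure_eq, Subgroup.zpowers_eq_closure]]
      intro x hx y hy
      induction hx, hy using Subgroup.closure_induction₂ with
      | mem x y hx hy =>
        rcases hx with hx | hx <;> rcases hy with hy | hy
        · exact O.D_comm hx hy
        · rw [Set.mem_singleton_iff.mp hy]; exact (hfd x hx).symm
        · rw [Set.mem_singleton_iff.mp hx]; exact hfd y hy
        · rw [Set.mem_singleton_iff.mp hx, Set.mem_singleton_iff.mp hy]
      | one_left => simp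
      | one_right => simp
      | mul_left x y z _ _ _ h1 h2 => exact (Commute.mul_left h1 h2).eq
      | mul_right x y z _ _ _ h1 h2 => exact (Commute.mul_right h1 h2).eq
      | inv_left x y _ _ h => exact (Commute.inv_left h).eq
      | inv_right x y _ _ h => exact (Commute.inv_right h).eq
    rw [Subgroup.eq_of_le_of_card_ge (le_sup_left : D ≤ D ⊔ Subgroup.zpowers f) (by omega)]
    exact Subgroup.mem_sup_right (Subgroup.mem_zpowers f)
  -- the linear maps
  haveI : Fact (Cfsg.IsExtraspecial 2 ↥H'.Q) := ⟨H'.extra⟩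
  let L : (g : {g : G // g * H'.t = H'.t * g}) → Module.End (ZMod 2) (OutForm.Vm ↥H'.Q) :=
    fun g => (OutForm.actLin (H'.aut g)).toLinearMap
  have hLpr : ∀ g x, L g (OutForm.pr x) = OutForm.pr (H'.aut g x) := fun g x => OutForm.actLin_pr _ x
  have hext : ∀ f f' : Module.End (ZMod 2) (OutForm.Vm ↥H'.Q),
      (∀ x, f (OutForm.pr x) = f' (OutForm.pr x)) → f = f' := fun f f' h => LinearMap.ext fun v => by
    obtain ⟨x, rfl⟩ := OutForm.pr_surjective v
    exact h x
  have hLmul : ∀ g h, L g * L h = L ⟨g.1 * h.1, (Commute.mul_left g.2 h.2).eq⟩ := fun g h => hext _ _ fun x => by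
    rw [Module.End.mul_apply, hLpr, hLpr, hLpr]
    exact congrArg OutForm.pr (Subtype.ext (by
      show g.1 * (h.1 * x * h.1⁻¹) * g.1⁻¹ = g.1 * h.1 * x * (g.1 * h.1)⁻¹
      group))
  have hLρ : ∀ g h, H'.ρ g.1 = H'.ρ h.1 → L g = L h := fun g h e => hext _ _ fun x => by
    rw [hLpr, hLpr]
    have hq := H'.mem_of_ρ_eq g.2 h.2 e
    have e2 : H'.aut h x = H'.aut g (⟨g.1⁻¹ * h.1, hq⟩ * x * ⟨g.1⁻¹ * h.1, hq⟩⁻¹) := Subtype.ext (by
      show h.1 * x * h.1⁻¹ = g.1 * (g.1⁻¹ * h.1 * x * (g.1⁻¹ * h.1)⁻¹) * g.1⁻¹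
      group)
    rw [e2, ← OutForm.actLin_pr (H'.aut g), ← OutForm.actLin_pr (H'.aut g), OutForm.pr_mul, OutForm.pr_mul,
      OutForm.pr_inv, add_comm (OutForm.pr _), add_assoc, ZModModule.add_self, add_zero]
  have hL1 : ∀ g, H'.ρ g.1 = 1 → L g = 1 := fun g e => by
    rw [hLρ g ⟨1, by simp⟩ (e.trans H'.ρ_one.symm)]
    exact hext _ _ fun x => by rw [hLpr]; exact congrArg OutForm.pr (Subtype.ext (by simp [Hyp.aut]))
  have hLq : ∀ g v, OutForm.qf ↥H'.Q (L g v) = OutForm.qf ↥H'.Q v := fun g v => by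
    obtain ⟨x, rfl⟩ := OutForm.pr_surjective v
    rw [hLpr, OutForm.qf_apply, OutForm.qf_apply, ← map_mul, OutForm.eps_map]
  choose c hc hcρ using fun a => H'.surj (gm a)
  let X : Fin 3 → Module.End (ZMod 2) (OutForm.Vm ↥H'.Q) := fun a => L ⟨b a, hbc a⟩
  let C : Fin 3 → Module.End (ZMod 2) (OutForm.Vm ↥H'.Q) := fun a => L ⟨c a, hc a⟩
  have hρ2 : ∀ g h : G, g * H.t = H.t * g → h * H.t = H.t * h → H'.ρ (g * h) = H'.ρ g * H'.ρ h := H'.mul
  have hsb2 : ∀ a, sb a * sb a = 1 := fun a => by rw [sb, ← Pi.mulSingle_mul, γ₃_facts.2.1, Pi.mulSingle_one]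
  have hgm3 : ∀ a, gm a * gm a * gm a = 1 := fun a => by
    rw [gm, ← Pi.mulSingle_mul, ← Pi.mulSingle_mul, γ₃_facts.1, Pi.mulSingle_one]
  have hdis : ∀ a a' : Fin 3, a ≠ a' → ∀ p p' : Equiv.Perm (Fin 3),
      (Pi.mulSingle a p : S33) * Pi.mulSingle a' p' = Pi.mulSingle a' p' * Pi.mulSingle a p :=
    fun a a' h p p' => (Pi.mulSingle_commute (f := fun _ : Fin 3 => Equiv.Perm (Fin 3)) h p p').eq
  refine no_triple (OutForm.qf ↥H'.Q) ?_ ?_ C X ?_ ?_ ?_ ?_ (fun a => hLq _) (fun a => hLq _) ?_ ?_ ?_ ?_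
  · intro v hv
    exact (Forms.nondegenerate_polarBilin_iff _).mp OutForm.qf_nondegenerate v hv
  · exact (OutForm.finrank_Vm (n := 4) H'.card).le
  · intro a
    rw [hLmul, hLmul]
    refine hL1 _ ?_
    show H'.ρ (c a * c a * c a) = 1
    rw [H'.mul _ _ (Commute.mul_left (hc a) (hc a)).eq (hc a), H'.mul _ _ (hc a) (hc a), hcρ, hgm3]
  · intro a
    rw [hLmul]
    refine hL1 _ ?_
    show H'.ρ (b a * b a) = 1
    rw [hρ2 _ _ (hbc a) (hbc a), hbρ, hsb2]
  · intro a
    rw [hLmul, hLmul, hLmul]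
    refine hLρ _ _ ?_
    show H'.ρ (b a * c a * b a) = H'.ρ (c a * c a)
    rw [hρ2 _ _ (Commute.mul_left (hbc a) (hc a)).eq (hbc a), hρ2 _ _ (hbc a) (hc a), hρ2 _ _ (hc a) (hc a),
      hbρ, hcρ, sb, gm, ← Pi.mulSingle_mul, ← Pi.mulSingle_mul, γ₃_facts.2.2.1, Pi.mulSingle_mul]
  · intro a h0
    have hC1 : C a = 1 := by
      have h3 : C a * C a * C a = 1 := by
        rw [hLmul, hLmul]
        refine hL1 _ ?_
        show H'.ρ (c a * c a * c a) = 1
        rw [H'.mul _ _ (Commute.mul_left (hc a) (hc a)).eq (hc a), H'.mul _ _ (hc a) (hc a), hcρ, hgm3]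
      have e : C a = C a * C a := by
        have := congrArg (· + C a * C a) h0
        simpa [add_assoc, end_add_self] using this
      calc C a = C a * C a := e
        _ = C a * (C a * C a) := congrArg (C a * ·) e
        _ = 1 := by rw [← mul_assoc, h3]
    -- then c induces an inner automorphism
    have hk : H'.aut ⟨c a, hc a⟩ ∈ Cfsg.Inn ↥H'.Q := by
      rw [← OutForm.ker_eq, MonoidHom.mem_ker]
      refine Subtype.ext (LinearEquiv.ext fun v => ?_)
      exact LinearMap.congr_fun hC1 v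
    obtain ⟨p, hp⟩ := hk
    have hcent : ∀ q ∈ H'.Q, q * ((p : G)⁻¹ * c a) = ((p : G)⁻¹ * c a) * q := fun q hq => by
      have h := congrArg (fun f : MulAut ↥H'.Q => ((f ⟨q, hq⟩ : ↥H'.Q) : G)) hp
      simp only [MulAut.conj_apply, Subgroup.coe_mul, Subgroup.coe_inv] at h
      have h' : (p : G) * q * (p : G)⁻¹ = c a * q * (c a)⁻¹ := h
      calc q * ((p : G)⁻¹ * c a) = (p : G)⁻¹ * ((p : G) * q * (p : G)⁻¹) * c a := by group
        _ = _ := by rw [h']; group
    have hcQ : c a ∈ H'.Q := by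
      have : (p : G)⁻¹ * c a ∈ H'.Q := by
        rcases H'.data.cent _ hcent with h | h <;> rw [h]
        exacts [one_mem _, H'.data.z_mem]
      simpa using mul_mem p.2 this
    have := H'.ρ_Q hcQ
    rw [hcρ, gm, Pi.mulSingle_eq_one_iff] at this
    exact γ₃_facts.2.2.2.1 this
  · intro a a' h
    rw [hLmul, hLmul]
    refine hLρ _ _ ?_
    show H'.ρ (c a * c a') = H'.ρ (c a' * c a)
    rw [hρ2 _ _ (hc a) (hc a'), hρ2 _ _ (hc a') (hc a), hcρ, hcρ, gm, gm, hdis a a' h]
  · intro a a' h
    rw [hLmul, hLmul]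
    refine hLρ _ _ ?_
    show H'.ρ (c a * b a') = H'.ρ (b a' * c a)
    rw [hρ2 _ _ (hc a) (hbc a'), hρ2 _ _ (hbc a') (hc a), hcρ, hbρ, gm, sb, hdis a a' h]
  · intro a a' _
    refine hext _ _ fun x => ?_
    simp only [Module.End.mul_apply, LinearMap.add_apply, Module.End.one_apply, X, hLpr, LinearMap.zero_apply]
    have hd := hf a' x x.2
    set d : G := b a' * x * (b a')⁻¹ * (x : G)⁻¹
    have hbd : b a * d * (b a)⁻¹ = d := by rw [O.centralise hd (hbA a), mul_inv_cancel_right]
    have e1 : OutForm.pr (H'.aut ⟨b a', hbc a'⟩ x) + OutForm.pr x =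
        OutForm.pr (⟨d, (Cfg.mem_A.mp hd).1⟩ : ↥H'.Q) := by
      conv_lhs => rw [← OutForm.pr_inv x, ← OutForm.pr_mul]
      exact congrArg OutForm.pr (Subtype.ext rfl)
    rw [e1, hLpr]
    have e2 : H'.aut ⟨b a, hbc a⟩ (⟨d, (Cfg.mem_A.mp hd).1⟩ : ↥H'.Q) = ⟨d, (Cfg.mem_A.mp hd).1⟩ :=
      Subtype.ext hbd
    rw [e2, ZModModule.add_self]
  · intro a v
    obtain ⟨x, rfl⟩ := OutForm.pr_surjective v
    simp only [X, hLpr]
    have hd := hf a x x.2
    have e1 : OutForm.pr (H'.aut ⟨b a, hbc a⟩ x) + OutForm.pr x =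
        OutForm.pr (⟨_, (Cfg.mem_A.mp hd).1⟩ : ↥H'.Q) := by
      conv_lhs => rw [← OutForm.pr_inv x, ← OutForm.pr_mul]
      exact congrArg OutForm.pr (Subtype.ext rfl)
    rw [e1, OutForm.qf_apply]
    have : (⟨_, (Cfg.mem_A.mp hd).1⟩ : ↥H'.Q) * ⟨_, (Cfg.mem_A.mp hd).1⟩ = 1 := Subtype.ext (O.D_sq hd)
    rw [this, OutForm.eps_one]

end Cfsg.Agent.OmegaEight
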