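import Cfsg.Agent.Lib.OmegaEight.Config

/-
A complement to `Q`: commuting elements of order three and commuting involutions of `C_P(t)` inverting one
each (`Fr`, `exists_fr`).
-/

set_option autoImplicit false

namespace Cfsg.Agent.OmegaEight

open Cfsg.Agent.LargeExtraspecial
open scoped commutatorElement

variable {G : Type*} [Group G]

/-- A linked pair with a complement. -/
structure Fr (G : Type*) [Group G] where
  L : Lk G
  hs : L.Std
  nat : ∀ h : G, h * L.s * h⁻¹ = L.H.t → ∀ y ∈ L.P, h * y * h⁻¹ ∈ L.H.Q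
  x : Fin 3 → G
  c : Fin 3 → G
  xB : ∀ a, x a ∈ L.BB
  xx : ∀ a, x a * x a = 1
  xcomm : ∀ a b, x a * x b = x b * x a
  ct : ∀ a, c a * L.H.t = L.H.t * c a
  ccc : ∀ a, c a * c a * c a = 1
  ccomm : ∀ a b, c a * c b = c b * c a
  xc : ∀ a b, a ≠ b → x a * c b = c b * x a
  xcx : ∀ a, x a * c a * x a = c a * c a
  xρ : ∀ a, L.H.ρ (x a) = sb a
  cρ : ∀ a, L.H.ρ (c a) = gm a

set_option maxRecDepth 100000 in
/-- The elements of the normal Sylow 3-subgroup. -/
theorem perm3_cube : ∀ p : Equiv.Perm (Fin 3), p ^ 27 = 1 → p = 1 ∨ p = γ₃ ∨ p = γ₃ * γ₃ := by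
  intro p h
  rcases perm3_cases p with e | e | e | e | e | e <;> subst e
  all_goals first
    | exact Or.inl rfl
    | exact Or.inr (Or.inl rfl)
    | exact Or.inr (Or.inr rfl)
    | exfalso; revert h; decide

/-- The 3-elements of `S₃³`. -/
def C3 : Subgroup S33 := Subgroup.pi Set.univ fun _ => Subgroup.zpowers γ₃

theorem mem_C3 {r : S33} : r ∈ C3 ↔ ∀ a, r a = 1 ∨ r a = γ₃ ∨ r a = γ₃ * γ₃ := by
  simp only [C3, Subgroup.mem_pi, Set.mem_univ, true_implies]
  refine forall_congr' fun a => ?_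
  constructor
  · intro h
    refine perm3_cube _ ?_
    obtain ⟨k, hk⟩ := Subgroup.mem_zpowers_iff.mp h
    have h3 : γ₃ ^ 3 = 1 := by decide
    rw [← hk, ← zpow_natCast, ← zpow_mul, mul_comm, zpow_mul, zpow_natCast,
      show (27 : ℕ) = 3 * 9 by norm_num, pow_mul, h3, one_pow, one_zpow]
  · rintro (h | h | h) <;> rw [h]
    exacts [one_mem _, Subgroup.mem_zpowers _, mul_mem (Subgroup.mem_zpowers _) (Subgroup.mem_zpowers _)]

theorem card_C3 : Nat.card C3 = 27 := by
  let f : C3 ≃ (Fin 3 → Subgroup.zpowers γ₃) :=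
    { toFun := fun r a => ⟨r.1 a, r.2 a (Set.mem_univ a)⟩
      invFun := fun r => ⟨fun a => r a, fun a _ => (r a).2⟩
      left_inv := fun _ => rfl
      right_inv := fun _ => rfl }
  have : Fact (Nat.Prime 3) := ⟨Nat.prime_three⟩
  have h3 : γ₃ ^ 3 = 1 := by decide
  rw [Nat.card_congr f, Nat.card_pi, Finset.prod_const, Finset.card_univ, Fintype.card_fin, Nat.card_zpowers,
    orderOf_eq_prime h3 γ₃_facts.2.2.2.1]
  norm_num

/-- A section of the elements of order three, and a normalising set of lifts. -/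
theorem exists_lifts [Finite G] (L : Lk G) : ∃ c n : Fin 3 → G,
    (∀ a, c a * L.H.t = L.H.t * c a) ∧ (∀ a, c a * c a * c a = 1) ∧ (∀ a b, c a * c b = c b * c a) ∧
    (∀ a, L.H.ρ (c a) = gm a) ∧ (∀ a, n a * L.H.t = L.H.t * n a) ∧ (∀ a, L.H.ρ (n a) = sb a) ∧
    (∀ a b, a ≠ b → n a * c b * (n a)⁻¹ = c b) ∧ (∀ a, n a * c a * (n a)⁻¹ = c a * c a) := by
  classical
  have : Fact (Nat.Prime 3) := ⟨Nat.prime_three⟩
  set C := Subgroup.centralizer ({L.H.t} : Set G) with hC
  have hmem : ∀ g : C, (g : G) * L.H.t = L.H.t * g := fun g => Subgroup.mem_centralizer_singleton_iff.mp g.2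
  let π : C →* S33 :=
    { toFun := fun g => L.H.ρ g
      map_one' := L.H.ρ_one
      map_mul' := fun a b => L.H.mul _ _ (hmem a) (hmem b) }
  have hπs : Function.Surjective π := fun r => by
    obtain ⟨g, hg, hr⟩ := L.H.surj r
    exact ⟨⟨g, Subgroup.mem_centralizer_singleton_iff.mpr hg⟩, hr⟩
  have hkerQ : ∀ g : C, π g = 1 → (g : G) ∈ L.H.Q := fun g hg => (L.H.ker _ (hmem g)).mp hg
  have hker : Nat.card π.ker = 512 := by
    rw [← L.H.card]
    refine Nat.card_eq_of_bijective (fun g : π.ker => (⟨(g : C), hkerQ _ g.2⟩ : L.H.Q)) ⟨fun a b h => ?_, fun q => ?_⟩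
    · simp only [Subtype.mk.injEq] at h
      exact Subtype.ext (Subtype.ext h)
    · exact ⟨⟨⟨q, Subgroup.mem_centralizer_singleton_iff.mpr (L.H.ct q.2)⟩, L.H.ρ_Q q.2⟩, rfl⟩
  have hCcard : Nat.card C = 2 ^ 12 * 3 ^ 3 := by
    have h := Subgroup.card_eq_card_quotient_mul_card_subgroup π.ker
    rw [← Subgroup.index_eq_card, Subgroup.index_ker, hker, MonoidHom.range_eq_top.mpr hπs,
      Subgroup.card_top, card_S33] at h
    rw [h]; norm_num
  let P : Sylow 3 C := default
  have hP : Nat.card P = 27 := by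
    rw [P.card_eq_multiplicity, hCcard, Nat.factorization_mul (by norm_num) (by norm_num), Finsupp.add_apply,
      Nat.Prime.factorization_pow Nat.prime_three, Finsupp.single_eq_same,
      Nat.Prime.factorization_pow Nat.prime_two, Finsupp.single_eq_of_ne (by norm_num)]
    norm_num
  have hinj : ∀ u ∈ (P : Subgroup C), π u = 1 → u = 1 := by
    intro u hu h
    have h1 : orderOf u ∣ 27 := hP ▸ Subgroup.orderOf_mk u hu ▸ orderOf_dvd_natCard (⟨u, hu⟩ : (P : Subgroup C))
    have h2 : orderOf u ∣ 512 :=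
      hker ▸ Subgroup.orderOf_mk u (MonoidHom.mem_ker.mpr h) ▸ orderOf_dvd_natCard (⟨u, MonoidHom.mem_ker.mpr h⟩ : π.ker)
    have := Nat.dvd_gcd h1 h2
    norm_num at this
    exact this
  have himg : (P : Subgroup C).map π = C3 := by
    refine Subgroup.eq_of_le_of_card_ge ?_ ?_
    · rintro _ ⟨u, hu, rfl⟩
      refine mem_C3.mpr fun a => perm3_cube _ ?_
      have h1 : orderOf u ∣ 27 := hP ▸ Subgroup.orderOf_mk u hu ▸ orderOf_dvd_natCard (⟨u, hu⟩ : (P : Subgroup C))
      have := congrArg (fun r : S33 => r a) ((map_pow π u 27).symm.trans (by rw [orderOf_dvd_iff_pow_eq_one.mp h1, map_one]))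
      simpa using this
    · rw [card_C3, ← hP]
      refine Nat.card_le_card_of_injective (fun u : (P : Subgroup C) =>
        (⟨π u, ⟨u, u.2, rfl⟩⟩ : (P : Subgroup C).map π)) fun u v h0 => ?_
      have h : π (u : C) = π (v : C) := congrArg Subtype.val h0
      have := hinj ((u : C)⁻¹ * v) (mul_mem (inv_mem u.2) v.2) (by rw [map_mul, map_inv, h, inv_mul_cancel])
      exact Subtype.ext (inv_mul_eq_one.mp this)
  have huniq : ∀ u ∈ (P : Subgroup C), ∀ v ∈ (P : Subgroup C), π u = π v → u = v := fun u hu v hv h =>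
    inv_mul_eq_one.mp (hinj _ (mul_mem (inv_mem hu) hv) (by rw [map_mul, map_inv, h, inv_mul_cancel]))
  have hgm : ∀ a, gm a ∈ C3 := fun a => mem_C3.mpr fun b => by
    rcases eq_or_ne b a with rfl | h
    · exact Or.inr (Or.inl (Pi.mulSingle_eq_same _ _))
    · exact Or.inl (Pi.mulSingle_eq_of_ne h _)
  choose c hcP hcπ using fun a => Subgroup.mem_map.mp (himg.symm ▸ hgm a : gm a ∈ (P : Subgroup C).map π)
  -- the normaliser covers everything
  have hC3n : C3.Normal := ⟨fun r hr g => mem_C3.mpr fun a => by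
    have := mem_C3.mp hr a
    show g a * r a * (g a)⁻¹ = 1 ∨ g a * r a * (g a)⁻¹ = γ₃ ∨ g a * r a * (g a)⁻¹ = γ₃ * γ₃
    rcases perm3_cases (g a) with e | e | e | e | e | e <;> rcases this with e' | e' | e' <;> rw [e, e'] <;> decide⟩
  have hPM : (P : Subgroup C) ≤ C3.comap π := fun u hu => Subgroup.mem_comap.mpr (himg ▸ ⟨u, hu, rfl⟩)
  have htop := Sylow.normalizer_sup_eq_top' P hPM
  have hNtop : (Subgroup.normalizer ((P : Subgroup C) : Set C)).map π = ⊤ := by
    rw [eq_top_iff]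
    calc (⊤ : Subgroup S33) = (⊤ : Subgroup C).map π := (Subgroup.map_top_of_surjective π hπs).symm
      _ = (Subgroup.normalizer ((P : Subgroup C) : Set C)).map π ⊔ (C3.comap π).map π := by
          rw [← Subgroup.map_sup]; congr 1; exact htop.symm
      _ ≤ _ := by
          refine sup_le le_rfl ((Subgroup.map_comap_le π C3).trans ?_)
          rw [← himg]
          exact Subgroup.map_mono Subgroup.le_normalizer
  choose n hnN hnπ using fun a => Subgroup.mem_map.mp
    (hNtop.symm ▸ Subgroup.mem_top (sb a) : sb a ∈ (Subgroup.normalizer ((P : Subgroup C) : Set C)).map π)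
  have hnconj : ∀ a b, n a * c b * (n a)⁻¹ ∈ (P : Subgroup C) := fun a b =>
    (Subgroup.mem_normalizer_iff.mp (hnN a) (c b)).mp (hcP b)
  refine ⟨fun a => (c a : G), fun a => (n a : G), fun a => hmem _, fun a => ?_, fun a b => ?_, hcπ,
    fun a => hmem _, hnπ, fun a b h => ?_, fun a => ?_⟩
  · have := huniq (c a * c a * c a) (mul_mem (mul_mem (hcP a) (hcP a)) (hcP a)) 1 (one_mem _) (by
      rw [map_mul, map_mul, hcπ, map_one, gm, ← Pi.mulSingle_mul, ← Pi.mulSingle_mul, γ₃_facts.1, Pi.mulSingle_one])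
    exact congrArg Subtype.val this
  · have := huniq (c a * c b) (mul_mem (hcP a) (hcP b)) (c b * c a) (mul_mem (hcP b) (hcP a)) (by
      rw [map_mul, map_mul, hcπ, hcπ]
      rcases eq_or_ne a b with rfl | hab
      · rfl
      · exact (Pi.mulSingle_commute (f := fun _ : Fin 3 => Equiv.Perm (Fin 3)) hab γ₃ γ₃).eq)
    exact congrArg Subtype.val this
  · have := huniq _ (hnconj a b) (c b) (hcP b) (by
      rw [map_mul, map_mul, map_inv, hnπ, hcπ, sb, gm,
        (Pi.mulSingle_commute (f := fun _ : Fin 3 => Equiv.Perm (Fin 3)) h σ₃ γ₃).eq, mul_inv_cancel_right])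
    exact congrArg Subtype.val this
  · have := huniq _ (hnconj a a) (c a * c a) (mul_mem (hcP a) (hcP a)) (by
      rw [map_mul, map_mul, map_mul, map_inv, hnπ, hcπ, sb, gm, ← Pi.mulSingle_inv, ← Pi.mulSingle_mul,
        ← Pi.mulSingle_mul, ← Pi.mulSingle_mul, inv_eq_of_mul_eq_one_right γ₃_facts.2.1, γ₃_facts.2.2.1])
    exact congrArg Subtype.val this

namespace Lk

variable {L : Lk G}

/-- `C(t) ∩ C(s) = AB`. -/
theorem decomp [Finite G] (hs : L.Std) {g : G} (ht : g * L.H.t = L.H.t * g) (hgs : g * L.s = L.s * g) :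
    ∃ a ∈ L.AA, ∃ b ∈ L.BB, g = a * b ∧ L.H.ρ b = L.H.ρ g := by
  obtain ⟨b, hb, hbρ⟩ := exists_B hs (stab hs ht (Or.inl (by rw [hgs, mul_inv_cancel_right])))
  refine ⟨g * b⁻¹, Cfg.mem_A.mpr ⟨?_, ?_⟩, b, hb, by group, hbρ⟩
  · rw [← L.H.ker _ (Commute.mul_left ht (Commute.inv_left (L.BB_t hb))).eq,
      L.H.mul _ _ ht (Commute.inv_left (L.BB_t hb)).eq, L.H.ρ_inv (L.BB_t hb), hbρ, mul_inv_cancel]
  · exact (Commute.mul_left hgs (Commute.inv_left (L.BB_s hb))).eq

theorem lam_symm (hs : L.Std) {x y : G} (h : ⁅x, y⁆ ∈ L.EE) : lam hs ⁅y, x⁆ = lam hs ⁅x, y⁆ := by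
  rw [← commutatorElement_inv x y, inv_eq_of_mul_eq_one_right (L.cfg.E_sq h)]

/-- The commutator of two elements of `AB` modulo `V`. -/
theorem lam_comm [Finite G] (hs : L.Std) {a b a' b' : G} (ha : a ∈ L.AA) (hb : b ∈ L.BB) (ha' : a' ∈ L.AA)
    (hb' : b' ∈ L.BB) : ⁅a * b, a' * b'⁆ ∈ L.EE ∧
      lam hs ⁅a * b, a' * b'⁆ = cross (mu hs a') (bit (L.H.ρ b)) + cross (mu hs a) (bit (L.H.ρ b')) := by
  have e : ⁅a * b, a' * b'⁆ = a * (⁅b, a'⁆ * (a' * ⁅b, b'⁆ * a'⁻¹)) * a⁻¹ * (⁅a, a'⁆ * (a' * ⁅a, b'⁆ * a'⁻¹)) := by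
    simp only [commutatorElement_def]; group
  have hA : ∀ x ∈ L.AA, ∀ f ∈ L.EE, x * f * x⁻¹ ∈ L.EE ∧ lam hs (x * f * x⁻¹) = lam hs f := fun x hx f hf =>
    lam_conj hs hf (Or.inl rfl) (L.H.data.comm x (Cfg.mem_A.mp hx).1 f hf.1)
  have hab' := comm_AB_mem ha hb'
  have ha'b := comm_AB_mem ha' hb
  have hba' : ⁅b, a'⁆ ∈ L.EE := by rw [← commutatorElement_inv]; exact inv_mem ha'b
  have hbbV : ⁅b, b'⁆ ∈ L.EE ∧ lam hs ⁅b, b'⁆ = 0 := by
    rcases L.cfg.dP.comm b (Cfg.mem_A.mp hb).1 b' (Cfg.mem_A.mp hb').1 with h | h <;> rw [h]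
    exacts [⟨one_mem _, lam_one hs⟩, ⟨L.cfg.s_mem_E, lam_V hs (by tauto)⟩]
  have haaV : ⁅a, a'⁆ ∈ L.EE ∧ lam hs ⁅a, a'⁆ = 0 := by
    rcases L.H.data.comm a (Cfg.mem_A.mp ha).1 a' (Cfg.mem_A.mp ha').1 with h | h <;> rw [h]
    exacts [⟨one_mem _, lam_one hs⟩, ⟨L.cfg.z_mem_E, lam_V hs (by tauto)⟩]
  obtain ⟨i1, j1⟩ := hA a' ha' _ hbbV.1
  obtain ⟨i2, j2⟩ := hA a ha _ (mul_mem hba' i1)
  obtain ⟨i3, j3⟩ := hA a' ha' _ hab'
  rw [e]
  refine ⟨mul_mem i2 (mul_mem haaV.1 i3), ?_⟩
  rw [lam_mul hs i2 (mul_mem haaV.1 i3), j2, lam_mul hs hba' i1, j1, hbbV.2, add_zero, lam_mul hs haaV.1 i3,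
    haaV.2, zero_add, j3, lam_symm hs ha'b, ← gam_eq hs ha' hb, ← gam_eq hs ha hb']
  rfl

/-- The square of an element of `AB` modulo `V`. -/
theorem lam_sq [Finite G] (hs : L.Std) {a b : G} (ha : a ∈ L.AA) (hb : b ∈ L.BB) :
    a * b * (a * b) ∈ L.EE ∧ lam hs (a * b * (a * b)) = cross (mu hs a) (bit (L.H.ρ b)) := by
  have hab := comm_AB_mem ha hb
  have hba : ⁅b, a⁆ ∈ L.EE := by rw [← commutatorElement_inv]; exact inv_mem hab
  have e : a * b * (a * b) = (a * ⁅b, a⁆ * a⁻¹) * ((a * a) * (b * b)) := by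
    simp only [commutatorElement_def]; group
  obtain ⟨i1, j1⟩ := lam_conj hs (x := a) hba (Or.inl rfl) (L.H.data.comm a (Cfg.mem_A.mp ha).1 _ hba.1)
  have haa : a * a ∈ L.EE ∧ lam hs (a * a) = 0 := by
    rcases L.H.data.sq (Cfg.mem_A.mp ha).1 with h | h <;> rw [h]
    exacts [⟨one_mem _, lam_one hs⟩, ⟨L.cfg.z_mem_E, lam_V hs (by tauto)⟩]
  have hbb : b * b ∈ L.EE ∧ lam hs (b * b) = 0 := by
    rcases L.cfg.dP.sq (Cfg.mem_A.mp hb).1 with h | h <;> rw [h]
    exacts [⟨one_mem _, lam_one hs⟩, ⟨L.cfg.s_mem_E, lam_V hs (by tauto)⟩]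
  rw [e]
  refine ⟨mul_mem i1 (mul_mem haa.1 hbb.1), ?_⟩
  rw [lam_mul hs i1 (mul_mem haa.1 hbb.1), j1, lam_mul hs haa.1 hbb.1, haa.2, hbb.2, add_zero, add_zero,
    lam_symm hs hab, ← gam_eq hs ha hb]
  rfl

end Lk

theorem exists_fr [Finite G] (H : Hyp G) {g : G} (hg : g * H.t * g⁻¹ ∈ H.Q) (hne : g * H.t * g⁻¹ ≠ H.t) :
    ∃ F : Fr G, F.L.H.t = H.t ∧ F.L.H.Q = H.Q := by
  obtain ⟨L0, hH0, hs0, hP0⟩ := exists_lk H hg hne
  obtain ⟨w, hstd⟩ := L0.exists_std
  set L : Lk G := Lk.mk (L0.H.twist w) L0.P L0.s L0.cfg L0.exP L0.cardP with hL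
  have hs : L.Std := hstd
  have htH : L.H.t = H.t := by subst hH0; rfl
  have hQH : L.H.Q = H.Q := by subst hH0; rfl
  have hnat : ∀ h : G, h * L.s * h⁻¹ = L.H.t → ∀ y ∈ L.P, h * y * h⁻¹ ∈ L.H.Q := by
    intro h hh y hy
    have hh' : h * (g * H.t * g⁻¹) * h⁻¹ = H.t := by rw [← hs0, ← htH]; exact hh
    have hy' : y ∈ conjS g H.Q := by rw [← hP0]; exact hy
    have e := H.data.conjS_eq_of_conj_eq (a := h * g) (b := 1) (by
      rw [one_mul, inv_one, mul_one]
      calc h * g * H.t * (h * g)⁻¹ = h * (g * H.t * g⁻¹) * h⁻¹ := by group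
        _ = H.t := hh')
    rw [hQH]
    have h2 : h * y * h⁻¹ ∈ conjS (h * g) H.Q := by
      rw [mem_conjS] at hy' ⊢
      simpa [mul_assoc] using hy'
    rw [e, mem_conjS] at h2
    simpa using h2
  obtain ⟨c, n, hct, hccc, hcc, hcρ, hnt, hnρ, hnc, hncc⟩ := exists_lifts L
  have htt := L.H.data.z_sq
  have hss := L.cfg.dP.z_sq
  set t := L.H.t with htdef
  set s := L.s with hsdef
  have hc3 : ∀ a, (c a)⁻¹ = c a * c a := fun a => inv_eq_of_mul_eq_one_right (by rw [← mul_assoc, hccc])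
  -- the elements n fix s
  set m := c 0 with hm
  have hmt := hct 0
  set u := m * s * m⁻¹ with hu
  set v := m * u * m⁻¹ with hv
  have huQ : u ∈ L.H.Q := L.H.data.norm m hmt s L.cfg.s_mem
  have hvQ : v ∈ L.H.Q := L.H.data.norm m hmt u huQ
  have hmv : m * v * m⁻¹ = s := by
    rw [hv, hu]
    calc m * (m * (m * s * m⁻¹) * m⁻¹) * m⁻¹ = (m * m * m) * s * (m * m * m)⁻¹ := by group
      _ = s := by rw [hccc]; group
  set pr := s * u * v with hpr
  have hprQ : pr ∈ L.H.Q := mul_mem (mul_mem L.cfg.s_mem huQ) hvQ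
  have hcomm2 : ∀ x ∈ L.H.Q, ∀ y ∈ L.H.Q, x * y = y * x ∨ x * y = y * x * t := fun x hx y hy => by
    have e : x * y = ⁅x, y⁆ * (y * x) := by rw [commutatorElement_def]; group
    rcases L.H.data.comm x hx y hy with h | h <;> rw [e, h]
    · exact Or.inl (one_mul _)
    · exact Or.inr (L.H.ct (mul_mem hy hx)).symm
  have hpr1 : pr = 1 ∨ pr = t := by
    refine Lk.fpf hs hmt (hcρ 0) hprQ ?_
    have e : m * pr * m⁻¹ = u * v * s := by
      calc m * pr * m⁻¹ = (m * s * m⁻¹) * (m * u * m⁻¹) * (m * v * m⁻¹) := by rw [hpr]; group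
        _ = _ := by rw [hmv]
    show m * pr * m⁻¹ = pr ∨ m * pr * m⁻¹ = pr * t
    rw [e, hpr, mul_assoc s u v]
    exact hcomm2 _ (mul_mem huQ hvQ) s L.cfg.s_mem
  have huu : u * u = 1 := by
    rw [hu, show m * s * m⁻¹ * (m * s * m⁻¹) = m * (s * s) * m⁻¹ by group, hss]; group
  have hvv : v * v = 1 := by
    rw [hv, show m * u * m⁻¹ * (m * u * m⁻¹) = m * (u * u) * m⁻¹ by group, huu]; group
  have hsu : s * u = u * s := by
    have h1 : s * u * (s * u) = 1 := by
      have h2 : s * u = pr * v := by rw [hpr, mul_assoc, hvv, mul_one]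
      rcases hpr1 with h | h <;> rw [h] at h2 <;> rw [h2]
      · rw [one_mul, hvv]
      · calc t * v * (t * v) = t * (v * t) * v := by group
          _ = t * (t * v) * v := by rw [L.H.ct hvQ]
          _ = (t * t) * (v * v) := by group
          _ = 1 := by rw [htt, hvv, one_mul]
    calc s * u = (s * u)⁻¹ := eq_inv_of_mul_eq_one_left h1
      _ = u * s := by rw [mul_inv_rev, inv_eq_of_mul_eq_one_right hss, inv_eq_of_mul_eq_one_right huu]
  have hsv : s * v = v * s := by
    -- v is a word in s and u up to t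
    have h2 : v = (s * u)⁻¹ * pr := by rw [hpr]; group
    have hc1 : Commute s ((s * u)⁻¹) := ((Commute.refl s).mul_right hsu).inv_right
    rcases hpr1 with h | h <;> rw [h] at h2 <;> rw [h2]
    · rw [mul_one]; exact hc1.eq
    · exact (hc1.mul_right L.ts.symm).eq
  have huv : u * v = v * u := by
    have h2 : v = (s * u)⁻¹ * pr := by rw [hpr]; group
    have hc1 : Commute u ((s * u)⁻¹) := ((show Commute u s from hsu.symm).mul_right (Commute.refl u)).inv_right
    rcases hpr1 with h | h <;> rw [h] at h2 <;> rw [h2]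
    · rw [mul_one]; exact hc1.eq
    · exact (hc1.mul_right (L.H.ct huQ)).eq
  have hns : ∀ a, n a * s = s * n a := by
    intro a
    have hnt' : n a * t * (n a)⁻¹ = t := by rw [hnt, mul_inv_cancel_right]
    obtain ⟨b, hb, hbρ⟩ := Lk.exists_B hs (sb_mem a)
    have hr := L.H.mem_of_ρ_eq (L.BB_t hb) (hnt a) (by rw [hbρ, hnρ])
    rcases L.cfg.q_conj hr with h | h
    · refine mul_inv_eq_iff_eq_mul.mp ?_
      calc n a * s * (n a)⁻¹ = b * (b⁻¹ * n a * s * (b⁻¹ * n a)⁻¹) * b⁻¹ := by group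
        _ = s := by rw [h, L.BB_s hb, mul_inv_cancel_right]
    exfalso
    have hns' : n a * s * (n a)⁻¹ = s * t := by
      calc n a * s * (n a)⁻¹ = b * (b⁻¹ * n a * s * (b⁻¹ * n a)⁻¹) * b⁻¹ := by group
        _ = s * t := by rw [h, (Commute.mul_right (L.BB_s hb) (L.BB_t hb)).eq, mul_inv_cancel_right]
    have hnpr : n a * pr * (n a)⁻¹ = pr := by
      rcases hpr1 with h | h <;> rw [h]
      · group
      · exact hnt'
    have hmt' : m * t * m⁻¹ = t := by rw [hmt, mul_inv_cancel_right]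
    have hmst : m * (s * t) * m⁻¹ = u * t := by
      rw [show m * (s * t) * m⁻¹ = (m * s * m⁻¹) * (m * t * m⁻¹) by group, hmt', hu]
    have hmut : m * (u * t) * m⁻¹ = v * t := by
      rw [show m * (u * t) * m⁻¹ = (m * u * m⁻¹) * (m * t * m⁻¹) by group, hmt', hv]
    have h3 : n a * pr * (n a)⁻¹ = pr * t := by
      have e : n a * pr * (n a)⁻¹ = (n a * s * (n a)⁻¹) * (n a * u * (n a)⁻¹) * (n a * v * (n a)⁻¹) := by
        rw [hpr]; group
      have htv : ∀ x ∈ L.H.Q, t * x = x * t := fun x hx => (L.H.ct hx).symm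
      rcases eq_or_ne a 0 with rfl | ha
      · have hnm : n 0 * m * (n 0)⁻¹ = m * m := hncc 0
        have e1 : n 0 * u * (n 0)⁻¹ = v * t := by
          calc n 0 * u * (n 0)⁻¹ = (n 0 * m * (n 0)⁻¹) * (n 0 * s * (n 0)⁻¹) * (n 0 * m * (n 0)⁻¹)⁻¹ := by
                rw [hu]; group
            _ = m * (m * (s * t) * m⁻¹) * m⁻¹ := by rw [hnm, hns']; group
            _ = v * t := by rw [hmst, hmut]
        have e2 : n 0 * v * (n 0)⁻¹ = u * t := by
          calc n 0 * v * (n 0)⁻¹ = (n 0 * m * (n 0)⁻¹) * (n 0 * u * (n 0)⁻¹) * (n 0 * m * (n 0)⁻¹)⁻¹ := by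
                rw [hv]; group
            _ = m * (m * (v * t) * m⁻¹) * m⁻¹ := by rw [hnm, e1]; group
            _ = u * t := by
                rw [show m * (v * t) * m⁻¹ = s * t by
                  rw [show m * (v * t) * m⁻¹ = (m * v * m⁻¹) * (m * t * m⁻¹) by group, hmv, hmt'], hmst]
        rw [e, hns', e1, e2, hpr]
        calc s * t * (v * t) * (u * t) = s * (t * v) * (t * u) * t := by group
          _ = s * v * (t * t) * u * t := by rw [htv v hvQ]; group
          _ = s * (v * u) * t := by rw [htt]; group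
          _ = s * u * v * t := by rw [← huv]; group
      · have hnm : n a * m * (n a)⁻¹ = m := hnc a 0 ha
        have e1 : n a * u * (n a)⁻¹ = u * t := by
          calc n a * u * (n a)⁻¹ = (n a * m * (n a)⁻¹) * (n a * s * (n a)⁻¹) * (n a * m * (n a)⁻¹)⁻¹ := by
                rw [hu]; group
            _ = u * t := by rw [hnm, hns', hmst]
        have e2 : n a * v * (n a)⁻¹ = v * t := by
          calc n a * v * (n a)⁻¹ = (n a * m * (n a)⁻¹) * (n a * u * (n a)⁻¹) * (n a * m * (n a)⁻¹)⁻¹ := by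
                rw [hv]; group
            _ = v * t := by rw [hnm, e1, hmut]
        rw [e, hns', e1, e2, hpr]
        calc s * t * (u * t) * (v * t) = s * (t * u) * (t * v) * t := by group
          _ = s * u * (t * t) * v * t := by rw [htv u huQ]; group
          _ = s * u * v * t := by rw [htt]; group
    rw [hnpr] at h3
    exact L.H.data.z_ne (left_eq_mul.mp h3)
  -- elements of Q normalised by all
  have hz : ∀ z ∈ L.H.Q, (∀ b, z * c b = c b * z) → z = 1 ∨ z = t := fun z hzQ hzc => by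
    refine Lk.fpf hs (hct 0) (hcρ 0) hzQ (Or.inl ?_)
    rw [← hzc 0, mul_inv_cancel_right]
  have hnn : ∀ a a', ∀ b, ⁅n a, n a'⁆ * c b = c b * ⁅n a, n a'⁆ := by
    intro a a' b
    have act : ∀ a b, n a * c b * (n a)⁻¹ = if a = b then c b * c b else c b := fun a b => by
      split_ifs with h
      · subst h; exact hncc a
      · exact hnc a b h
    have act' : ∀ a b, (n a)⁻¹ * c b * n a = if a = b then c b * c b else c b := fun a b => by
      split_ifs with h
      · subst h
        calc (n a)⁻¹ * c a * n a = (n a)⁻¹ * ((c a * c a) * (c a * c a)) * n a := by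
              rw [show (c a * c a) * (c a * c a) = c a * c a * c a * c a by group, hccc, one_mul]
          _ = (n a)⁻¹ * ((n a * c a * (n a)⁻¹) * (n a * c a * (n a)⁻¹)) * n a := by rw [hncc]
          _ = _ := by group
      · calc (n a)⁻¹ * c b * n a = (n a)⁻¹ * (n a * c b * (n a)⁻¹) * n a := by rw [hnc a b h]
          _ = _ := by group
    have e : ⁅n a, n a'⁆⁻¹ * c b * ⁅n a, n a'⁆ = c b := by
      have h2 : ∀ a b, n a * (c b * c b) * (n a)⁻¹ = if a = b then c b else c b * c b := fun a b => by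
        rw [show n a * (c b * c b) * (n a)⁻¹ = (n a * c b * (n a)⁻¹) * (n a * c b * (n a)⁻¹) by group, act]
        split_ifs with h
        · rw [show (c b * c b) * (c b * c b) = c b * c b * c b * c b by group, hccc, one_mul]
        · rfl
      have h2' : ∀ a b, (n a)⁻¹ * (c b * c b) * n a = if a = b then c b else c b * c b := fun a b => by
        rw [show (n a)⁻¹ * (c b * c b) * n a = ((n a)⁻¹ * c b * n a) * ((n a)⁻¹ * c b * n a) by group, act']
        split_ifs with h
        · rw [show (c b * c b) * (c b * c b) = c b * c b * c b * c b by group, hccc, one_mul]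
        · rfl
      calc ⁅n a, n a'⁆⁻¹ * c b * ⁅n a, n a'⁆
          = n a' * (n a * ((n a')⁻¹ * ((n a)⁻¹ * c b * n a) * n a') * (n a)⁻¹) * (n a')⁻¹ := by
            rw [commutatorElement_def]; group
        _ = c b := by
            rw [act']
            by_cases h1 : a = b <;> by_cases h2b : a' = b <;> simp only [h1, h2b, if_true, if_false]
            · rw [h2', if_pos rfl, act, if_pos rfl, h2, if_pos rfl]
            · rw [h2', if_neg h2b, h2, if_pos rfl, act, if_neg h2b]
            · rw [act', if_pos rfl, h2, if_neg h1, h2, if_pos rfl]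
            · rw [act', if_neg h2b, act, if_neg h1, act, if_neg h2b]
    calc ⁅n a, n a'⁆ * c b = ⁅n a, n a'⁆ * (⁅n a, n a'⁆⁻¹ * c b * ⁅n a, n a'⁆) := by rw [e]
      _ = _ := by group
  have hsqc : ∀ a b, (n a * n a) * c b = c b * (n a * n a) := by
    intro a b
    refine mul_inv_eq_iff_eq_mul.mp ?_
    rcases eq_or_ne a b with rfl | h
    · calc n a * n a * c a * (n a * n a)⁻¹ = n a * (n a * c a * (n a)⁻¹) * (n a)⁻¹ := by group
        _ = n a * (c a * c a) * (n a)⁻¹ := by rw [hncc a]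
        _ = (n a * c a * (n a)⁻¹) * (n a * c a * (n a)⁻¹) := by group
        _ = c a * c a * (c a * c a) := by rw [hncc]
        _ = _ := by rw [show c a * c a * (c a * c a) = c a * c a * c a * c a by group, hccc, one_mul]
    · calc n a * n a * c b * (n a * n a)⁻¹ = n a * (n a * c b * (n a)⁻¹) * (n a)⁻¹ := by group
        _ = c b := by rw [hnc a b h, hnc a b h]
  have hQ2 : ∀ g, g * t = t * g → L.H.ρ g = 1 → g ∈ L.H.Q := fun g hg h => (L.H.ker g hg).mp h
  have hnnV : ∀ a a', ⁅n a, n a'⁆ = 1 ∨ ⁅n a, n a'⁆ = t := fun a a' => by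
    have hc' : ⁅n a, n a'⁆ * t = t * ⁅n a, n a'⁆ :=
      (Commute.mul_left (Commute.mul_left (Commute.mul_left (hnt a) (hnt a')) (Commute.inv_left (hnt a)))
        (Commute.inv_left (hnt a'))).eq
    refine hz _ (hQ2 _ hc' ?_) (hnn a a')
    rw [commutatorElement_def, L.H.mul _ _ (Commute.mul_left (Commute.mul_left (hnt a) (hnt a'))
      (Commute.inv_left (hnt a))).eq (Commute.inv_left (hnt a')).eq, L.H.ρ_conj (hnt a) (hnt a'),
      L.H.ρ_inv (hnt a'), hnρ, hnρ, (Tbar_comm (sb_mem a) (sb_mem a')).1, mul_inv_cancel_right, mul_inv_cancel]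
  have hnsV : ∀ a, n a * n a = 1 ∨ n a * n a = t := fun a => by
    refine hz _ (hQ2 _ (Commute.mul_left (hnt a) (hnt a)).eq ?_) (hsqc a)
    rw [L.H.mul _ _ (hnt a) (hnt a), hnρ, (Tbar_comm (sb_mem a) (sb_mem a)).2]
  choose α hα β hβ hn hβρ using fun a => Lk.decomp hs (hnt a) (hns a)
  have hbitβ : ∀ a, Lk.bit (L.H.ρ (β a)) = Pi.single a 1 := fun a => by
    rw [hβρ, hnρ]; exact funext (Lk.bit_sb a)
  have htV : ∀ {x : G}, x = 1 ∨ x = t → Lk.lam hs x = 0 := fun {x} hx => by
    rcases hx with rfl | rfl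
    exacts [Lk.lam_one hs, Lk.lam_V hs (by tauto)]
  have hsq : ∀ a, Lk.cross (Lk.mu hs (α a)) (Pi.single a 1) = 0 := fun a => by
    have := (Lk.lam_sq hs (hα a) (hβ a)).2
    rw [← hn, htV (hnsV a), hbitβ] at this
    exact this.symm
  have hxy : ∀ a a', Lk.cross (Lk.mu hs (α a')) (Pi.single a 1) + Lk.cross (Lk.mu hs (α a)) (Pi.single a' 1) = 0 :=
    fun a a' => by
      have := (Lk.lam_comm hs (hα a) (hβ a) (hα a') (hβ a')).2
      rw [← hn, ← hn, htV (hnnV a a'), hbitβ, hbitβ] at this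
      exact this.symm
  obtain ⟨κ, hκ⟩ : ∃ κ : ZMod 2, ∀ a, Lk.mu hs (α a) = Pi.single a κ := by
    have eq2 : ∀ x y : ZMod 2, x + y = 0 → x = y := by decide
    have a00 := hsq 0
    have a11 := hsq 1
    have a22 := hsq 2
    have a01 := congrFun (hxy 0 1) 2
    have a02 := congrFun (hxy 0 2) 1
    simp [Lk.cross] at a00 a11 a22 a01 a02
    refine ⟨Lk.mu hs (α 0) 0, fun a => funext fun i => ?_⟩
    fin_cases a <;> fin_cases i <;> simp
    all_goals first
      | exact a00.1
      | exact a00.2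
      | exact a11.1
      | exact a11.2
      | exact a22.1
      | exact a22.2
      | exact eq2 _ _ (by linear_combination a01)
      | exact eq2 _ _ (by linear_combination a02)
  -- the complement inside C_P(t)
  obtain ⟨n', c', hct', hccc', hcc', hcρ', hnρ', hnc', hncc', hnB, hnn', hnsq'⟩ :
      ∃ n' c' : Fin 3 → G, (∀ a, c' a * t = t * c' a) ∧ (∀ a, c' a * c' a * c' a = 1) ∧
      (∀ a b, c' a * c' b = c' b * c' a) ∧ (∀ a, L.H.ρ (c' a) = gm a) ∧ (∀ a, L.H.ρ (n' a) = sb a) ∧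
      (∀ a b, a ≠ b → n' a * c' b * (n' a)⁻¹ = c' b) ∧ (∀ a, n' a * c' a * (n' a)⁻¹ = c' a * c' a) ∧
      (∀ a, n' a ∈ L.BB) ∧ (∀ a b, ⁅n' a, n' b⁆ = 1 ∨ ⁅n' a, n' b⁆ = t) ∧
      (∀ a, n' a * n' a = 1 ∨ n' a * n' a = t) := by
    have two : ∀ x : ZMod 2, x = 0 ∨ x = 1 := by decide
    rcases two κ with rfl | rfl
    · refine ⟨n, c, hct, hccc, hcc, hcρ, hnρ, hnc, hncc, fun a => ?_, hnnV, hnsV⟩
      rw [hn a]
      exact mul_mem (L.E_le_B (Lk.mu_ker hs (hα a) (by rw [hκ, Pi.single_zero]))) (hβ a)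
    · obtain ⟨q, hq, hqs⟩ := L.H.data.exists_conj_eq L.cfg.s_mem L.cfg.dP.z_ne L.cfg.ne
      have hqt := L.H.ct hq
      rw [← htdef] at hqt hqs
      have hρc : ∀ x, x * t = t * x → L.H.ρ (q * x * q⁻¹) = L.H.ρ x := fun x hx => by
        rw [L.H.ρ_conj hqt hx, L.H.ρ_Q hq]; group
      have hqtt : q * t * q⁻¹ = t := by rw [hqt, mul_inv_cancel_right]
      refine ⟨fun a => q * n a * q⁻¹, fun a => q * c a * q⁻¹,
        fun a => (Commute.mul_left (Commute.mul_left hqt (hct a)) (Commute.inv_left hqt)).eq,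
        fun a => ?_, fun a b => ?_, fun a => ?_, fun a => ?_, fun a b h => ?_, fun a => ?_, fun a => ?_,
        fun a b => ?_, fun a => ?_⟩
      · rw [show q * c a * q⁻¹ * (q * c a * q⁻¹) * (q * c a * q⁻¹) = q * (c a * c a * c a) * q⁻¹ by group, hccc]
        group
      · rw [show q * c a * q⁻¹ * (q * c b * q⁻¹) = q * (c a * c b) * q⁻¹ by group, hcc]; group
      · show L.H.ρ (q * c a * q⁻¹) = _
        rw [hρc _ (hct a), hcρ]
      · show L.H.ρ (q * n a * q⁻¹) = _
        rw [hρc _ (hnt a), hnρ]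
      · rw [show q * n a * q⁻¹ * (q * c b * q⁻¹) * (q * n a * q⁻¹)⁻¹ = q * (n a * c b * (n a)⁻¹) * q⁻¹ by group,
          hnc a b h]
      · rw [show q * n a * q⁻¹ * (q * c a * q⁻¹) * (q * n a * q⁻¹)⁻¹ = q * (n a * c a * (n a)⁻¹) * q⁻¹ by group,
          hncc a]
        group
      · show q * n a * q⁻¹ ∈ L.BB
        have hb := hβ a
        have hA := hα a
        set X := q * β a * q⁻¹ * (β a)⁻¹ with hX
        have hqβ : q * β a * q⁻¹ * L.s = L.s * (q * β a * q⁻¹) := by
          have hst : q⁻¹ * L.s * q = L.s * t := by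
            have : q⁻¹ * (L.s * t) * q = L.s := by rw [← hqs]; group
            calc q⁻¹ * L.s * q = q⁻¹ * L.s * q * (t * t) := by rw [htt, mul_one]
              _ = q⁻¹ * L.s * (q * t) * t := by group
              _ = q⁻¹ * (L.s * t) * q * t := by rw [hqt]; group
              _ = L.s * t := by rw [this]
          calc q * β a * q⁻¹ * L.s = q * (β a * (q⁻¹ * L.s * q)) * q⁻¹ := by group
            _ = q * ((q⁻¹ * L.s * q) * β a) * q⁻¹ := by
              rw [hst, (Commute.mul_right (L.BB_s hb) (L.BB_t hb)).eq]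
            _ = _ := by group
        have hXQ : X ∈ L.H.Q := by
          have := L.H.data.norm (β a) (L.BB_t hb) _ (inv_mem hq)
          rw [hX, show q * β a * q⁻¹ * (β a)⁻¹ = q * (β a * q⁻¹ * (β a)⁻¹) by group]
          exact mul_mem hq this
        have hXA : X ∈ L.AA := Cfg.mem_A.mpr ⟨hXQ, (Commute.mul_left hqβ (Commute.inv_left (L.BB_s hb))).eq⟩
        have hdec : q * n a * q⁻¹ = (q * α a * q⁻¹ * X) * β a := by rw [hn a, hX]; group
        have hqαA : q * α a * q⁻¹ ∈ L.AA ∧ Lk.mu hs (q * α a * q⁻¹) = Lk.mu hs (α a) := by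
          have e : q * α a * q⁻¹ = ⁅q, α a⁆ * α a := by rw [commutatorElement_def]; group
          rcases L.H.data.comm q hq _ (Cfg.mem_A.mp hA).1 with h | h <;> rw [e, h]
          · rw [one_mul]; exact ⟨hA, rfl⟩
          · exact ⟨mul_mem (L.E_le_A L.cfg.z_mem_E) hA, by
              rw [Lk.mu_mul hs (L.E_le_A L.cfg.z_mem_E) hA, Lk.mu_E hs L.cfg.z_mem_E, zero_add]⟩
        have hmuX : Lk.mu hs X = Pi.single a 1 := by
          rw [← hbitβ a]
          funext i
          set e := Lk.ee hs i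
          have he := Lk.ee_mem hs i
          show ind ⁅e, X⁆ = Lk.bit (L.H.ρ (β a)) i
          rw [← Lk.nu_eq hs hb i]
          have hee : e * e = 1 := L.cfg.E_sq he
          have hXe : ∀ r, X * e * X⁻¹ = r → ⁅e, X⁆ = e * r⁻¹ := fun r h => by
            rw [← h, commutatorElement_def]; group
          have hβt : ∀ w, w = 1 ∨ w = t → β a * (e * w) * (β a)⁻¹ = β a * e * (β a)⁻¹ * w := fun w hw => by
            have hbw : β a * w * (β a)⁻¹ = w := by
              rcases hw with rfl | rfl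
              · group
              · rw [htdef, L.BB_t hb, mul_inv_cancel_right]
            rw [show β a * (e * w) * (β a)⁻¹ = β a * e * (β a)⁻¹ * (β a * w * (β a)⁻¹) by group, hbw]
          obtain ⟨w, hw, hqe⟩ : ∃ w, (w = 1 ∨ w = t) ∧ q⁻¹ * e * q = e * w := by
            have e1 : q⁻¹ * e * q = e * ⁅e⁻¹, q⁻¹⁆ := by rw [commutatorElement_def]; group
            exact ⟨_, L.H.data.comm _ (inv_mem he.1) _ (inv_mem hq), e1⟩
          have hww : w * w = 1 := by rcases hw with rfl | rfl; exacts [one_mul 1, htt]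
          have hqw : q * w * q⁻¹ = w := by rcases hw with rfl | rfl; exacts [by group, hqtt]
          have hqeq : q * e * q⁻¹ = e * w := by
            have : e = q * e * q⁻¹ * w := by
              conv_lhs => rw [show e = q * (q⁻¹ * e * q) * q⁻¹ by group, hqe]
              rw [show q * (e * w) * q⁻¹ = q * e * q⁻¹ * (q * w * q⁻¹) by group, hqw]
            conv_rhs => rw [this, mul_assoc, hww, mul_one]
          rcases L.comm_E_B he hb with h | h
          · have hbe : β a * e * (β a)⁻¹ = e := by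
              rw [← commutatorElement_eq_one_iff_mul_comm.mp h, mul_inv_cancel_right]
            have hbe' : (β a)⁻¹ * e * β a = e := by
              rw [mul_assoc, commutatorElement_eq_one_iff_mul_comm.mp h, inv_mul_cancel_left]
            have h1 : X * e * X⁻¹ = e := by
              calc X * e * X⁻¹ = q * (β a * (q⁻¹ * ((β a)⁻¹ * e * β a) * q) * (β a)⁻¹) * q⁻¹ := by rw [hX]; group
                _ = q * (e * w) * q⁻¹ := by rw [hbe', hqe, hβt w hw, hbe]
                _ = q * e * q⁻¹ * (q * w * q⁻¹) := by group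
                _ = e := by rw [hqw, hqeq, mul_assoc, hww, mul_one]
            rw [hXe _ h1, h, mul_inv_cancel, ind_one]
          · have hbe : β a * e * (β a)⁻¹ = L.s * e := by
              have : ⁅β a, e⁆ = L.s := by
                rw [← commutatorElement_inv, h, inv_eq_of_mul_eq_one_right hss]
              rw [← this, commutatorElement_def]; group
            have hbs : β a * L.s * (β a)⁻¹ = L.s := by rw [L.BB_s hb, mul_inv_cancel_right]
            have hbe' : (β a)⁻¹ * e * β a = L.s * e := by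
              calc (β a)⁻¹ * e * β a = (β a)⁻¹ * ((L.s * L.s) * e) * β a := by rw [hss, one_mul]
                _ = (β a)⁻¹ * (β a * L.s * (β a)⁻¹ * (β a * e * (β a)⁻¹)) * β a := by
                    rw [hbs, hbe]; group
                _ = _ := by group
            have hqs' : q⁻¹ * L.s * q = L.s * t := by
              calc q⁻¹ * L.s * q = q⁻¹ * (L.s * t) * t * q := by rw [mul_assoc q⁻¹ (L.s * t), mul_assoc L.s, htt, mul_one]
                _ = q⁻¹ * (q * L.s * q⁻¹) * (t * q) := by rw [hqs]; group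
                _ = L.s * q⁻¹ * (q * t) := by rw [← hqt]; group
                _ = _ := by group
            have hqse : q⁻¹ * (L.s * e) * q = L.s * t * (e * w) := by
              rw [← hqs', ← hqe]; group
            have hbst : β a * (L.s * t) * (β a)⁻¹ = L.s * t := by
              rw [show β a * (L.s * t) * (β a)⁻¹ = β a * L.s * (β a)⁻¹ * (β a * t * (β a)⁻¹) by group, hbs, htdef,
                L.BB_t hb, mul_inv_cancel_right]
            have h1 : X * e * X⁻¹ = e * t := by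
              calc X * e * X⁻¹ = q * (β a * (q⁻¹ * ((β a)⁻¹ * e * β a) * q) * (β a)⁻¹) * q⁻¹ := by rw [hX]; group
                _ = q * (β a * (L.s * t * (e * w)) * (β a)⁻¹) * q⁻¹ := by rw [hbe', hqse]
                _ = q * (L.s * t * (L.s * e * w)) * q⁻¹ := by
                    rw [show β a * (L.s * t * (e * w)) * (β a)⁻¹ =
                      β a * (L.s * t) * (β a)⁻¹ * (β a * (e * w) * (β a)⁻¹) by group, hbst, hβt w hw, hbe]
                _ = q * (t * (e * w)) * q⁻¹ := by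
                    congr 2
                    calc L.s * t * (L.s * e * w) = L.s * (t * L.s) * (e * w) := by group
                      _ = L.s * L.s * t * (e * w) := by rw [htdef, L.ts]; group
                      _ = t * (e * w) := by rw [hss, one_mul]
                _ = (q * t * q⁻¹) * (q * e * q⁻¹) * (q * w * q⁻¹) := by group
                _ = e * t := by
                    rw [hqtt, hqw, hqeq, mul_assoc, mul_assoc e, hww, mul_one, htdef, L.H.ct he.1]
            rw [hXe _ h1, mul_inv_rev, inv_eq_of_mul_eq_one_right htt,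
              inv_eq_of_mul_eq_one_right hee, ← mul_assoc, htdef, L.H.ct he.1, mul_assoc, hee, mul_one, h,
              ind_of_ne L.H.data.z_ne, ind_of_ne L.cfg.dP.z_ne]
        rw [hdec]
        refine mul_mem (L.E_le_B (Lk.mu_ker hs (mul_mem hqαA.1 hXA) ?_)) hb
        rw [Lk.mu_mul hs hqαA.1 hXA, hqαA.2, hκ, hmuX, ZModModule.add_self]
      · have e : ⁅q * n a * q⁻¹, q * n b * q⁻¹⁆ = q * ⁅n a, n b⁆ * q⁻¹ := (conjugate_commutatorElement _ _ _).symm
        rcases hnnV a b with h | h <;> rw [e, h]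
        · left; group
        · exact Or.inr hqtt
      · have e : q * n a * q⁻¹ * (q * n a * q⁻¹) = q * (n a * n a) * q⁻¹ := by group
        rcases hnsV a with h | h <;> rw [e, h]
        · left; group
        · exact Or.inr hqtt
  refine ⟨⟨L, hs, hnat, n', c', hnB, fun a => ?_, fun a b => ?_, hct', hccc', hcc', fun a b h => ?_, fun a => ?_,
    hnρ', hcρ'⟩, htH, hQH⟩
  · rcases hnsq' a with h | h
    · exact h
    · rcases L.cfg.dP.sq (Cfg.mem_A.mp (hnB a)).1 with h' | h'
      · exact h'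
      · exact absurd (h'.symm.trans h) L.cfg.ne
  · rw [← commutatorElement_eq_one_iff_mul_comm]
    rcases hnn' a b with h | h
    · exact h
    · rcases L.cfg.dP.comm _ (Cfg.mem_A.mp (hnB a)).1 _ (Cfg.mem_A.mp (hnB b)).1 with h' | h'
      · exact h'
      · exact absurd (h'.symm.trans h) L.cfg.ne
  · exact mul_inv_eq_iff_eq_mul.mp (hnc' a b h)
  · have hsq1 : n' a * n' a = 1 := by
      rcases hnsq' a with h | h
      · exact h
      · rcases L.cfg.dP.sq (Cfg.mem_A.mp (hnB a)).1 with h' | h'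
        · exact h'
        · exact absurd (h'.symm.trans h) L.cfg.ne
    have := hncc' a
    rwa [inv_eq_of_mul_eq_one_right hsq1] at this

end Cfsg.Agent.OmegaEight
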