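import Cfsg.Agent.Lib.OmegaEight.Outer

/-
A linked pair `t`, `s`: the group `E = Q ∩ P` of order 32, coordinates on `A/E`, `B/E`, `E/V`, and the
commutator map `A/E × B/E → E/V`, which is a multiple of the cross product (`Lk.gam_eq_smul`).
-/

set_option autoImplicit false

namespace Cfsg.Agent.OmegaEight

open Cfsg.Agent.LargeExtraspecial
open scoped commutatorElement

variable {G : Type*} [Group G]

/-- The parity of an element of a group of order two. -/
noncomputable def ind (x : G) : ZMod 2 := by classical exact if x = 1 then 0 else 1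

theorem ind_one : ind (1 : G) = 0 := if_pos rfl

theorem ind_of_ne {x : G} (h : x ≠ 1) : ind x = 1 := if_neg h

theorem ind_eq_zero {x : G} : ind x = 0 ↔ x = 1 := by
  refine ⟨fun h => ?_, fun h => h ▸ ind_one⟩
  by_contra hx
  rw [ind_of_ne hx] at h
  exact one_ne_zero h

theorem ind_mul {z x y : G} (hz : z * z = 1) (hx : x = 1 ∨ x = z) (hy : y = 1 ∨ y = z) :
    ind (x * y) = ind x + ind y := by
  rcases hx with rfl | rfl
  · rw [one_mul, ind_one, zero_add]
  rcases hy with rfl | rfl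
  · rw [mul_one, ind_one, add_zero]
  · rw [hz, ind_one, ZModModule.add_self]

theorem ind_inv {z x : G} (hz : z * z = 1) (hx : x = 1 ∨ x = z) : x⁻¹ = x := by
  rcases hx with rfl | rfl
  exacts [inv_one, inv_eq_of_mul_eq_one_right hz]

/-- The centraliser in `Q` of a non-central element has index two. -/
theorem card_A [Finite G] {Q : Subgroup G} {z s : G} (D : Data Q z) (hs : s ∈ Q) (hs1 : s ≠ 1) (hsz : s ≠ z) :
    2 * Nat.card (Cfg.A Q s) = Nat.card Q := by
  obtain ⟨q, hq, hqs⟩ := D.exists_conj_eq hs hs1 hsz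
  let f : Bool × Cfg.A Q s → Q := fun p =>
    ⟨(if p.1 then q else 1) * p.2, mul_mem (by split_ifs; exacts [hq, one_mem _]) p.2.2.1⟩
  have hqA : q ∉ Cfg.A Q s := fun h => by
    rw [(Cfg.mem_A.mp h).2, mul_inv_cancel_right] at hqs
    exact D.z_ne (mul_eq_left.mp hqs.symm)
  have hf : Function.Bijective f := by
    constructor
    · rintro ⟨i, a⟩ ⟨j, b⟩ h
      have h' : (if i then q else 1) * (a : G) = (if j then q else 1) * b := congrArg Subtype.val h
      cases i <;> cases j <;> simp only [Bool.false_eq_true, if_false, if_true, one_mul] at h'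
      · rw [Subtype.ext h']
      · exact absurd ((mul_inv_eq_iff_eq_mul.mpr h') ▸ mul_mem a.2 (inv_mem b.2)) hqA
      · exact absurd ((mul_inv_eq_iff_eq_mul.mpr h'.symm) ▸ mul_mem b.2 (inv_mem a.2)) hqA
      · rw [Subtype.ext (mul_left_cancel h')]
    · intro ⟨x, hx⟩
      rcases D.comm x hx s hs with h | h
      · exact ⟨(false, ⟨x, Cfg.mem_A.mpr ⟨hx, commutatorElement_eq_one_iff_mul_comm.mp h⟩⟩),
          Subtype.ext (by simp [f])⟩
      · refine ⟨(true, ⟨q⁻¹ * x, Cfg.mem_A.mpr ⟨mul_mem (inv_mem hq) hx, ?_⟩⟩), Subtype.ext (by simp [f])⟩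
        have hxs : x * s * x⁻¹ = s * z := by
          calc x * s * x⁻¹ = ⁅x, s⁆ * s := by rw [commutatorElement_def]; group
            _ = s * z := by rw [h, D.z_central s hs]
        calc q⁻¹ * x * s = q⁻¹ * (x * s * x⁻¹) * x := by group
          _ = q⁻¹ * (q * s * q⁻¹) * x := by rw [hxs, hqs]
          _ = s * (q⁻¹ * x) := by group
  rw [← Nat.card_eq_of_bijective f hf, Nat.card_prod, Nat.card_eq_fintype_card (α := Bool), Fintype.card_bool]

/-- A linked pair. -/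
structure Lk (G : Type*) [Group G] where
  H : Hyp G
  P : Subgroup G
  s : G
  cfg : Cfg H.Q P H.t s
  exP : Cfsg.IsExtraspecial 2 ↥P
  cardP : Nat.card P = 512

namespace Lk

variable (L : Lk G)

/-- `C_Q(s)`. -/
abbrev AA : Subgroup G := Cfg.A L.H.Q L.s
/-- `C_P(t)`. -/
abbrev BB : Subgroup G := Cfg.A L.P L.H.t
/-- `Q ∩ P`. -/
abbrev EE : Subgroup G := L.H.Q ⊓ L.P

theorem ts : L.H.t * L.s = L.s * L.H.t := L.cfg.zs

theorem BB_t {b : G} (hb : b ∈ L.BB) : b * L.H.t = L.H.t * b := (Cfg.mem_A.mp hb).2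

theorem BB_s {b : G} (hb : b ∈ L.BB) : b * L.s = L.s * b := L.cfg.dP.z_central b (Cfg.mem_A.mp hb).1

theorem E_le_B : L.EE ≤ L.BB := fun x hx => Cfg.mem_A.mpr ⟨hx.2, L.cfg.dQ.z_central x hx.1⟩

theorem E_le_A : L.EE ≤ L.AA := L.cfg.E_le_A

theorem mem_E_of_B {b : G} (hb : b ∈ L.BB) (hQ : b ∈ L.H.Q) : b ∈ L.EE := ⟨hQ, (Cfg.mem_A.mp hb).1⟩

theorem E_comm {x y : G} (hx : x ∈ L.EE) (hy : y ∈ L.EE) : x * y = y * x := by
  have := L.cfg.E_elementary.1.1.1 ⟨x, hx⟩ ⟨y, hy⟩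
  exact congrArg Subtype.val this

theorem comm_E_A {e a : G} (he : e ∈ L.EE) (ha : a ∈ L.AA) : ⁅e, a⁆ = 1 ∨ ⁅e, a⁆ = L.H.t :=
  L.H.data.comm e he.1 a (Cfg.mem_A.mp ha).1

theorem comm_E_B {e b : G} (he : e ∈ L.EE) (hb : b ∈ L.BB) : ⁅e, b⁆ = 1 ∨ ⁅e, b⁆ = L.s :=
  L.cfg.dP.comm e he.2 b (Cfg.mem_A.mp hb).1

theorem V_comm_A {v a : G} (hv : v = 1 ∨ v = L.H.t ∨ v = L.s ∨ v = L.s * L.H.t) (ha : a ∈ L.AA) :
    v * a = a * v := by
  have h1 : L.H.t * a = a * L.H.t := (L.cfg.A_comm_z ha).symm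
  have h2 : L.s * a = a * L.s := (Cfg.mem_A.mp ha).2.symm
  rcases hv with rfl | rfl | rfl | rfl
  exacts [by simp, h1, h2, (Commute.mul_left h2 h1).eq]

theorem V_comm_B {v b : G} (hv : v = 1 ∨ v = L.H.t ∨ v = L.s ∨ v = L.s * L.H.t) (hb : b ∈ L.BB) :
    v * b = b * v := by
  have h1 : L.H.t * b = b * L.H.t := (L.BB_t hb).symm
  have h2 : L.s * b = b * L.s := (L.BB_s hb).symm
  rcases hv with rfl | rfl | rfl | rfl
  exacts [by simp, h1, h2, (Commute.mul_left h2 h1).eq]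

theorem V_mem_E {v : G} (hv : v = 1 ∨ v = L.H.t ∨ v = L.s ∨ v = L.s * L.H.t) : v ∈ L.EE := by
  rcases hv with rfl | rfl | rfl | rfl
  exacts [one_mem _, L.cfg.z_mem_E, L.cfg.s_mem_E, mul_mem L.cfg.s_mem_E L.cfg.z_mem_E]

theorem card_AA [Finite G] : Nat.card L.AA = 256 := by
  have h := card_A L.H.data L.cfg.s_mem L.cfg.dP.z_ne L.cfg.ne
  rw [L.H.card] at h
  show Nat.card (Cfg.A L.H.Q L.s) = 256
  omega

theorem card_BB [Finite G] : Nat.card L.BB = 256 := by
  have h := card_A L.cfg.dP L.cfg.z_mem L.H.data.z_ne L.cfg.ne.symm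
  rw [L.cardP] at h
  show Nat.card (Cfg.A L.P L.H.t) = 256
  omega

/-- `ρ` on `C_P(t)`. -/
def φB : L.BB →* S33 where
  toFun b := L.H.ρ b
  map_one' := L.H.ρ_one
  map_mul' a b := L.H.mul _ _ (L.BB_t a.2) (L.BB_t b.2)

theorem φB_ker : L.φB.ker = L.EE.subgroupOf L.BB := by
  ext b
  rw [MonoidHom.mem_ker, Subgroup.mem_subgroupOf]
  exact ⟨fun h => L.mem_E_of_B b.2 ((L.H.ker _ (L.BB_t b.2)).mp h), fun h => L.H.ρ_Q h.1⟩

theorem card_E_range [Finite G] : Nat.card L.EE = 32 ∧ Nat.card L.φB.range = 8 := by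
  haveI : Fact (Nat.Prime 2) := ⟨Nat.prime_two⟩
  have hp : IsPGroup 2 L.φB.range :=
    ((isPGroup_of_extraspecial L.exP).to_le (inf_le_left : L.BB ≤ L.P)).of_surjective L.φB.rangeRestrict
      L.φB.rangeRestrict_surjective
  have h8 : Nat.card L.φB.range ≤ 8 := by
    obtain ⟨n, hn⟩ := hp.exists_card_eq
    have hd := Subgroup.card_subgroup_dvd_card L.φB.range
    rw [hn, card_S33] at hd
    have : n ≤ 3 := by
      by_contra h
      have h16 : 2 ^ 4 ∣ 216 := (pow_dvd_pow 2 (by omega)).trans hd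
      norm_num at h16
    rw [hn]
    calc 2 ^ n ≤ 2 ^ 3 := Nat.pow_le_pow_right (by norm_num) this
      _ = 8 := by norm_num
  have hE : Nat.card L.EE ≤ 32 := L.H.card_le_of_comm inf_le_left fun a ha b hb => L.E_comm ha hb
  have h2 := Subgroup.card_eq_card_quotient_mul_card_subgroup L.φB.ker
  rw [← Subgroup.index_eq_card, Subgroup.index_ker, L.φB_ker,
    Nat.card_congr (Subgroup.subgroupOfEquivOfLe L.E_le_B).toEquiv, L.card_BB] at h2
  generalize Nat.card L.φB.range = r at h2 h8 ⊢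
  generalize Nat.card L.EE = e at h2 hE ⊢
  have := Nat.mul_le_mul h8 hE
  constructor <;> nlinarith

/-- An element of `Q` centralising `E` lies in `E`. -/
theorem cent_E [Finite G] {x : G} (hx : x ∈ L.H.Q) (h : ∀ e ∈ L.EE, x * e = e * x) : x ∈ L.EE := by
  have hle : Nat.card (L.EE ⊔ Subgroup.zpowers x : Subgroup G) ≤ 32 := by
    refine L.H.card_le_of_comm (sup_le inf_le_left (Subgroup.zpowers_le.mpr hx)) ?_
    rw [show L.EE ⊔ Subgroup.zpowers x = Subgroup.closure ((L.EE : Set G) ∪ {x}) by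
      rw [Subgroup.closure_union, Subgroup.closure_eq, Subgroup.zpowers_eq_closure]]
    intro a ha b hb
    induction ha, hb using Subgroup.closure_induction₂ with
    | mem a b ha hb =>
      rcases ha with ha | ha <;> rcases hb with hb | hb
      · exact L.E_comm ha hb
      · rw [Set.mem_singleton_iff.mp hb]; exact (h a ha).symm
      · rw [Set.mem_singleton_iff.mp ha]; exact h b hb
      · rw [Set.mem_singleton_iff.mp ha, Set.mem_singleton_iff.mp hb]
    | one_left => simp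
    | one_right => simp
    | mul_left x y z _ _ _ h1 h2 => exact (Commute.mul_left h1 h2).eq
    | mul_right x y z _ _ _ h1 h2 => exact (Commute.mul_right h1 h2).eq
    | inv_left x y _ _ h => exact (Commute.inv_left h).eq
    | inv_right x y _ _ h => exact (Commute.inv_right h).eq
  have := Subgroup.eq_of_le_of_card_ge (le_sup_left : L.EE ≤ L.EE ⊔ Subgroup.zpowers x)
    (by rw [L.card_E_range.1]; exact hle)
  rw [this]
  exact Subgroup.mem_sup_right (Subgroup.mem_zpowers x)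

/-- The coordinates of `S₃³` are adapted to the pair. -/
def Std : Prop := L.φB.range = Tbar

theorem exists_std [Finite G] : ∃ w, (Lk.mk (L.H.twist w) L.P L.s L.cfg L.exP L.cardP).Std := by
  obtain ⟨w, hw⟩ := exists_conj_Tbar L.card_E_range.2
  refine ⟨w, ?_⟩
  show _ = Tbar
  rw [← hw, MonoidHom.map_range]
  rfl

end Lk

/-- A conjugate in `Q` gives a linked pair. -/
theorem exists_lk [Finite G] (H : Hyp G) {g : G} (hg : g * H.t * g⁻¹ ∈ H.Q) (hne : g * H.t * g⁻¹ ≠ H.t) :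
    ∃ L : Lk G, L.H = H ∧ L.s = g * H.t * g⁻¹ ∧ L.P = conjS g H.Q :=
  ⟨⟨H, conjS g H.Q, g * H.t * g⁻¹,
    Cfg.of_conj H.data hg hne (by rw [H.card]; norm_num), (H.conj g).extra, (H.conj g).card⟩, rfl, rfl, rfl⟩

namespace Lk

variable {L : Lk G}

/-- Coordinates of an element of `Tbar`. -/
def bit (r : S33) (a : Fin 3) : ZMod 2 := if r a = 1 then 0 else 1

theorem bit_mul {r r' : S33} (h : r ∈ Tbar) (h' : r' ∈ Tbar) (a : Fin 3) : bit (r * r') a = bit r a + bit r' a := by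
  rw [mem_Tbar] at h h'
  rcases h a with e | e <;> rcases h' a with e' | e' <;>
    simp [bit, e, e', γ₃_facts.2.1, γ₃_facts.2.2.2.2.1, ZModModule.add_self]

theorem bit_sb (a m : Fin 3) : bit (sb a) m = (Pi.single a (1 : ZMod 2) : Fin 3 → ZMod 2) m := by
  rcases eq_or_ne m a with rfl | h
  · simp [bit, sb, γ₃_facts.2.2.2.2.1]
  · simp [bit, sb, h]

theorem eq_of_bit {r r' : S33} (h : r ∈ Tbar) (h' : r' ∈ Tbar) (e : ∀ a, bit r a = bit r' a) : r = r' := by
  rw [mem_Tbar] at h h'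
  funext a
  have := e a
  rcases h a with h1 | h1 <;> rcases h' a with h2 | h2 <;>
    simp [bit, h1, h2, γ₃_facts.2.2.2.2.1] at this ⊢

theorem ρ_B (hs : L.Std) {b : G} (hb : b ∈ L.BB) : L.H.ρ b ∈ Tbar := hs ▸ ⟨⟨b, hb⟩, rfl⟩

theorem exists_B (hs : L.Std) {r : S33} (hr : r ∈ Tbar) : ∃ b ∈ L.BB, L.H.ρ b = r := by
  obtain ⟨b, hb⟩ := (hs ▸ hr : r ∈ L.φB.range)
  exact ⟨b, b.2, hb⟩

/-- Lifts of the generators. -/
noncomputable def bb (hs : L.Std) (a : Fin 3) : G := (exists_B hs (sb_mem a)).choose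

theorem bb_mem (hs : L.Std) (a : Fin 3) : bb hs a ∈ L.BB := (exists_B hs (sb_mem a)).choose_spec.1

theorem bb_ρ (hs : L.Std) (a : Fin 3) : L.H.ρ (bb hs a) = sb a := (exists_B hs (sb_mem a)).choose_spec.2

/-- The product of the `f m` with `l m ≠ 0`. -/
def comb (f : Fin 3 → G) (l : Fin 3 → ZMod 2) : G :=
  (if l 0 = 0 then 1 else f 0) * (if l 1 = 0 then 1 else f 1) * (if l 2 = 0 then 1 else f 2)

theorem comb_mem {S : Subgroup G} {f : Fin 3 → G} (h : ∀ m, f m ∈ S) (l : Fin 3 → ZMod 2) : comb f l ∈ S := by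
  unfold comb
  refine mul_mem (mul_mem ?_ ?_) ?_ <;> (split_ifs <;> first | exact one_mem _ | exact h _)

/-- An additive invariant of the `f m` extends to their products. -/
theorem comb_apply {W : Type*} [AddCommGroup W] {S : Subgroup G} {f : Fin 3 → G} (h : ∀ m, f m ∈ S) (F : G → W)
    (h1 : F 1 = 0) (hadd : ∀ x ∈ S, ∀ y ∈ S, F (x * y) = F x + F y) (l : Fin 3 → ZMod 2) :
    F (comb f l) = (if l 0 = 0 then 0 else F (f 0)) + (if l 1 = 0 then 0 else F (f 1)) +
      (if l 2 = 0 then 0 else F (f 2)) := by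
  have hm : ∀ m, (if l m = 0 then 1 else f m) ∈ S := fun m => by split_ifs; exacts [one_mem _, h m]
  have hF : ∀ m, F (if l m = 0 then 1 else f m) = if l m = 0 then 0 else F (f m) := fun m => by
    split_ifs; exacts [h1, rfl]
  rw [comb, hadd _ (mul_mem (hm 0) (hm 1)) _ (hm 2), hadd _ (hm 0) _ (hm 1), hF, hF, hF]

theorem single_sum (l : Fin 3 → ZMod 2) :
    (if l 0 = 0 then 0 else (Pi.single 0 1 : Fin 3 → ZMod 2)) + (if l 1 = 0 then 0 else Pi.single 1 1) +
      (if l 2 = 0 then 0 else Pi.single 2 1) = l := by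
  funext m
  have two : ∀ a : ZMod 2, a = 0 ∨ a = 1 := by decide
  rcases two (l 0) with h0 | h0 <;> rcases two (l 1) with h1 | h1 <;> rcases two (l 2) with h2 | h2 <;>
    fin_cases m <;> simp [h0, h1, h2]

theorem B_induction (hs : L.Std) {p : G → Prop} (hE : ∀ e ∈ L.EE, p e) (hb : ∀ a, p (bb hs a))
    (hmul : ∀ x ∈ L.BB, ∀ y ∈ L.BB, p x → p y → p (x * y)) {b : G} (h : b ∈ L.BB) : p b := by
  set c := comb (bb hs) (bit (L.H.ρ b)) with hc
  have hcB : c ∈ L.BB := comb_mem (bb_mem hs) _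
  have hcρ : L.H.ρ c = L.H.ρ b := by
    refine eq_of_bit (ρ_B hs hcB) (ρ_B hs h) fun a => ?_
    have := comb_apply (bb_mem hs) (fun x => bit (L.H.ρ x)) (by funext m; simp [bit, L.H.ρ_one])
      (fun x hx y hy => by funext m; rw [L.H.mul x y (L.BB_t hx) (L.BB_t hy)]; exact bit_mul (ρ_B hs hx) (ρ_B hs hy) m)
      (bit (L.H.ρ b))
    simp only [bb_ρ, funext (bit_sb _)] at this
    rw [single_sum] at this
    exact congrFun this a
  have he : c⁻¹ * b ∈ L.EE := L.mem_E_of_B (mul_mem (inv_mem hcB) h)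
    (L.H.mem_of_ρ_eq (L.BB_t hcB) (L.BB_t h) hcρ)
  have hpc : p c := by
    have hm : ∀ m, p (if bit (L.H.ρ b) m = 0 then 1 else bb hs m) ∧
        (if bit (L.H.ρ b) m = 0 then 1 else bb hs m) ∈ L.BB := fun m => by
      split_ifs
      exacts [⟨hE 1 (one_mem _), one_mem _⟩, ⟨hb m, bb_mem hs m⟩]
    exact hmul _ (mul_mem (hm 0).2 (hm 1).2) _ (hm 2).2 (hmul _ (hm 0).2 _ (hm 1).2 (hm 0).1 (hm 1).1) (hm 2).1
  have := hmul c hcB _ (L.E_le_B he) hpc (hE _ he)
  rwa [mul_inv_cancel_left] at this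

/-- Coordinates on `E`. -/
noncomputable def lam (hs : L.Std) (e : G) (a : Fin 3) : ZMod 2 := ind ⁅e, bb hs a⁆

theorem lam_mul (hs : L.Std) {e e' : G} (he : e ∈ L.EE) (he' : e' ∈ L.EE) :
    lam hs (e * e') = lam hs e + lam hs e' := by
  funext a
  show ind ⁅e * e', bb hs a⁆ = _
  rw [L.cfg.dP.comm_mul_left he.2 he'.2 (Cfg.mem_A.mp (bb_mem hs a)).1]
  exact ind_mul L.cfg.dP.z_sq (L.comm_E_B he (bb_mem hs a)) (L.comm_E_B he' (bb_mem hs a))

theorem lam_V (hs : L.Std) {v : G} (hv : v = 1 ∨ v = L.H.t ∨ v = L.s ∨ v = L.s * L.H.t) : lam hs v = 0 := by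
  funext a
  exact ind_eq_zero.mpr (commutatorElement_eq_one_iff_mul_comm.mpr (L.V_comm_B hv (bb_mem hs a)))

theorem lam_one (hs : L.Std) : lam hs 1 = 0 := lam_V hs (Or.inl rfl)

theorem lam_ker [Finite G] (hs : L.Std) {e : G} (he : e ∈ L.EE) (h : lam hs e = 0) :
    e = 1 ∨ e = L.H.t ∨ e = L.s ∨ e = L.s * L.H.t := by
  have hc : ∀ b ∈ L.BB, e * b = b * e := fun b hb => by
    refine B_induction hs (p := fun b => e * b = b * e) (fun f hf => L.E_comm he hf) (fun a => ?_) ?_ hb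
    · exact commutatorElement_eq_one_iff_mul_comm.mp (ind_eq_zero.mp (congrFun h a))
    · exact fun x _ y _ hx hy => (Commute.mul_right hx hy).eq
  have := L.cfg.symm.cent_AB (L.cfg.dP.z_central e he.2) hc
  rw [L.cfg.symm.mem_V] at this
  rcases this with h | h | h | h
  · exact Or.inl h
  · exact Or.inr (Or.inr (Or.inl h))
  · exact Or.inr (Or.inl h)
  · exact Or.inr (Or.inr (Or.inr (h.trans L.ts)))

theorem lam_surj [Finite G] (hs : L.Std) (l : Fin 3 → ZMod 2) : ∃ e ∈ L.EE, lam hs e = l := by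
  let φ : L.EE →* Multiplicative (Fin 3 → ZMod 2) :=
    { toFun := fun e => Multiplicative.ofAdd (lam hs (e : G))
      map_one' := by rw [Subgroup.coe_one, lam_one]; rfl
      map_mul' := fun a b => by rw [Subgroup.coe_mul, lam_mul hs a.2 b.2]; rfl }
  have hker : Nat.card φ.ker ≤ 4 := by
    classical
    set S : Finset G := {1, L.H.t, L.s, L.s * L.H.t} with hS
    have hmem : ∀ x : φ.ker, ((x : L.EE) : G) ∈ S := fun x => by
      have h0 : lam hs ((x : L.EE) : G) = 0 := congrArg Multiplicative.toAdd x.2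
      rcases lam_ker hs x.1.2 h0 with h | h | h | h <;> simp [hS, h]
    have hi : Function.Injective (fun x : φ.ker => (⟨_, hmem x⟩ : S)) := fun x y h => by
      simp only [Subtype.mk.injEq] at h
      exact Subtype.ext (Subtype.ext h)
    refine (Nat.card_le_card_of_injective _ hi).trans ?_
    rw [Nat.card_eq_fintype_card, Fintype.card_coe]
    exact Finset.card_le_four
  have h2 := Subgroup.card_eq_card_quotient_mul_card_subgroup φ.ker
  rw [← Subgroup.index_eq_card, Subgroup.index_ker, L.card_E_range.1] at h2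
  have htop : φ.range = ⊤ := by
    refine Subgroup.eq_top_of_le_card _ ?_
    rw [Nat.card_congr Multiplicative.toAdd, Nat.card_pi]
    simp only [Finset.prod_const, Finset.card_univ, Fintype.card_fin, Nat.card_zmod]
    norm_num only
    by_contra hlt
    have := Nat.mul_le_mul (Nat.le_of_lt_succ (Nat.lt_of_not_le hlt) : Nat.card φ.range ≤ 7) hker
    omega
  obtain ⟨e, he⟩ := (htop.symm ▸ Subgroup.mem_top (Multiplicative.ofAdd l) : Multiplicative.ofAdd l ∈ φ.range)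
  exact ⟨e, e.2, congrArg Multiplicative.toAdd he⟩

/-- The dual basis of `E`. -/
noncomputable def ee [Finite G] (hs : L.Std) (m : Fin 3) : G := (lam_surj hs (Pi.single m 1)).choose

theorem ee_mem [Finite G] (hs : L.Std) (m : Fin 3) : ee hs m ∈ L.EE :=
  (lam_surj hs (Pi.single m 1)).choose_spec.1

theorem ee_lam [Finite G] (hs : L.Std) (m : Fin 3) : lam hs (ee hs m) = Pi.single m 1 :=
  (lam_surj hs (Pi.single m 1)).choose_spec.2

theorem E_decomp [Finite G] (hs : L.Std) {e : G} (he : e ∈ L.EE) :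
    ∃ v, (v = 1 ∨ v = L.H.t ∨ v = L.s ∨ v = L.s * L.H.t) ∧ e = v * comb (ee hs) (lam hs e) := by
  have hc : comb (ee hs) (lam hs e) ∈ L.EE := comb_mem (ee_mem hs) _
  refine ⟨e * (comb (ee hs) (lam hs e))⁻¹, lam_ker hs (mul_mem he (inv_mem hc)) ?_, by group⟩
  have h1 : lam hs (comb (ee hs) (lam hs e)) = lam hs e := by
    rw [comb_apply (ee_mem hs) (lam hs) (lam_one hs) (fun x hx y hy => lam_mul hs hx hy), ee_lam, ee_lam, ee_lam,
      single_sum]
  have h2 := lam_mul hs (mul_mem he (inv_mem hc)) hc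
  rw [inv_mul_cancel_right, h1] at h2
  exact right_eq_add.mp h2

/-- Coordinates on `A`. -/
noncomputable def mu [Finite G] (hs : L.Std) (a : G) (m : Fin 3) : ZMod 2 := ind ⁅ee hs m, a⁆

theorem mu_mul [Finite G] (hs : L.Std) {a a' : G} (ha : a ∈ L.AA) (ha' : a' ∈ L.AA) :
    mu hs (a * a') = mu hs a + mu hs a' := by
  funext m
  have hm := ee_mem hs m
  have e : ⁅ee hs m, a * a'⁆ = ⁅ee hs m, a⁆ * ⁅ee hs m, a'⁆ := by
    have : ⁅ee hs m, a * a'⁆ = ⁅ee hs m, a⁆ * (a * ⁅ee hs m, a'⁆ * a⁻¹) := by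
      simp only [commutatorElement_def]; group
    rw [this]
    rcases L.comm_E_A hm ha' with h | h <;> rw [h]
    · group
    · rw [L.cfg.A_comm_z ha, mul_inv_cancel_right]
  show ind ⁅ee hs m, a * a'⁆ = _
  rw [e]
  exact ind_mul L.H.data.z_sq (L.comm_E_A hm ha) (L.comm_E_A hm ha')

theorem mu_E [Finite G] (hs : L.Std) {e : G} (he : e ∈ L.EE) : mu hs e = 0 := by
  funext m
  exact ind_eq_zero.mpr (commutatorElement_eq_one_iff_mul_comm.mpr (L.E_comm (ee_mem hs m) he))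

theorem mu_one [Finite G] (hs : L.Std) : mu hs 1 = 0 := mu_E hs (one_mem _)

theorem mu_ker [Finite G] (hs : L.Std) {a : G} (ha : a ∈ L.AA) (h : mu hs a = 0) : a ∈ L.EE := by
  refine L.cent_E (Cfg.mem_A.mp ha).1 fun e he => ?_
  obtain ⟨v, hv, he'⟩ := E_decomp hs he
  have hm : ∀ m, Commute a (ee hs m) := fun m =>
    (commutatorElement_eq_one_iff_mul_comm.mp (ind_eq_zero.mp (congrFun h m))).symm
  rw [he']
  refine (Commute.mul_right (L.V_comm_A hv ha).symm ?_).eq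
  have : comb (ee hs) (lam hs e) ∈ Subgroup.centralizer ({a} : Set G) :=
    comb_mem (fun m => Subgroup.mem_centralizer_singleton_iff.mpr (hm m).eq.symm) _
  exact (Subgroup.mem_centralizer_singleton_iff.mp this).symm

theorem mu_surj [Finite G] (hs : L.Std) (l : Fin 3 → ZMod 2) : ∃ a ∈ L.AA, mu hs a = l := by
  let φ : L.AA →* Multiplicative (Fin 3 → ZMod 2) :=
    { toFun := fun e => Multiplicative.ofAdd (mu hs (e : G))
      map_one' := by rw [Subgroup.coe_one, mu_one]; rfl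
      map_mul' := fun a b => by rw [Subgroup.coe_mul, mu_mul hs a.2 b.2]; rfl }
  have hker : Nat.card φ.ker ≤ 32 := by
    rw [← L.card_E_range.1]
    refine Nat.card_le_card_of_injective
      (fun x => (⟨((x : L.AA) : G), mu_ker hs x.1.2 (congrArg Multiplicative.toAdd x.2)⟩ : L.EE)) fun x y h => ?_
    simp only [Subtype.mk.injEq] at h
    exact Subtype.ext (Subtype.ext h)
  have h2 := Subgroup.card_eq_card_quotient_mul_card_subgroup φ.ker
  rw [← Subgroup.index_eq_card, Subgroup.index_ker, L.card_AA] at h2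
  have htop : φ.range = ⊤ := by
    refine Subgroup.eq_top_of_le_card _ ?_
    rw [Nat.card_congr Multiplicative.toAdd, Nat.card_pi]
    simp only [Finset.prod_const, Finset.card_univ, Fintype.card_fin, Nat.card_zmod]
    norm_num only
    by_contra hlt
    have := Nat.mul_le_mul (Nat.le_of_lt_succ (Nat.lt_of_not_le hlt) : Nat.card φ.range ≤ 7) hker
    omega
  obtain ⟨e, he⟩ := (htop.symm ▸ Subgroup.mem_top (Multiplicative.ofAdd l) : Multiplicative.ofAdd l ∈ φ.range)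
  exact ⟨e, e.2, congrArg Multiplicative.toAdd he⟩

/-- The standard pairing. -/
def dot (u v : Fin 3 → ZMod 2) : ZMod 2 := u 0 * v 0 + u 1 * v 1 + u 2 * v 2

theorem ite_mul_eq (c x : ZMod 2) : (if c = 0 then 0 else x) = c * x := by
  have two : ∀ a : ZMod 2, a = 0 ∨ a = 1 := by decide
  rcases two c with rfl | rfl <;> simp

theorem pair_A [Finite G] (hs : L.Std) {e a : G} (he : e ∈ L.EE) (ha : a ∈ L.AA) :
    ind ⁅e, a⁆ = dot (lam hs e) (mu hs a) := by
  obtain ⟨v, hv, he'⟩ := E_decomp hs he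
  have hc : comb (ee hs) (lam hs e) ∈ L.EE := comb_mem (ee_mem hs) _
  have hadd : ∀ x ∈ L.EE, ∀ y ∈ L.EE, ind ⁅x * y, a⁆ = ind ⁅x, a⁆ + ind ⁅y, a⁆ := fun x hx y hy => by
    rw [L.H.data.comm_mul_left hx.1 hy.1 (Cfg.mem_A.mp ha).1]
    exact ind_mul L.H.data.z_sq (L.comm_E_A hx ha) (L.comm_E_A hy ha)
  conv_lhs => rw [he']
  rw [hadd v (L.V_mem_E hv) _ hc, ind_eq_zero.mpr (commutatorElement_eq_one_iff_mul_comm.mpr (L.V_comm_A hv ha)),
    zero_add, comb_apply (ee_mem hs) (fun x => ind ⁅x, a⁆) (by simp [ind_one, commutatorElement_def]) hadd,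
    ite_mul_eq, ite_mul_eq, ite_mul_eq]
  rfl

theorem nu_eq [Finite G] (hs : L.Std) {b : G} (hb : b ∈ L.BB) (m : Fin 3) :
    ind ⁅ee hs m, b⁆ = bit (L.H.ρ b) m := by
  have hm := ee_mem hs m
  refine B_induction hs (p := fun b => ind ⁅ee hs m, b⁆ = bit (L.H.ρ b) m) (fun f hf => ?_) (fun a => ?_) ?_ hb
  · show _ = bit (L.H.ρ f) m
    rw [L.H.ρ_Q hf.1, ind_eq_zero.mpr (commutatorElement_eq_one_iff_mul_comm.mpr (L.E_comm hm hf))]
    simp [bit]
  · show lam hs (ee hs m) a = bit (L.H.ρ (bb hs a)) m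
    rw [bb_ρ, bit_sb, ee_lam]
    simp [Pi.single_apply, eq_comm]
  · intro x hx y hy px py
    have e : ⁅ee hs m, x * y⁆ = ⁅ee hs m, x⁆ * ⁅ee hs m, y⁆ := by
      have : ⁅ee hs m, x * y⁆ = ⁅ee hs m, x⁆ * (x * ⁅ee hs m, y⁆ * x⁻¹) := by
        simp only [commutatorElement_def]; group
      rw [this]
      rcases L.comm_E_B hm hy with h | h <;> rw [h]
      · group
      · rw [L.BB_s hx, mul_inv_cancel_right]
    show ind ⁅ee hs m, x * y⁆ = bit (L.H.ρ (x * y)) m
    rw [e, ind_mul L.cfg.dP.z_sq (L.comm_E_B hm hx) (L.comm_E_B hm hy), px, py,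
      L.H.mul x y (L.BB_t hx) (L.BB_t hy), bit_mul (ρ_B hs hx) (ρ_B hs hy)]

theorem pair_B [Finite G] (hs : L.Std) {e b : G} (he : e ∈ L.EE) (hb : b ∈ L.BB) :
    ind ⁅e, b⁆ = dot (lam hs e) (bit (L.H.ρ b)) := by
  obtain ⟨v, hv, he'⟩ := E_decomp hs he
  have hc : comb (ee hs) (lam hs e) ∈ L.EE := comb_mem (ee_mem hs) _
  have hadd : ∀ x ∈ L.EE, ∀ y ∈ L.EE, ind ⁅x * y, b⁆ = ind ⁅x, b⁆ + ind ⁅y, b⁆ := fun x hx y hy => by
    rw [L.cfg.dP.comm_mul_left hx.2 hy.2 (Cfg.mem_A.mp hb).1]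
    exact ind_mul L.cfg.dP.z_sq (L.comm_E_B hx hb) (L.comm_E_B hy hb)
  conv_lhs => rw [he']
  rw [hadd v (L.V_mem_E hv) _ hc, ind_eq_zero.mpr (commutatorElement_eq_one_iff_mul_comm.mpr (L.V_comm_B hv hb)),
    zero_add, comb_apply (ee_mem hs) (fun x => ind ⁅x, b⁆) (by simp [ind_one, commutatorElement_def]) hadd,
    nu_eq hs hb, nu_eq hs hb, nu_eq hs hb, ite_mul_eq, ite_mul_eq, ite_mul_eq]
  rfl

/-- The commutator map. -/
noncomputable def gam (hs : L.Std) (a b : G) : Fin 3 → ZMod 2 := lam hs ⁅a, b⁆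

theorem comm_AB_mem {a b : G} (ha : a ∈ L.AA) (hb : b ∈ L.BB) : ⁅a, b⁆ ∈ L.EE := L.cfg.comm_mem ha hb

theorem lam_conj (hs : L.Std) {x f z : G} (hf : f ∈ L.EE) (hz : z = L.H.t ∨ z = L.s)
    (h : ⁅x, f⁆ = 1 ∨ ⁅x, f⁆ = z) : x * f * x⁻¹ ∈ L.EE ∧ lam hs (x * f * x⁻¹) = lam hs f := by
  have e : x * f * x⁻¹ = ⁅x, f⁆ * f := by rw [commutatorElement_def]; group
  have hzV : z = 1 ∨ z = L.H.t ∨ z = L.s ∨ z = L.s * L.H.t := by rcases hz with rfl | rfl <;> tauto
  rcases h with h | h <;> rw [e, h]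
  · rw [one_mul]; exact ⟨hf, rfl⟩
  · exact ⟨mul_mem (L.V_mem_E hzV) hf, by rw [lam_mul hs (L.V_mem_E hzV) hf, lam_V hs hzV, zero_add]⟩

theorem gam_mul_left (hs : L.Std) {a a' b : G} (ha : a ∈ L.AA) (ha' : a' ∈ L.AA) (hb : b ∈ L.BB) :
    gam hs (a * a') b = gam hs a b + gam hs a' b := by
  have e : ⁅a * a', b⁆ = a * ⁅a', b⁆ * a⁻¹ * ⁅a, b⁆ := by simp only [commutatorElement_def]; group
  have h1 := comm_AB_mem ha' hb
  obtain ⟨h2, h3⟩ := lam_conj hs (x := a) h1 (Or.inl rfl) (L.H.data.comm a (Cfg.mem_A.mp ha).1 _ h1.1)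
  show lam hs _ = _
  rw [e, lam_mul hs h2 (comm_AB_mem ha hb), h3, add_comm]
  rfl

theorem gam_mul_right (hs : L.Std) {a b b' : G} (ha : a ∈ L.AA) (hb : b ∈ L.BB) (hb' : b' ∈ L.BB) :
    gam hs a (b * b') = gam hs a b + gam hs a b' := by
  have e : ⁅a, b * b'⁆ = ⁅a, b⁆ * (b * ⁅a, b'⁆ * b⁻¹) := by simp only [commutatorElement_def]; group
  have h1 := comm_AB_mem ha hb'
  obtain ⟨h2, h3⟩ := lam_conj hs (x := b) h1 (Or.inr rfl) (L.cfg.dP.comm b (Cfg.mem_A.mp hb).1 _ h1.2)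
  show lam hs _ = _
  rw [e, lam_mul hs (comm_AB_mem ha hb) h2, h3]
  rfl

theorem gam_E_left (hs : L.Std) {e b : G} (he : e ∈ L.EE) (hb : b ∈ L.BB) : gam hs e b = 0 := by
  rcases L.comm_E_B he hb with h | h <;> rw [gam, h]
  exacts [lam_one hs, lam_V hs (Or.inr (Or.inr (Or.inl rfl)))]

theorem gam_E_right (hs : L.Std) {a e : G} (ha : a ∈ L.AA) (he : e ∈ L.EE) : gam hs a e = 0 := by
  rcases L.H.data.comm a (Cfg.mem_A.mp ha).1 e he.1 with h | h <;> rw [gam, h]
  exacts [lam_one hs, lam_V hs (Or.inr (Or.inl rfl))]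

theorem gam_dot_A [Finite G] (hs : L.Std) {a b : G} (ha : a ∈ L.AA) (hb : b ∈ L.BB) :
    dot (gam hs a b) (mu hs a) = 0 := by
  set f := ⁅a, b⁆ with hf
  have hfE := comm_AB_mem ha hb
  rw [gam, ← hf, ← pair_A hs hfE ha, ind_eq_zero, commutatorElement_eq_one_iff_mul_comm]
  have hsq : a * a = b * (a * a) * b⁻¹ := by
    rcases L.H.data.sq (Cfg.mem_A.mp ha).1 with h | h <;> rw [h]
    · simp
    · rw [L.BB_t hb, mul_inv_cancel_right]
  have h1 : b * a * b⁻¹ = f⁻¹ * a := by rw [hf, commutatorElement_def]; group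
  have h2 : f⁻¹ = f := inv_eq_of_mul_eq_one_right (L.cfg.E_sq hfE)
  rw [h2] at h1
  have h3 : f * a * (f * a) = a * a := by
    rw [← h1, ← show b * (a * a) * b⁻¹ = b * a * b⁻¹ * (b * a * b⁻¹) by group, ← hsq]
  have h4 : f * a * f = a := mul_right_cancel (show f * a * f * a = a * a by rw [mul_assoc (f * a)]; exact h3)
  calc f * a = f * a * (f * f) := by rw [L.cfg.E_sq hfE, mul_one]
    _ = _ := by rw [← mul_assoc, h4]

theorem gam_dot_B [Finite G] (hs : L.Std) {a b : G} (ha : a ∈ L.AA) (hb : b ∈ L.BB) :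
    dot (gam hs a b) (bit (L.H.ρ b)) = 0 := by
  set f := ⁅a, b⁆ with hf
  have hfE := comm_AB_mem ha hb
  rw [gam, ← hf, ← pair_B hs hfE hb, ind_eq_zero, commutatorElement_eq_one_iff_mul_comm]
  have hsq : b * b = a * (b * b) * a⁻¹ := by
    rcases L.cfg.dP.sq (Cfg.mem_A.mp hb).1 with h | h <;> rw [h]
    · simp
    · rw [(Cfg.mem_A.mp ha).2, mul_inv_cancel_right]
  have h1 : a * b * a⁻¹ = f * b := by rw [hf, commutatorElement_def]; group
  have h3 : f * b * (f * b) = b * b := by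
    rw [← h1, ← show a * (b * b) * a⁻¹ = a * b * a⁻¹ * (a * b * a⁻¹) by group, ← hsq]
  have h4 : f * b * f = b := mul_right_cancel (show f * b * f * b = b * b by rw [mul_assoc (f * b)]; exact h3)
  calc f * b = f * b * (f * f) := by rw [L.cfg.E_sq hfE, mul_one]
    _ = _ := by rw [← mul_assoc, h4]

/-- The cross product. -/
def cross (u v : Fin 3 → ZMod 2) : Fin 3 → ZMod 2 :=
  ![u 1 * v 2 + u 2 * v 1, u 2 * v 0 + u 0 * v 2, u 0 * v 1 + u 1 * v 0]

theorem dot_add_left (u v w : Fin 3 → ZMod 2) : dot (u + v) w = dot u w + dot v w := by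
  simp only [dot, Pi.add_apply]; ring

theorem dot_add_right (u v w : Fin 3 → ZMod 2) : dot u (v + w) = dot u v + dot u w := by
  simp only [dot, Pi.add_apply]; ring

theorem dot_single (u : Fin 3 → ZMod 2) (i : Fin 3) : dot u (Pi.single i 1) = u i := by
  fin_cases i <;> simp [dot]

theorem gam_eq_smul [Finite G] (hs : L.Std) :
    ∃ ε : ZMod 2, ∀ a ∈ L.AA, ∀ b ∈ L.BB, gam hs a b = ε • cross (mu hs a) (bit (L.H.ρ b)) := by
  choose aa haa hmu using fun i => mu_surj hs (Pi.single i (1 : ZMod 2))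
  have hbit : ∀ j, bit (L.H.ρ (bb hs j)) = Pi.single j 1 := fun j => by
    rw [bb_ρ]; exact funext (bit_sb j)
  set g := fun i j => gam hs (aa i) (bb hs j) with hg
  have r1 : ∀ i j, g i j i = 0 := fun i j => by
    have := gam_dot_A hs (haa i) (bb_mem hs j)
    rwa [hmu, dot_single] at this
  have r2 : ∀ i j, g i j j = 0 := fun i j => by
    have := gam_dot_B hs (haa i) (bb_mem hs j)
    rwa [hbit, dot_single] at this
  have r3 : ∀ i j k, g i j k + g k j i = 0 := fun i j k => by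
    have := gam_dot_A hs (mul_mem (haa i) (haa k)) (bb_mem hs j)
    rw [gam_mul_left hs (haa i) (haa k) (bb_mem hs j), mu_mul hs (haa i) (haa k), hmu, hmu, dot_add_left,
      dot_add_right, dot_add_right, dot_single, dot_single, dot_single, dot_single] at this
    simpa [hg, show gam hs (aa i) (bb hs j) i = 0 from r1 i j,
      show gam hs (aa k) (bb hs j) k = 0 from r1 k j] using this
  have r4 : ∀ i j k, g i j k + g i k j = 0 := fun i j k => by
    have := gam_dot_B hs (haa i) (mul_mem (bb_mem hs j) (bb_mem hs k))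
    rw [gam_mul_right hs (haa i) (bb_mem hs j) (bb_mem hs k),
      L.H.mul _ _ (L.BB_t (bb_mem hs j)) (L.BB_t (bb_mem hs k)),
      show bit (L.H.ρ (bb hs j) * L.H.ρ (bb hs k)) = bit (L.H.ρ (bb hs j)) + bit (L.H.ρ (bb hs k)) from
        funext (bit_mul (ρ_B hs (bb_mem hs j)) (ρ_B hs (bb_mem hs k))), hbit, hbit, dot_add_left,
      dot_add_right, dot_add_right, dot_single, dot_single, dot_single, dot_single] at this
    simpa [hg, show gam hs (aa i) (bb hs j) j = 0 from r2 i j,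
      show gam hs (aa i) (bb hs k) k = 0 from r2 i k] using this
  have eq2 : ∀ x y : ZMod 2, x + y = 0 → x = y := by decide
  have s1 : ∀ i j k, g i j k = g k j i := fun i j k => eq2 _ _ (r3 i j k)
  have s2 : ∀ i j k, g i j k = g i k j := fun i j k => eq2 _ _ (r4 i j k)
  have hz : ∀ i k, g i i k = 0 := fun i k => by rw [s1 i i k]; exact r2 k i
  refine ⟨g 0 1 2, fun a ha b hb => ?_⟩
  have p1 : g 2 1 0 = g 0 1 2 := (s1 0 1 2).symm
  have p2 : g 0 2 1 = g 0 1 2 := (s2 0 1 2).symm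
  have p3 : g 1 2 0 = g 0 1 2 := (s1 1 2 0).trans p2
  have p4 : g 2 0 1 = g 0 1 2 := (s2 2 0 1).trans p1
  have p5 : g 1 0 2 = g 0 1 2 := (s2 1 0 2).trans p3
  -- expansion in the second argument
  have hB : ∀ x ∈ L.AA, ∀ y ∈ L.BB, gam hs x y =
      bit (L.H.ρ y) 0 • gam hs x (bb hs 0) + bit (L.H.ρ y) 1 • gam hs x (bb hs 1) +
        bit (L.H.ρ y) 2 • gam hs x (bb hs 2) := by
    intro x hx y hy
    refine B_induction hs (p := fun y => gam hs x y =
      bit (L.H.ρ y) 0 • gam hs x (bb hs 0) + bit (L.H.ρ y) 1 • gam hs x (bb hs 1) +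
        bit (L.H.ρ y) 2 • gam hs x (bb hs 2)) (fun f hf => ?_) (fun c => ?_) ?_ hy
    · simp [gam_E_right hs hx hf, L.H.ρ_Q hf.1, bit]
    · show gam hs x (bb hs c) = _
      rw [bb_ρ, funext (bit_sb c)]
      fin_cases c <;> simp
    · intro u hu v hv pu pv
      simp only [gam_mul_right hs hx hu hv, pu, pv, L.H.mul u v (L.BB_t hu) (L.BB_t hv),
        bit_mul (ρ_B hs hu) (ρ_B hs hv), add_smul]
      abel
  set c := comb aa (mu hs a) with hc
  have hcA : c ∈ L.AA := comb_mem haa _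
  have hcmu : mu hs c = mu hs a := by
    rw [hc, comb_apply haa (mu hs) (mu_one hs) (fun x hx y hy => mu_mul hs hx hy), hmu, hmu, hmu, single_sum]
  have he : c⁻¹ * a ∈ L.EE := mu_ker hs (mul_mem (inv_mem hcA) ha) (by
    have h1 := mu_mul hs hcA (mul_mem (inv_mem hcA) ha)
    rw [mul_inv_cancel_left, hcmu] at h1
    exact left_eq_add.mp h1)
  have key : ∀ j, gam hs a (bb hs j) = mu hs a 0 • g 0 j + mu hs a 1 • g 1 j + mu hs a 2 • g 2 j := fun j => by
    conv_lhs => rw [← mul_inv_cancel_left c a]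
    rw [gam_mul_left hs hcA (L.E_le_A he) (bb_mem hs j), gam_E_left hs he (bb_mem hs j), add_zero, hc,
      comb_apply haa (fun x => gam hs x (bb hs j)) (gam_E_left hs (one_mem _) (bb_mem hs j))
        (fun x hx y hy => gam_mul_left hs hx hy (bb_mem hs j))]
    funext m
    simp only [Pi.add_apply, Pi.smul_apply, smul_eq_mul, hg]
    rw [show ∀ (p : Prop) [Decidable p] (f : Fin 3 → ZMod 2),
      (if p then (0 : Fin 3 → ZMod 2) else f) m = if p then 0 else f m from fun p _ f => by split_ifs <;> rfl,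
      show ∀ (p : Prop) [Decidable p] (f : Fin 3 → ZMod 2),
      (if p then (0 : Fin 3 → ZMod 2) else f) m = if p then 0 else f m from fun p _ f => by split_ifs <;> rfl,
      show ∀ (p : Prop) [Decidable p] (f : Fin 3 → ZMod 2),
      (if p then (0 : Fin 3 → ZMod 2) else f) m = if p then 0 else f m from fun p _ f => by split_ifs <;> rfl,
      ite_mul_eq, ite_mul_eq, ite_mul_eq]
  rw [hB a ha b hb, key, key, key]
  funext m
  fin_cases m <;>
    simp [cross, hz, r1, r2, p1, p2, p3, p4, p5] <;> ring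

end Lk

end Cfsg.Agent.OmegaEight
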