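import Cfsg.Agent.Lib.OmegaEight.Tables
import Cfsg.Agent.Lib.Multiplier.O8Mat
import Cfsg.Agent.Lib.Orth.Simple

/-
Ω⁺₈(2) from the D4 relations: `Model` data (`gw`, the eight fundamental root elements) and
`exists_hom`, a non-trivial family with the relations generates a copy of Ω⁺₈(2).
-/

set_option autoImplicit false
set_option maxRecDepth 100000
set_option linter.style.haveILetI false

namespace Cfsg.Agent.OmegaEight

open Cfsg.Agent.Multiplier Cfsg.Agent.Orth Cfsg.Agent.Triality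

/-- The fundamental root elements as words in the twelve generators. -/
def gwords : List (List ℕ) :=
  [[3],
   [6],
   [0, 10, 0, 10],
   [3, 7, 3, 7],
   [1, 11, 1, 11],
   [4, 8, 4, 8],
   [1, 8, 1, 8],
   [4, 11, 4, 11]]

/-- The twelve generators as words in the fundamental root elements. -/
def backWords : List (List ℕ) :=
  [[0, 2, 0, 2, 6, 2, 0, 2, 0, 6, 4, 6, 0, 2, 0, 2, 6, 2, 0, 2, 0, 4, 2, 4, 0, 2, 0, 2, 6, 2, 0, 2, 0, 6, 4, 6, 0, 2, 0, 2, 6, 2, 0, 2, 0, 2],
   [0, 2, 0, 2, 6, 2, 0, 2, 0, 6, 4, 6, 0, 2, 0, 2, 6, 2, 0, 2, 0, 4],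
   [0, 2, 0, 2, 6, 2, 0, 2, 0, 6],
   [0],
   [0, 2, 0, 2],
   [0, 2, 0, 2, 4, 2, 0, 2, 0, 4],
   [1],
   [1, 3, 1, 3],
   [1, 3, 1, 3, 5, 3, 1, 3, 1, 5],
   [1, 3, 1, 3, 7, 3, 1, 3, 1, 7, 5, 7, 1, 3, 1, 3, 7, 3, 1, 3, 1, 5, 3, 5, 1, 3, 1, 3, 7, 3, 1, 3, 1, 7, 5, 7, 1, 3, 1, 3, 7, 3, 1, 3, 1, 3],
   [1, 3, 1, 3, 7, 3, 1, 3, 1, 7, 5, 7, 1, 3, 1, 3, 7, 3, 1, 3, 1, 5],
   [1, 3, 1, 3, 7, 3, 1, 3, 1, 7]]

/-- The fundamental root elements. -/
noncomputable def gw (a : ℕ) : O8.G0 := O8.el (gwords.getD a [])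

theorem evalL_gw (w : List ℕ) : evalL gw w = O8.el (w.map fun a => gwords.getD a []).flatten := by
  rw [O8.el_flatten, evalL, List.map_map]; rfl

theorem gw_sq (a : ℕ) : gw a * gw a = 1 := by
  have h : ∀ w ∈ ([] :: gwords), O8.cw (w ++ w) = O8.cw [] := by decide +kernel
  rw [gw, ← O8.el_append, ← O8.el_nil]
  refine O8.el_eq (h _ ?_)
  by_cases ha : a < gwords.length
  · rw [List.getD_eq_getElem _ _ ha]; exact List.mem_cons_of_mem _ (List.getElem_mem ha)
  · rw [List.getD_eq_default _ _ (not_lt.mp ha)]; exact List.mem_cons_self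

theorem gw_rels : ∀ w ∈ relsD4, evalL gw w = 1 := by
  have h : ∀ w ∈ relsD4, O8.cw (w.map fun a => gwords.getD a []).flatten = O8.cw [] := by decide +kernel
  intro w hw
  rw [evalL_gw, ← O8.el_nil]
  exact O8.el_eq (h w hw)

theorem gw_back (i : Fin 12) : evalL gw (backWords.getD i []) = O8.gen i := by
  have h : ∀ i : Fin 12, O8.cw ((backWords.getD i []).map fun a => gwords.getD a []).flatten = O8.cw [(i : ℕ)] := by
    decide +kernel
  rw [evalL_gw, O8.el_eq (h i)]
  simp [O8.el, O8.letter]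

theorem evalL_mem {G : Type*} [Group G] {g : ℕ → G} {H : Subgroup G} {w : List ℕ}
    (h : ∀ a ∈ w, g a ∈ H) : evalL g w ∈ H :=
  list_prod_mem fun x hx => by
    obtain ⟨a, ha, rfl⟩ := List.mem_map.mp hx
    exact h a ha

theorem closure_gw : Subgroup.closure (gw '' Set.Iio 8) = ⊤ := by
  rw [eq_top_iff, ← O8.closure_gen, Subgroup.closure_le]
  rintro _ ⟨i, rfl⟩
  rw [← gw_back i]
  refine evalL_mem fun a ha => Subgroup.subset_closure ⟨a, ?_, rfl⟩
  have h : ∀ i : Fin 12, ∀ b ∈ backWords.getD i [], b < 8 := by decide +kernel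
  exact h i a ha

/-- Eight involutions with the D4 relations generate at most `|Ω⁺₈(2)|` elements. -/
theorem card_le {G : Type*} [Group G] [Finite G] {g : ℕ → G} (hg : ∀ a, g a * g a = 1)
    (hR : ∀ w ∈ relsD4, evalL g w = 1) : Nat.card (Subgroup.closure (g '' Set.Iio 8)) ≤ 174182400 := by
  have mem : ∀ n a : ℕ, a < n → g a ∈ Subgroup.closure (g '' Set.Iio n) := fun n a h =>
    Subgroup.subset_closure ⟨a, h, rfl⟩
  have sub : ∀ n : ℕ, ∀ a ∈ List.range n, g a ∈ Subgroup.closure (g '' Set.Iio n) := fun n a h =>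
    mem n a (List.mem_range.mp h)
  have h4 := card_le_of_check (H := (⊥ : Subgroup G)) check4 hg hR (by simp)
  have h3 := card_le_of_check check3 hg hR (sub 2)
  have h2 := card_le_of_check check2 hg hR (sub 4)
  have h1 := card_le_of_check check1 hg hR (sub 6)
  have h0 := card_le_of_check check0 hg hR (sub 7)
  rw [len4, Subgroup.card_bot] at h4
  rw [len3] at h3; rw [len2] at h2; rw [len1] at h1; rw [len0] at h0
  omega

theorem isSimpleGroup_g0 : IsSimpleGroup O8.G0 := by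
  have hG : Good (Q4 (ZMod 2)) := Good.of_card base4.nd (.inr (by simp))
  have hbot : Subgroup.center O8.G0 = ⊥ :=
    center_omega_eq_bot base4.nd (by simp) (omega_eq_eichGen hG (by simp) (.inr (by simp))).ge (.inr rfl)
  have := isSimpleGroup_pomega (Q := Q4 (ZMod 2)) base4.nd (by simp)
  exact ((QuotientGroup.quotientMulEquivOfEq hbot).trans (QuotientGroup.quotientBot)).symm.isSimpleGroup

/-- A family with the D4 relations gives a map from Ω⁺₈(2), injective unless the family is trivial. -/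
theorem exists_hom {G : Type*} [Group G] [Finite G] {g : ℕ → G} (hg : ∀ a, g a * g a = 1)
    (hR : ∀ w ∈ relsD4, evalL g w = 1) (hne : ∃ a < 8, g a ≠ 1) :
    ∃ φ : O8.G0 →* G, Function.Injective φ ∧ (∀ a < 8, φ (gw a) = g a) ∧
      φ.range = Subgroup.closure (g '' Set.Iio 8) := by
  set p : ℕ → O8.G0 × G := fun a => (gw a, g a) with hp
  have he : ∀ w, evalL p w = (evalL gw w, evalL g w) := by
    intro w
    induction w with
    | nil => rfl
    | cons a w ih =>
      simp only [evalL, List.map_cons, List.prod_cons] at ih ⊢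
      rw [ih]; rfl
  set K := Subgroup.closure (p '' Set.Iio 8) with hK
  let f : K →* O8.G0 := (MonoidHom.fst O8.G0 G).comp K.subtype
  have hle : Nat.card K ≤ 174182400 := card_le (fun a => Prod.ext (gw_sq a) (hg a))
    (fun w hw => by rw [he, gw_rels w hw, hR w hw]; rfl)
  have hfs : Function.Surjective f := by
    rw [← MonoidHom.range_eq_top, eq_top_iff, ← closure_gw, Subgroup.closure_le]
    rintro _ ⟨a, ha, rfl⟩
    exact ⟨⟨p a, Subgroup.subset_closure ⟨a, ha, rfl⟩⟩, rfl⟩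
  have hfb : Function.Bijective f := by
    rw [Nat.bijective_iff_surjective_and_card]
    refine ⟨hfs, le_antisymm ?_ (Nat.card_le_card_of_surjective f hfs)⟩
    rw [O8.natCard_g0]; exact hle
  let e : K ≃* O8.G0 := MulEquiv.ofBijective f hfb
  refine ⟨(MonoidHom.snd O8.G0 G).comp (K.subtype.comp e.symm.toMonoidHom), ?_, fun a ha => ?_, ?_⟩
  rotate_left
  · show ((e.symm (gw a) : K) : O8.G0 × G).2 = g a
    rw [show gw a = e ⟨p a, Subgroup.subset_closure ⟨a, ha, rfl⟩⟩ from rfl, e.symm_apply_apply]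
  · rw [← MonoidHom.map_range, MonoidHom.range_comp,
      MonoidHom.range_eq_top.mpr e.symm.surjective, ← MonoidHom.range_eq_map, Subgroup.range_subtype, hK,
      MonoidHom.map_closure, Set.image_image]
    rfl
  have := isSimpleGroup_g0
  set φ := (MonoidHom.snd O8.G0 G).comp (K.subtype.comp e.symm.toMonoidHom)
  rcases (MonoidHom.normal_ker φ).eq_bot_or_eq_top with h | h
  · exact (MonoidHom.ker_eq_bot_iff φ).mp h
  · obtain ⟨a, ha, hna⟩ := hne
    refine absurd ?_ hna
    have h2 : φ (gw a) = 1 := by rw [← MonoidHom.mem_ker, h]; trivial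
    rw [← h2]
    show g a = ((e.symm (gw a) : K) : O8.G0 × G).2
    rw [show gw a = e ⟨p a, Subgroup.subset_closure ⟨a, ha, rfl⟩⟩ from rfl, e.symm_apply_apply]

end Cfsg.Agent.OmegaEight
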