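import Cfsg.Agent.Lib.OmegaEight.Setup
import Cfsg.Agent.Lib.Extraspecial.Basic

/-
Two weakly closed conjugate configurations `H`, `K` with `K.t` outside `H.Q`: the elementary group
`C_Q(K.t)` of order `2^5`, centralised by `C_{Q'}(H.t)`, which maps onto a group of order eight
(`Outer`, `Outer.centralise`, `Outer.card_map`).
-/

set_option autoImplicit false

namespace Cfsg.Agent.OmegaEight

open Cfsg.Agent.LargeExtraspecial
open scoped commutatorElement

variable {G : Type*} [Group G] [Finite G]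

/-- An abelian subgroup of `Q` has order at most 32. -/
theorem Hyp.card_le_of_comm (H : Hyp G) {A : Subgroup G} (hA : A ≤ H.Q)
    (hc : ∀ a ∈ A, ∀ b ∈ A, a * b = b * a) : Nat.card A ≤ 32 := by
  haveI : Fact (Nat.Prime 2) := ⟨Nat.prime_two⟩
  have h := Cfsg.Agent.Extraspecial.card_abelian_sq_le (p := 2) H.extra (A := A.subgroupOf H.Q)
    fun a ha b hb => Subtype.ext (hc a ha b hb)
  rw [Nat.card_congr (Subgroup.subgroupOfEquivOfLe hA).toEquiv, H.card] at h
  nlinarith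

/-- The conjugates of `K.t` lying in `K.Q` equal `K.t`, and `K.t` commutes with `H.t` from outside. -/
structure Outer (H K : Hyp G) : Prop where
  comm : H.t * K.t = K.t * H.t
  out : K.t ∉ H.Q
  out' : H.t ∉ K.Q
  wc : ∀ g, g * K.t * g⁻¹ ∈ K.Q → g * K.t * g⁻¹ = K.t
  wc' : ∀ g, g * H.t * g⁻¹ ∈ H.Q → g * H.t * g⁻¹ = H.t

namespace Outer

variable {H K : Hyp G} (O : Outer H K)

/-- The difference of `q` from commuting with `s`. -/
abbrev dif (s q : G) : G := q * s * q⁻¹ * s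

include O

theorem symm : Outer K H := ⟨O.comm.symm, O.out', O.out, O.wc', O.wc⟩

theorem dif_mem {q : G} (hq : q ∈ H.Q) : dif K.t q ∈ H.Q := by
  have h := H.data.norm K.t O.comm.symm _ (inv_mem hq)
  rw [inv_eq_of_mul_eq_one_right K.data.z_sq] at h
  simpa [dif, mul_assoc] using mul_mem hq h

theorem dif_conj {c q : G} (hc : c * K.t = K.t * c) : dif K.t (c * q * c⁻¹) = c * dif K.t q * c⁻¹ := by
  simp only [dif]
  calc c * q * c⁻¹ * K.t * (c * q * c⁻¹)⁻¹ * K.t
      = c * q * (c⁻¹ * K.t * c) * q⁻¹ * (c⁻¹ * K.t * c) * c⁻¹ := by group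
    _ = _ := by rw [mul_assoc c⁻¹, ← hc, inv_mul_cancel_left]; group

theorem dif_mul {a b : G} : dif K.t (a * b) = a * dif K.t b * a⁻¹ * dif K.t a := by
  simp only [dif]
  calc a * b * K.t * (a * b)⁻¹ * K.t = a * (b * K.t * b⁻¹ * (K.t * K.t)) * a⁻¹ * K.t := by
        rw [K.data.z_sq]; group
    _ = a * (b * K.t * b⁻¹ * K.t) * a⁻¹ * (a * K.t * a⁻¹ * K.t) := by group

theorem mem_D {d : G} : d ∈ Cfg.A H.Q K.t ↔ d ∈ H.Q ∧ d * K.t = K.t * d := Cfg.mem_A

theorem D_sq {d : G} (hd : d ∈ Cfg.A H.Q K.t) : d * d = 1 := by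
  obtain ⟨hd, hs⟩ := (O.mem_D).mp hd
  rcases H.data.sq hd with h | h
  · exact h
  · exact absurd (h ▸ K.sq_mem_of_two (isPGroup_of_extraspecial H.extra) hd hs) O.out'

theorem D_comm {a b : G} (ha : a ∈ Cfg.A H.Q K.t) (hb : b ∈ Cfg.A H.Q K.t) : a * b = b * a := by
  have h := O.D_sq (mul_mem ha hb)
  calc a * b = a * b * (b * b) := by rw [O.D_sq hb, mul_one]
    _ = (a * a) * (a * b) * (b * b) := by rw [O.D_sq ha, one_mul]
    _ = a * (a * (a * b * b)) * b := by group
    _ = _ := by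
      have : a * b * (a * b) = 1 := h
      calc a * (a * (a * b * b)) * b = (a * a) * a * b * (b * b) := by group
        _ = a * b := by rw [O.D_sq ha, O.D_sq hb]; group
        _ = (a * b)⁻¹ := eq_inv_of_mul_eq_one_left this
        _ = b * a := by rw [mul_inv_rev, inv_eq_of_mul_eq_one_right (O.D_sq ha),
            inv_eq_of_mul_eq_one_right (O.D_sq hb)]

theorem t_mem_D : H.t ∈ Cfg.A H.Q K.t := O.mem_D.mpr ⟨H.data.z_mem, O.comm⟩

theorem E0_mem_D {k : G} (h : k ∈ H.Q ⊓ K.Q) : k ∈ Cfg.A H.Q K.t := O.mem_D.mpr ⟨h.1, K.ct h.2⟩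

/-- No non-trivial element of `Q ∩ Q'` is a difference. -/
theorem dif_E0 {q : G} (hk : dif K.t q ∈ H.Q ⊓ K.Q) : dif K.t q = 1 := by
  have e : q * K.t * q⁻¹ = dif K.t q * K.t := by
    calc q * K.t * q⁻¹ = q * K.t * q⁻¹ * (K.t * K.t) := by rw [K.data.z_sq, mul_one]
      _ = _ := by simp only [dif]; group
  have := O.wc q (e ▸ mul_mem hk.2 K.data.z_mem)
  rw [e] at this
  exact mul_eq_right.mp this

theorem dif_comm_D {q d : G} (hq : q ∈ H.Q) (hd : d ∈ Cfg.A H.Q K.t) :
    d * dif K.t q = dif K.t q * d := by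
  obtain ⟨hdQ, hds⟩ := O.mem_D.mp hd
  suffices d * dif K.t q * d⁻¹ = dif K.t q by
    calc d * dif K.t q = d * dif K.t q * d⁻¹ * d := by group
      _ = _ := by rw [this]
  rw [← O.dif_conj hds]
  have e : d * q * d⁻¹ = ⁅d, q⁆ * q := by rw [commutatorElement_def]; group
  rcases H.data.comm d hdQ q hq with h | h <;> rw [e, h]
  · rw [one_mul]
  · rw [O.dif_mul]
    have : dif K.t H.t = 1 := by
      show H.t * K.t * H.t⁻¹ * K.t = 1
      rw [O.comm, mul_inv_cancel_right, K.data.z_sq]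
    rw [this, mul_one, ← H.data.z_central _ (O.dif_mem hq), mul_inv_cancel_right]

/-- `r(r(q))` is trivial modulo `t`. -/
theorem dif_dif {q : G} (hq : q ∈ H.Q) :
    dif K.t (dif K.t q) = 1 ∨ dif K.t (dif K.t q) = H.t := by
  have e : dif K.t (dif K.t q) = dif K.t q * dif K.t q := by
    simp only [dif]
    have hi : K.t⁻¹ = K.t := inv_eq_of_mul_eq_one_right K.data.z_sq
    calc q * K.t * q⁻¹ * K.t * K.t * (q * K.t * q⁻¹ * K.t)⁻¹ * K.t
        = q * K.t * q⁻¹ * (K.t * K.t * K.t⁻¹) * (q * K.t⁻¹ * q⁻¹) * K.t := by group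
      _ = _ := by rw [hi, K.data.z_sq, one_mul]; group
  exact e ▸ H.data.sq (O.dif_mem hq)

theorem dif_eq_iff {a b : G} (ha : a ∈ H.Q) (hb : b ∈ H.Q) :
    dif K.t a = dif K.t b ↔ b⁻¹ * a ∈ Cfg.A H.Q K.t := by
  rw [O.mem_D]
  simp only [dif, mul_left_inj]
  refine ⟨fun h => ⟨mul_mem (inv_mem hb) ha, ?_⟩, fun h => ?_⟩
  · calc b⁻¹ * a * K.t = b⁻¹ * (a * K.t * a⁻¹) * a := by group
      _ = _ := by rw [h]; group
  · calc a * K.t * a⁻¹ = b * (b⁻¹ * a * K.t) * a⁻¹ := by group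
      _ = b * K.t * b⁻¹ := by rw [h.2]; group

/-- The differences. -/
noncomputable def rset (H K : Hyp G) : Finset G :=
  (Set.toFinite ((fun q => dif K.t q) '' (H.Q : Set G))).toFinset

theorem mem_rset {x : G} : x ∈ rset H K ↔ ∃ q ∈ H.Q, dif K.t q = x := by
  simp [rset]

theorem card_rset : (rset H K).card * Nat.card (Cfg.A H.Q K.t) = 512 := by
  classical
  set D := Cfg.A H.Q K.t with hD
  set S := D.subgroupOf H.Q with hS
  let f : H.Q ⧸ S → G := Quotient.lift (fun q : H.Q => dif K.t (q : G)) (by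
    intro a b h
    have h' := QuotientGroup.leftRel_apply.mp h
    rw [hS, Subgroup.mem_subgroupOf] at h'
    exact ((O.dif_eq_iff b.2 a.2).mpr h').symm)
  have hf : Function.Injective f := by
    rintro ⟨a⟩ ⟨b⟩ h
    refine Quotient.sound (QuotientGroup.leftRel_apply.mpr ?_)
    rw [hS, Subgroup.mem_subgroupOf]
    exact (O.dif_eq_iff b.2 a.2).mp h.symm
  have himg : rset H K = (Set.toFinite (Set.range f)).toFinset := by
    ext x
    rw [O.mem_rset]
    simp only [Set.Finite.mem_toFinset, Set.mem_range]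
    constructor
    · rintro ⟨q, hq, rfl⟩; exact ⟨QuotientGroup.mk ⟨q, hq⟩, rfl⟩
    · rintro ⟨⟨q⟩, rfl⟩; exact ⟨q, q.2, rfl⟩
  have h1 : (rset H K).card = Nat.card (H.Q ⧸ S) := by
    rw [himg, ← Nat.card_eq_card_finite_toFinset, Nat.card_range_of_injective hf]
  have h2 := Subgroup.card_eq_card_quotient_mul_card_subgroup S
  rw [H.card, Nat.card_congr (Subgroup.subgroupOfEquivOfLe (inf_le_left : D ≤ H.Q)).toEquiv] at h2
  rw [h1]; exact h2.symm

theorem card_D_le_E0 : Nat.card (Cfg.A H.Q K.t) ≤ 8 * Nat.card (H.Q ⊓ K.Q : Subgroup G) := by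
  classical
  haveI : Fact (Nat.Prime 2) := ⟨Nat.prime_two⟩
  set D := Cfg.A H.Q K.t with hD
  have hcomm : ∀ d : D, (d : G) * K.t = K.t * d := fun d => (O.mem_D.mp d.2).2
  let φ : D →* S33 :=
    { toFun := fun d => K.ρ d
      map_one' := K.ρ_one
      map_mul' := fun a b => K.mul _ _ (hcomm a) (hcomm b) }
  have hker : φ.ker = (H.Q ⊓ K.Q).subgroupOf D := by
    ext d
    rw [MonoidHom.mem_ker, Subgroup.mem_subgroupOf]
    exact ⟨fun h => ⟨(O.mem_D.mp d.2).1, (K.ker _ (hcomm d)).mp h⟩, fun h => K.ρ_Q h.2⟩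
  have hle : (H.Q ⊓ K.Q) ≤ D := fun k hk => O.E0_mem_D hk
  have h8 : Nat.card φ.range ≤ 8 := by
    have hp : IsPGroup 2 φ.range :=
      ((isPGroup_of_extraspecial H.extra).to_le (inf_le_left : D ≤ H.Q)).of_surjective φ.rangeRestrict
        φ.rangeRestrict_surjective
    obtain ⟨n, hn⟩ := hp.exists_card_eq
    rw [hn]
    have hd := Subgroup.card_subgroup_dvd_card φ.range
    rw [hn, card_S33] at hd
    have : n ≤ 3 := by
      by_contra h
      have h16 : 2 ^ 4 ∣ 216 := (pow_dvd_pow 2 (by omega)).trans hd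
      norm_num at h16
    calc 2 ^ n ≤ 2 ^ 3 := Nat.pow_le_pow_right (by norm_num) this
      _ = 8 := by norm_num
  have h2 := Subgroup.card_eq_card_quotient_mul_card_subgroup φ.ker
  rw [← Subgroup.index_eq_card, Subgroup.index_ker, hker,
    Nat.card_congr (Subgroup.subgroupOfEquivOfLe hle).toEquiv] at h2
  rw [h2]
  exact Nat.mul_le_mul_right _ h8

/-- The basic shape. -/
theorem shape : Nat.card (Cfg.A H.Q K.t) = 32 ∧ H.t ∉ rset H K ∧
    (∀ x, x ∈ rset H K → x ∈ Cfg.A H.Q K.t) ∧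
    (∀ d ∈ Cfg.A H.Q K.t, d ∈ rset H K ∨ d * H.t ∈ rset H K) := by
  classical
  haveI : Fact (Nat.Prime 2) := ⟨Nat.prime_two⟩
  set D := Cfg.A H.Q K.t with hD
  set R := rset H K with hR
  have hD32 : Nat.card D ≤ 32 := H.card_le_of_comm inf_le_left fun a ha b hb => O.D_comm ha hb
  have hRc : R.card * Nat.card D = 512 := O.card_rset
  let Df : Finset G := (D : Set G).toFinite.toFinset
  have hDf : Df.card = Nat.card D := (Nat.card_eq_card_finite_toFinset _).symm
  have hDmem : ∀ x, x ∈ Df ↔ x ∈ D := fun x => by simp [Df]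
  let Ch : Finset G := ((H.Q : Set G).toFinite.toFinset).filter fun q => dif K.t q = 1 ∨ dif K.t q = H.t
  have hRCh : R ⊆ Ch := fun x hx => by
    obtain ⟨q, hq, rfl⟩ := O.mem_rset.mp hx
    simp only [Ch, Finset.mem_filter, Set.Finite.mem_toFinset, SetLike.mem_coe]
    exact ⟨O.dif_mem hq, O.dif_dif hq⟩
  have hDCh : Df ⊆ Ch := fun x hx => by
    rw [hDmem] at hx
    simp only [Ch, Finset.mem_filter, Set.Finite.mem_toFinset, SetLike.mem_coe]
    obtain ⟨h1, h2⟩ := O.mem_D.mp hx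
    exact ⟨h1, Or.inl (by simp only [dif]; rw [h2, mul_inv_cancel_right, K.data.z_sq])⟩
  have hCh : Ch.card ≤ 2 * Df.card := by
    by_cases he : ∃ q0 ∈ H.Q, dif K.t q0 = H.t
    · obtain ⟨q0, hq0, hq0t⟩ := he
      have : Ch ⊆ Df ∪ Df.image (q0 * ·) := fun x hx => by
        simp only [Ch, Finset.mem_filter, Set.Finite.mem_toFinset, SetLike.mem_coe] at hx
        obtain ⟨hxQ, h | h⟩ := hx
        · refine Finset.mem_union_left _ ((hDmem _).mpr (O.mem_D.mpr ⟨hxQ, ?_⟩))
          calc x * K.t = x * K.t * x⁻¹ * K.t * (K.t⁻¹ * x) := by group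
            _ = K.t⁻¹ * x := by rw [show x * K.t * x⁻¹ * K.t = 1 from h, one_mul]
            _ = K.t * x := by rw [inv_eq_of_mul_eq_one_right K.data.z_sq]
        · refine Finset.mem_union_right _ (Finset.mem_image.mpr ⟨q0⁻¹ * x, ?_, by group⟩)
          rw [hDmem]
          exact (O.dif_eq_iff hxQ hq0).mp (h.trans hq0t.symm)
      refine (Finset.card_le_card this).trans ((Finset.card_union_le _ _).trans ?_)
      have := Finset.card_image_le (f := (q0 * ·)) (s := Df)
      omega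
    · have : Ch ⊆ Df := fun x hx => by
        simp only [Ch, Finset.mem_filter, Set.Finite.mem_toFinset, SetLike.mem_coe] at hx
        obtain ⟨hxQ, h | h⟩ := hx
        · rw [hDmem]
          refine O.mem_D.mpr ⟨hxQ, ?_⟩
          calc x * K.t = x * K.t * x⁻¹ * K.t * (K.t⁻¹ * x) := by group
            _ = K.t⁻¹ * x := by rw [show x * K.t * x⁻¹ * K.t = 1 from h, one_mul]
            _ = K.t * x := by rw [inv_eq_of_mul_eq_one_right K.data.z_sq]
        · exact absurd ⟨x, hxQ, h⟩ he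
      exact (Finset.card_le_card this).trans (by omega)
  have h16 : 16 ≤ Nat.card D := by
    have := (Finset.card_le_card hRCh).trans hCh
    rw [hDf] at this
    nlinarith
  have hE : 2 ≤ Nat.card (H.Q ⊓ K.Q : Subgroup G) := by
    have := O.card_D_le_E0
    rw [← hD] at this
    omega
  obtain ⟨n, hn⟩ := ((isPGroup_of_extraspecial H.extra).to_le (inf_le_left : D ≤ H.Q)).exists_card_eq
  have hcases : Nat.card D = 16 ∨ Nat.card D = 32 := by
    rw [hn] at h16 hD32 ⊢
    have h4 : 4 ≤ n := by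
      by_contra h
      have : 2 ^ n ≤ 2 ^ 3 := Nat.pow_le_pow_right (by norm_num) (by omega)
      omega
    have h5 : n ≤ 5 := by
      by_contra h
      have : 2 ^ 6 ≤ 2 ^ n := Nat.pow_le_pow_right (by norm_num) (by omega)
      omega
    interval_cases n <;> norm_num
  have h32 : Nat.card D = 32 := by
    rcases hcases with h | h
    swap
    · exact h
    exfalso
    rw [h] at hRc
    have hEq : R = Ch := Finset.eq_of_subset_of_card_le hRCh (by rw [hDf, h] at hCh; omega)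
    haveI : Nontrivial (H.Q ⊓ K.Q : Subgroup G) := Finite.one_lt_card_iff_nontrivial.mp (by omega)
    obtain ⟨⟨k, hk⟩, hne⟩ := exists_ne (1 : (H.Q ⊓ K.Q : Subgroup G))
    have : k ∈ R := hEq ▸ hDCh ((hDmem k).mpr (O.E0_mem_D hk))
    obtain ⟨q, -, rfl⟩ := O.mem_rset.mp this
    exact hne (Subtype.ext (O.dif_E0 hk))
  rw [h32] at hRc
  have hR16 : R.card = 16 := by omega
  have hRD : ∀ x, x ∈ R → x ∈ D := by
    intro x hx
    obtain ⟨q, hq, rfl⟩ := O.mem_rset.mp hx
    set r := dif K.t q with hr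
    have hc : ∀ a ∈ D ⊔ Subgroup.zpowers r, ∀ b ∈ D ⊔ Subgroup.zpowers r, a * b = b * a := by
      have hgen : D ⊔ Subgroup.zpowers r = Subgroup.closure ((D : Set G) ∪ {r}) := by
        rw [Subgroup.closure_union, Subgroup.closure_eq, Subgroup.zpowers_eq_closure]
      rw [hgen]
      intro a ha b hb
      induction ha, hb using Subgroup.closure_induction₂ with
      | mem a b ha hb =>
        rcases ha with ha | ha <;> rcases hb with hb | hb
        · exact O.D_comm ha hb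
        · rw [Set.mem_singleton_iff] at hb; subst hb; exact O.dif_comm_D hq ha
        · rw [Set.mem_singleton_iff] at ha; subst ha; exact (O.dif_comm_D hq hb).symm
        · rw [Set.mem_singleton_iff] at ha hb; rw [ha, hb]
      | one_left => simp
      | one_right => simp
      | mul_left x y z _ _ _ h1 h2 => exact (Commute.mul_left h1 h2).eq
      | mul_right x y z _ _ _ h1 h2 => exact (Commute.mul_right h1 h2).eq
      | inv_left x y _ _ h => exact (Commute.inv_left h).eq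
      | inv_right x y _ _ h => exact (Commute.inv_right h).eq
    have hle : Nat.card (D ⊔ Subgroup.zpowers r : Subgroup G) ≤ 32 :=
      H.card_le_of_comm (sup_le inf_le_left (Subgroup.zpowers_le.mpr (O.dif_mem hq))) hc
    have := Subgroup.eq_of_le_of_card_ge (le_sup_left : D ≤ D ⊔ Subgroup.zpowers r) (by omega)
    rw [this]
    exact Subgroup.mem_sup_right (Subgroup.mem_zpowers r)
  have hE4 : 4 ≤ Nat.card (H.Q ⊓ K.Q : Subgroup G) := by
    have := O.card_D_le_E0
    rw [← hD, h32] at this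
    omega
  have htR : H.t ∉ R := by
    intro htR
    obtain ⟨q0, hq0, hq0t⟩ := O.mem_rset.mp htR
    have hclose : ∀ a ∈ R, ∀ b ∈ R, a * b ∈ R := by
      intro a ha b hb
      obtain ⟨x, hx, rfl⟩ := O.mem_rset.mp ha
      obtain ⟨y, hy, rfl⟩ := O.mem_rset.mp hb
      -- translation by t
      have htr : ∀ z ∈ H.Q, dif K.t z * H.t ∈ R := fun z hz => by
        refine O.mem_rset.mpr ⟨q0 * z, mul_mem hq0 hz, ?_⟩
        rw [O.dif_mul, hq0t]
        have hc : q0 * dif K.t z * q0⁻¹ = ⁅q0, dif K.t z⁆ * dif K.t z := by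
          rw [commutatorElement_def]; group
        rcases H.data.comm q0 hq0 _ (O.dif_mem hz) with h | h
        · rw [hc, h, one_mul]
        · exfalso
          have hr0 : dif K.t (q0 * z) = 1 * dif K.t z := by
            rw [O.dif_mul, hc, h, hq0t, mul_assoc, H.ct (O.dif_mem hz), ← mul_assoc, H.data.z_sq]
          rw [one_mul, O.dif_eq_iff (mul_mem hq0 hz) hz] at hr0
          have h2 : ⁅q0, dif K.t z⁆ = 1 := by
            rw [commutatorElement_eq_one_iff_mul_comm]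
            have hd : q0 ∈ Cfg.A H.Q K.t ∨ q0 * H.t ∈ Cfg.A H.Q K.t := by
              have e : z⁻¹ * (q0 * z) = ⁅z⁻¹, q0⁆ * q0 := by rw [commutatorElement_def]; group
              rcases H.data.comm _ (inv_mem hz) q0 hq0 with h' | h' <;> rw [e, h'] at hr0
              · exact Or.inl (by rwa [one_mul] at hr0)
              · exact Or.inr (by rwa [H.ct hq0])
            have htq : q0 ∈ Cfg.A H.Q K.t := by
              rcases hd with hd | hd
              · exact hd
              · have := mul_mem hd O.t_mem_D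
                rwa [mul_assoc, H.data.z_sq, mul_one] at this
            exact O.dif_comm_D hz htq
          exact H.data.z_ne (h.symm.trans h2)
      have e : dif K.t (x * y) = ⁅x, dif K.t y⁆ * (dif K.t y * dif K.t x) := by
        rw [O.dif_mul, commutatorElement_def]; group
      have hxy : dif K.t x * dif K.t y = dif K.t y * dif K.t x := O.D_comm (hRD _ ha) (hRD _ hb)
      rcases H.data.comm x hx _ (O.dif_mem hy) with h | h
      · rw [h, one_mul, ← hxy] at e
        exact e ▸ O.mem_rset.mpr ⟨x * y, mul_mem hx hy, rfl⟩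
      · have h3 := htr _ (mul_mem hx hy)
        rw [e, h, ← hxy, ← H.data.z_central _ (mul_mem (O.dif_mem hx) (O.dif_mem hy)), mul_assoc,
          H.data.z_sq, mul_one] at h3
        exact h3
    let Rg : Subgroup G :=
      { carrier := {x | x ∈ R}
        one_mem' := O.mem_rset.mpr ⟨1, one_mem _, by simp [dif, K.data.z_sq]⟩
        mul_mem' := fun {a b} ha hb => hclose a ha b hb
        inv_mem' := fun {a} (ha : a ∈ R) => by
          show a⁻¹ ∈ R
          rw [inv_eq_of_mul_eq_one_right (O.D_sq (hRD a ha))]; exact ha }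
    have hRg : Nat.card Rg = 16 := by
      have e : ((Rg : Set G).toFinite.toFinset) = R := by ext x; simp [Rg]
      calc Nat.card Rg = ((Rg : Set G).toFinite.toFinset).card := Nat.card_eq_card_finite_toFinset _
        _ = 16 := by rw [e]; exact hR16
    have hinj : Function.Injective (fun p : Rg × (H.Q ⊓ K.Q : Subgroup G) =>
        (⟨(p.1 : G) * p.2, mul_mem (hRD _ p.1.2) (O.E0_mem_D p.2.2)⟩ : D)) := by
      rintro ⟨a, b⟩ ⟨a', b'⟩ h
      have h' : (a : G) * b = a' * b' := congrArg Subtype.val h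
      have h1 : ((a' : G))⁻¹ * a = b' * (b : G)⁻¹ := by
        calc (a' : G)⁻¹ * a = (a' : G)⁻¹ * (a * b) * (b : G)⁻¹ := by group
          _ = _ := by rw [h']; group
      have h2 : ((a' : G))⁻¹ * a ∈ R :=
        (show (a' : G)⁻¹ * a ∈ Rg from Rg.mul_mem (Rg.inv_mem a'.2) a.2)
      obtain ⟨q, -, hq⟩ := O.mem_rset.mp h2
      have h3 : ((a' : G))⁻¹ * a = 1 := by
        rw [← hq]; apply O.dif_E0; rw [hq, h1]; exact mul_mem b'.2 (inv_mem b.2)
      have h4 : (b' : G) * (b : G)⁻¹ = 1 := h1 ▸ h3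
      exact Prod.ext (Subtype.ext (inv_mul_eq_one.mp h3).symm) (Subtype.ext (mul_inv_eq_one.mp h4).symm)
    have := Nat.card_le_card_of_injective _ hinj
    rw [Nat.card_prod, hRg, h32] at this
    omega
  refine ⟨h32, htR, hRD, fun d hd => ?_⟩
  have hdisj : Disjoint R (R.image (· * H.t)) := by
    rw [Finset.disjoint_left]
    intro x hx hx'
    obtain ⟨y, hy, rfl⟩ := Finset.mem_image.mp hx'
    obtain ⟨a, ha, ha'⟩ := O.mem_rset.mp hx
    obtain ⟨b, hb, hb'⟩ := O.mem_rset.mp hy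
    apply htR
    refine O.mem_rset.mpr ⟨a * b⁻¹, mul_mem ha (inv_mem hb), ?_⟩
    have e : dif K.t a = a * b⁻¹ * dif K.t b * (a * b⁻¹)⁻¹ * dif K.t (a * b⁻¹) := by
      conv_lhs => rw [show a = a * b⁻¹ * b by group, O.dif_mul]
    have hQ' := mul_mem ha (inv_mem hb)
    have hc : a * b⁻¹ * dif K.t b * (a * b⁻¹)⁻¹ = ⁅a * b⁻¹, dif K.t b⁆ * dif K.t b := by
      rw [commutatorElement_def]; group
    rcases H.data.comm _ hQ' _ (O.dif_mem hb) with h | h
    · rw [hc, h, one_mul, ha', hb'] at e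
      exact (mul_left_cancel e).symm
    · exfalso
      rw [hc, h, ha', hb', ← H.data.z_central y (hRD y hy).1] at e
      have : dif K.t (a * b⁻¹) = 1 := mul_eq_left.mp e.symm
      have hd1 : (1 : G) ∈ Cfg.A H.Q K.t := one_mem _
      rw [show (1 : G) = dif K.t 1 by simp [dif, K.data.z_sq], O.dif_eq_iff hQ' (one_mem _), inv_one,
        one_mul] at this
      have h2 : ⁅a * b⁻¹, dif K.t b⁆ = 1 :=
        commutatorElement_eq_one_iff_mul_comm.mpr (O.dif_comm_D hb this)
      exact H.data.z_ne (h.symm.trans h2)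
  have hsub : R ∪ R.image (· * H.t) ⊆ Df := fun x hx => by
    rw [hDmem]
    rcases Finset.mem_union.mp hx with h | h
    · exact hRD x h
    · obtain ⟨y, hy, rfl⟩ := Finset.mem_image.mp h
      exact mul_mem (hRD y hy) O.t_mem_D
  have hall := Finset.eq_of_subset_of_card_le hsub (by
    rw [Finset.card_union_of_disjoint hdisj, Finset.card_image_of_injective _ (mul_left_injective _), hDf, h32]
    omega)
  rcases Finset.mem_union.mp (hall ▸ (hDmem d).mpr hd) with h | h
  · exact Or.inl h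
  · obtain ⟨y, hy, rfl⟩ := Finset.mem_image.mp h
    exact Or.inr (by rwa [mul_assoc, H.data.z_sq, mul_one])

theorem comm_neighbours {k k' q : G} (hk : k ∈ H.Q ⊓ K.Q) (hk' : k' ∈ H.Q ⊓ K.Q) (h1 : k ≠ 1) (h1' : k' ≠ 1)
    (hne : k ≠ k') (hq : q ∈ H.Q) (hr : dif K.t q = k * H.t) : ⁅q, k'⁆ = H.t := by
  obtain ⟨-, htR, hRD, hall⟩ := O.shape
  rcases H.data.comm q hq k' hk'.1 with h | h
  swap
  · exact h
  exfalso
  rcases hall k' (O.E0_mem_D hk') with h' | h'
  · obtain ⟨p, -, hp⟩ := O.mem_rset.mp h'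
    exact h1' (hp ▸ O.dif_E0 (hp ▸ hk'))
  obtain ⟨p, hp, hp'⟩ := O.mem_rset.mp h'
  have hz : ⁅q, k' * H.t⁆ = 1 := by
    rw [commutatorElement_eq_one_iff_mul_comm] at h ⊢
    exact (Commute.mul_right h (H.ct hq)).eq
  have e : dif K.t (q * p) = k' * k := by
    rw [O.dif_mul, hp', hr, commutatorElement_eq_one_iff_mul_comm.mp hz, mul_inv_cancel_right]
    calc k' * H.t * (k * H.t) = k' * (H.t * k) * H.t := by group
      _ = k' * k * (H.t * H.t) := by rw [← H.ct hk.1]; group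
      _ = k' * k := by rw [H.data.z_sq, mul_one]
  have := O.dif_E0 (q := q * p) (e ▸ mul_mem hk' hk)
  rw [e] at this
  exact hne ((eq_inv_of_mul_eq_one_right this).trans (inv_eq_of_mul_eq_one_right (O.D_sq (O.E0_mem_D hk'))))

theorem dif_self_comm {x : G} (hx : x ∈ H.Q) : ⁅x, dif K.t x⁆ = 1 := by
  have h0 : dif K.t (x * x) = 1 := by
    rcases H.data.sq hx with h | h <;> rw [h]
    · simp [dif, K.data.z_sq]
    · show H.t * K.t * H.t⁻¹ * K.t = 1
      rw [O.comm, mul_inv_cancel_right, K.data.z_sq]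
  rw [O.dif_mul] at h0
  have hd := O.D_sq (O.shape.2.2.1 _ (O.mem_rset.mpr ⟨x, hx, rfl⟩))
  rw [commutatorElement_def, inv_eq_of_mul_eq_one_right hd]
  exact h0

/-- `C_{Q'}(t)` centralises `C_Q(t')`. -/
theorem centralise {d d' : G} (hd : d ∈ Cfg.A H.Q K.t) (hd' : d' ∈ Cfg.A K.Q H.t) : d' * d = d * d' := by
  obtain ⟨h32, htR, hRD, hall⟩ := O.shape
  obtain ⟨hd'Q, hd't⟩ := Cfg.mem_A.mp hd'
  have hd's : d' * K.t = K.t * d' := K.ct hd'Q
  -- it suffices to treat differences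
  suffices key : ∀ q ∈ H.Q, ⁅d', dif K.t q⁆ = 1 by
    rcases hall d hd with h | h <;> obtain ⟨q, hq, he⟩ := O.mem_rset.mp h
    · exact commutatorElement_eq_one_iff_mul_comm.mp (he ▸ key q hq)
    · have h2 : Commute d' (d * H.t) := commutatorElement_eq_one_iff_mul_comm.mp (he ▸ key q hq)
      have h3 := h2.mul_right (show Commute d' H.t from hd't)
      rwa [mul_assoc, H.data.z_sq, mul_one] at h3
  have kmem : ∀ q ∈ H.Q, ⁅d', dif K.t q⁆ ∈ H.Q ⊓ K.Q := fun q hq => by
    have hr := hRD _ (O.mem_rset.mpr ⟨q, hq, rfl⟩)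
    obtain ⟨hrQ, hrs⟩ := O.mem_D.mp hr
    refine ⟨?_, ?_⟩
    · rw [commutatorElement_def]
      exact mul_mem (H.data.norm d' hd't _ hrQ) (inv_mem (S := Subgroup G) hrQ)
    · rw [commutatorElement_def, mul_assoc, mul_assoc, ← mul_assoc (dif K.t q)]
      exact mul_mem hd'Q (K.data.norm _ hrs _ (inv_mem hd'Q))
  have E0c : ∀ a ∈ H.Q ⊓ K.Q, d' * a = a * d' := fun a ha => O.symm.D_comm hd' (O.symm.E0_mem_D ⟨ha.2, ha.1⟩)
  have kt : ∀ q ∈ H.Q, ⁅d', dif K.t q⁆ ≠ 1 → ⁅q, ⁅d', dif K.t q⁆⁆ = H.t := by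
    intro q hq hne
    set r := dif K.t q with hr
    set k := ⁅d', r⁆ with hk
    set f := d' * q * d'⁻¹ * q⁻¹ with hf
    have hfQ : f ∈ H.Q := mul_mem (H.data.norm d' hd't _ hq) (inv_mem hq)
    have hrf := hRD _ (O.mem_rset.mpr ⟨f, hfQ, rfl⟩)
    have hrD := hRD _ (O.mem_rset.mpr ⟨q, hq, rfl⟩)
    have e1 : k * r = ⁅f, r⁆ * r * dif K.t f := by
      calc k * r = d' * r * d'⁻¹ := by rw [hk, commutatorElement_def]; group
        _ = dif K.t (d' * q * d'⁻¹) := (O.dif_conj hd's).symm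
        _ = dif K.t (f * q) := by rw [hf]; congr 1; group
        _ = _ := by rw [O.dif_mul, ← hr, commutatorElement_def]; group
    have e1' : k = ⁅f, r⁆ * dif K.t f := by
      have hc : r * dif K.t f = dif K.t f * r := O.D_comm hrD hrf
      have e : k * r = ⁅f, r⁆ * dif K.t f * r := by rw [e1, mul_assoc, hc, ← mul_assoc]
      exact mul_right_cancel e
    have hkE := kmem q hq
    have hfr : ⁅f, r⁆ = H.t := by
      rcases H.data.comm f hfQ r hrD.1 with h | h
      · exfalso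
        rw [h, one_mul] at e1'
        exact hne (e1'.trans (O.dif_E0 (e1' ▸ hkE)))
      · exact h
    rw [hfr] at e1'
    -- linearise
    have hs0 := O.dif_self_comm (mul_mem hq hfQ)
    have e2 : dif K.t (q * f) = ⁅q, dif K.t f⁆ * (dif K.t f * r) := by
      rw [O.dif_mul, commutatorElement_def, hr]; group
    have hqf : ⁅q, dif K.t f⁆ = H.t := by
      rcases H.data.comm q hq _ (O.dif_mem hfQ) with h | h
      swap
      · exact h
      exfalso
      rw [h, one_mul] at e2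
      rw [e2, H.data.comm_mul_left hq hfQ (mul_mem (O.dif_mem hfQ) (O.dif_mem hq))] at hs0
      have hR : ∀ a ∈ H.Q, ⁅a, dif K.t f * r⁆ = ⁅a, dif K.t f⁆ * ⁅a, r⁆ := fun a ha => by
        rw [show ⁅a, dif K.t f * r⁆ = ⁅a, dif K.t f⁆ * (dif K.t f * ⁅a, r⁆ * (dif K.t f)⁻¹) by
          simp only [commutatorElement_def]; group]
        rcases H.data.comm a ha r hrD.1 with h' | h' <;> rw [h']
        · group
        · rw [H.data.z_central _ hrf.1, mul_inv_cancel_right]
      rw [hR q hq, hR f hfQ, h, O.dif_self_comm hq, O.dif_self_comm hfQ, hfr, one_mul, one_mul, one_mul] at hs0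
      exact H.data.z_ne hs0
    rw [e1']
    calc ⁅q, H.t * dif K.t f⁆ = ⁅q, H.t⁆ * (H.t * ⁅q, dif K.t f⁆ * H.t⁻¹) := by
          simp only [commutatorElement_def]; group
      _ = H.t := by
        rw [hqf, commutatorElement_eq_one_iff_mul_comm.mpr (H.ct hq)]; group
  -- the map is additive
  have kadd : ∀ a ∈ H.Q, ∀ b ∈ H.Q, ⁅d', dif K.t (a * b)⁆ = ⁅d', dif K.t b⁆ * ⁅d', dif K.t a⁆ := by
    intro a ha b hb
    have hA := hRD _ (O.mem_rset.mpr ⟨a, ha, rfl⟩)
    have hB := hRD _ (O.mem_rset.mpr ⟨b, hb, rfl⟩)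
    have e : dif K.t (a * b) = ⁅a, dif K.t b⁆ * (dif K.t b * dif K.t a) := by
      rw [O.dif_mul, commutatorElement_def]; group
    have e3 : ⁅d', dif K.t b * dif K.t a⁆ = ⁅d', dif K.t b⁆ * ⁅d', dif K.t a⁆ := by
      rw [show ⁅d', dif K.t b * dif K.t a⁆ =
        ⁅d', dif K.t b⁆ * (dif K.t b * ⁅d', dif K.t a⁆ * (dif K.t b)⁻¹) by
          simp only [commutatorElement_def]; group]
      rw [O.D_comm hB (O.E0_mem_D (kmem a ha)), mul_inv_cancel_right]
    rw [e]
    rcases H.data.comm a ha _ (O.dif_mem hb) with h | h <;> rw [h]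
    · rw [one_mul, e3]
    · rw [← e3]
      simp only [commutatorElement_def]
      calc d' * (H.t * (dif K.t b * dif K.t a)) * d'⁻¹ * (H.t * (dif K.t b * dif K.t a))⁻¹
          = (d' * H.t * d'⁻¹) * (d' * (dif K.t b * dif K.t a) * d'⁻¹ * (dif K.t b * dif K.t a)⁻¹) * H.t⁻¹ := by
            group
        _ = _ := by
          rw [hd't, mul_inv_cancel_right, ← H.data.z_central (d' * (dif K.t b * dif K.t a) * d'⁻¹ *
            (dif K.t b * dif K.t a)⁻¹), mul_inv_cancel_right]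
          exact mul_mem (H.data.norm d' hd't _ (mul_mem hB.1 hA.1)) (inv_mem (mul_mem hB.1 hA.1))
  -- elements moving the intersection
  have hE : 4 ≤ Nat.card (H.Q ⊓ K.Q : Subgroup G) := by
    have := O.card_D_le_E0
    omega
  intro q hq
  by_contra hne
  set k := ⁅d', dif K.t q⁆ with hk
  have hkE := kmem q hq
  rcases hall k (O.E0_mem_D hkE) with h | h <;> obtain ⟨p, hp, hp'⟩ := O.mem_rset.mp h
  · exact hne (hp' ▸ O.dif_E0 (hp' ▸ hkE))
  -- a second element of the intersection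
  obtain ⟨k', hk', h1', hkk'⟩ : ∃ k' ∈ H.Q ⊓ K.Q, k' ≠ 1 ∧ k ≠ k' := by
    by_contra! hno
    have : Nat.card (H.Q ⊓ K.Q : Subgroup G) ≤ 2 := by
      rw [← Fintype.card_bool, ← Nat.card_eq_fintype_card]
      classical
      refine Nat.card_le_card_of_injective (fun x => decide ((x : G) = 1)) fun x y hxy => ?_
      simp only [decide_eq_decide] at hxy
      by_cases hx : (x : G) = 1
      · exact Subtype.ext (hx.trans (hxy.mp hx).symm)
      · exact Subtype.ext ((hno x x.2 hx).symm.trans (hno y y.2 fun e => hx (hxy.mpr e)))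
    omega
  have hp0 : ⁅d', dif K.t p⁆ = 1 := by
    rw [hp', commutatorElement_eq_one_iff_mul_comm]
    exact (Commute.mul_right (E0c k hkE) hd't).eq
  rcases hall k' (O.E0_mem_D hk') with h | h <;> obtain ⟨p', hpq', hp''⟩ := O.mem_rset.mp h
  · exact h1' (hp'' ▸ O.dif_E0 (hp'' ▸ hk'))
  have hp0' : ⁅d', dif K.t p'⁆ = 1 := by
    rw [hp'', commutatorElement_eq_one_iff_mul_comm]
    exact (Commute.mul_right (E0c k' hk') hd't).eq
  have hc1 := kt q hq hne
  rw [← hk] at hc1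
  -- q p' commutes with k and has the same image
  have h1 : ⁅d', dif K.t (q * p')⁆ = k := by rw [kadd q hq p' hpq', hp0', one_mul]
  have h2 := kt (q * p') (mul_mem hq hpq') (by rw [h1]; exact hne)
  rw [h1, H.data.comm_mul_left hq hpq' hkE.1, hc1,
    O.comm_neighbours hk' hkE h1' hne (Ne.symm hkk') hpq' hp'', H.data.z_sq] at h2
  exact H.data.z_ne h2.symm

/-- `C_{Q'}(t)` maps onto a group of order eight. -/
theorem card_map (hE : Nat.card (H.Q ⊓ K.Q : Subgroup G) ≤ 4) :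
    ∃ W : Subgroup S33, Nat.card W = 8 ∧ ∀ r, r ∈ W ↔ ∃ d' ∈ Cfg.A K.Q H.t, H.ρ d' = r := by
  have h32 := O.symm.shape.1
  set D' := Cfg.A K.Q H.t with hD'
  have hcomm : ∀ d : D', (d : G) * H.t = H.t * d := fun d => (Cfg.mem_A.mp d.2).2
  let φ : D' →* S33 :=
    { toFun := fun d => H.ρ d
      map_one' := H.ρ_one
      map_mul' := fun a b => H.mul _ _ (hcomm a) (hcomm b) }
  refine ⟨φ.range, ?_, fun r => ⟨fun ⟨d, hd⟩ => ⟨d, d.2, hd⟩, fun ⟨d, hd, he⟩ => ⟨⟨d, hd⟩, he⟩⟩⟩
  have hker : φ.ker = (H.Q ⊓ K.Q).subgroupOf D' := by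
    ext d
    rw [MonoidHom.mem_ker, Subgroup.mem_subgroupOf]
    exact ⟨fun h => ⟨(H.ker _ (hcomm d)).mp h, (Cfg.mem_A.mp d.2).1⟩, fun h => H.ρ_Q h.1⟩
  have hle : (H.Q ⊓ K.Q) ≤ D' := fun k hk => O.symm.E0_mem_D ⟨hk.2, hk.1⟩
  have h2 := Subgroup.card_eq_card_quotient_mul_card_subgroup φ.ker
  rw [← Subgroup.index_eq_card, Subgroup.index_ker, hker,
    Nat.card_congr (Subgroup.subgroupOfEquivOfLe hle).toEquiv, h32] at h2
  have hb := O.symm.card_D_le_E0
  rw [← hD', h32, inf_comm] at hb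
  have : Nat.card (H.Q ⊓ K.Q : Subgroup G) = 4 := by omega
  rw [this] at h2
  omega

/-- The intersection has order four. -/
theorem card_E0_le : Nat.card (H.Q ⊓ K.Q : Subgroup G) ≤ 4 := by
  classical
  obtain ⟨h32, htR, hRD, hall⟩ := O.shape
  by_contra! hgt
  have hlift : ∀ k : (H.Q ⊓ K.Q : Subgroup G), (k : G) ≠ 1 → ∃ q ∈ H.Q, dif K.t q = k * H.t := by
    intro k hk
    rcases hall k (O.E0_mem_D k.2) with h | h <;> obtain ⟨q, hq, he⟩ := O.mem_rset.mp h
    · exact absurd (he ▸ O.dif_E0 (he ▸ k.2)) hk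
    · exact ⟨q, hq, he⟩
  obtain ⟨⟨k1, hk1⟩, hne⟩ : ∃ k : (H.Q ⊓ K.Q : Subgroup G), k ≠ 1 :=
    @exists_ne _ (Finite.one_lt_card_iff_nontrivial.mp (by omega)) 1
  have hk1' : k1 ≠ 1 := fun e => hne (Subtype.ext e)
  obtain ⟨q1, hq1, hr1⟩ := hlift ⟨k1, hk1⟩ hk1'
  -- all others have commutator t with q1, so there are at most two of them
  obtain ⟨k2, hk2, k3, hk3, hd⟩ : ∃ k2 ∈ H.Q ⊓ K.Q, ∃ k3 ∈ H.Q ⊓ K.Q,
      k2 ≠ 1 ∧ k2 ≠ k1 ∧ k3 ≠ 1 ∧ k3 ≠ k1 ∧ k3 ≠ k2 ∧ k3 ≠ k1 * k2 := by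
    set E0 : Finset G := ((H.Q ⊓ K.Q : Subgroup G) : Set G).toFinite.toFinset
    have hc : 4 < E0.card := by rwa [← Nat.card_eq_card_finite_toFinset]
    have hex : ∀ s : Finset G, s.card ≤ 4 → ∃ k ∈ H.Q ⊓ K.Q, k ∉ s := fun s hs => by
      by_contra! h
      have := Finset.card_le_card (show E0 ⊆ s from fun x hx => h x (by simpa [E0] using hx))
      omega
    obtain ⟨k2, hk2, h2⟩ := hex {1, k1} (Finset.card_le_two.trans (by norm_num))
    obtain ⟨k3, hk3, h3⟩ := hex {1, k1, k2, k1 * k2} Finset.card_le_four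
    simp only [Finset.mem_insert, Finset.mem_singleton, not_or] at h2 h3
    exact ⟨k2, hk2, k3, hk3, h2.1, h2.2, h3.1, h3.2.1, h3.2.2.1, h3.2.2.2⟩
  obtain ⟨n2, n21, n3, n31, n32, n312⟩ := hd
  have a2 := O.comm_neighbours hk1 hk2 hk1' n2 (Ne.symm n21) hq1 hr1
  have a3 := O.comm_neighbours hk1 hk3 hk1' n3 (Ne.symm n31) hq1 hr1
  have a23 : ⁅q1, k2 * k3⁆ = H.t := by
    refine O.comm_neighbours hk1 (mul_mem hk2 hk3) hk1' ?_ ?_ hq1 hr1
    · intro e
      exact n32 ((eq_inv_of_mul_eq_one_right e).trans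
        (inv_eq_of_mul_eq_one_right (O.D_sq (O.E0_mem_D hk2))))
    · intro e
      apply n312
      rw [e]
      calc k3 = (k2 * k2) * k3 := by rw [O.D_sq (O.E0_mem_D hk2), one_mul]
        _ = k2 * (k2 * k3) := by group
        _ = k2 * k3 * k2 := O.D_comm (O.E0_mem_D hk2) (O.E0_mem_D (mul_mem hk2 hk3))
  have e : ⁅q1, k2 * k3⁆ = ⁅q1, k2⁆ * (k2 * ⁅q1, k3⁆ * k2⁻¹) := by
    simp only [commutatorElement_def]; group
  rw [e, a2, a3, H.data.z_central k2 hk2.1, mul_inv_cancel_right, H.data.z_sq] at a23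
  exact H.data.z_ne a23.symm

end Outer

end Cfsg.Agent.OmegaEight
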