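import Cfsg.Agent.Lib.OmegaEight.Frame

/-
An involution `y ∈ P` with `⁅y, t⁆ = s`, centralising the `x a` and `e a`, and with `(p y)³ = 1`
(`exists_fd`).
-/

set_option autoImplicit false
set_option linter.unusedSectionVars false

namespace Cfsg.Agent.OmegaEight

open Cfsg.Agent.LargeExtraspecial
open scoped commutatorElement

variable {G : Type*} [Group G]

/-- A complement with the partner of `p`. -/
structure Fd (G : Type*) [Group G] extends Fr G where
  y : G
  yP : y ∈ L.P
  yy : y * y = 1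
  y_t : cj y L.H.t = L.H.t * L.s
  y_s : cj y L.s = L.s
  y_x : ∀ a, y * x a = x a * y
  y_e : ∀ a, y * toFr.e a = toFr.e a * y
  py3 : toFr.p * y * (toFr.p * y) * (toFr.p * y) = 1

namespace Fr

variable (F : Fr G) [Finite G]

theorem exists_partner : ∃ y ∈ F.L.P, y * y = 1 ∧ cj y F.t = F.t * F.s ∧
    (∀ a, y * F.x a = F.x a * y) ∧ (∀ a, y * F.e a = F.e a * y) := by
  classical
  have hP : ∀ a, F.x a ∈ F.L.P := fun a => (Cfg.mem_A.mp (F.xB a)).1
  have hadd : ∀ u ∈ F.L.P, ∀ y ∈ F.L.P, ∀ y' ∈ F.L.P, ind ⁅y * y', u⁆ = ind ⁅y, u⁆ + ind ⁅y', u⁆ :=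
    fun u hu y hy y' hy' => by
      rw [F.L.cfg.dP.comm_mul_left hy hy' hu]
      exact ind_mul F.ss (F.L.cfg.dP.comm y hy u hu) (F.L.cfg.dP.comm y' hy' u hu)
  let φ : F.L.P →* Multiplicative (ZMod 2 × (Fin 3 → ZMod 2) × (Fin 3 → ZMod 2)) :=
    { toFun := fun y => Multiplicative.ofAdd
        (ind ⁅(y : G), F.t⁆, (fun a => ind ⁅(y : G), F.x a⁆), fun a => ind ⁅(y : G), F.e a⁆)
      map_one' := by
        rw [← ofAdd_zero]
        refine congrArg Multiplicative.ofAdd (Prod.ext ?_ (Prod.ext (funext fun a => ?_) (funext fun a => ?_))) <;>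
          simp [ind_one, commutatorElement_def]
      map_mul' := fun y y' => by
        rw [← ofAdd_add]
        exact congrArg Multiplicative.ofAdd (Prod.ext (hadd _ F.L.cfg.z_mem _ y.2 _ y'.2)
          (Prod.ext (funext fun a => hadd _ (hP a) _ y.2 _ y'.2)
            (funext fun a => hadd _ (F.e_mem a).2 _ y.2 _ y'.2))) }
  have hker : Nat.card φ.ker ≤ 4 := by
    set S : Finset G := {1, F.t, F.s, F.s * F.t} with hS
    have hmem : ∀ u : φ.ker, ((u : F.L.P) : G) ∈ S := fun u => by
      have h0 : ((ind ⁅((u : F.L.P) : G), F.t⁆, (fun a => ind ⁅((u : F.L.P) : G), F.x a⁆),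
          fun a => ind ⁅((u : F.L.P) : G), F.e a⁆) : ZMod 2 × (Fin 3 → ZMod 2) × (Fin 3 → ZMod 2)) = 0 :=
        congrArg Multiplicative.toAdd u.2
      simp only [Prod.mk_eq_zero] at h0
      obtain ⟨ht, hx, he⟩ := h0
      have hB : ((u : F.L.P) : G) ∈ F.L.BB := Cfg.mem_A.mpr
        ⟨u.1.2, commutatorElement_eq_one_iff_mul_comm.mp (ind_eq_zero.mp ht)⟩
      have hE : ((u : F.L.P) : G) ∈ F.L.EE := by
        refine F.L.mem_E_of_B hB ((F.L.H.ker _ (F.L.BB_t hB)).mp ?_)
        refine Lk.eq_of_bit (Lk.ρ_B F.hs hB) (one_mem _) fun m => ?_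
        have := Lk.pair_B F.hs (F.e_mem m) hB
        rw [F.lam_e, Lk.single_dot, ← commutatorElement_inv,
          ind_eq_zero.mp (congrFun he m), inv_one, ind_one] at this
        rw [← this]; simp [Lk.bit]
      have hl : Lk.lam F.hs ((u : F.L.P) : G) = 0 := funext fun m => by
        rw [← Lk.dot_single (Lk.lam F.hs _) m, ← F.bit_x m, ← Lk.pair_B F.hs hE (F.xB m)]
        exact congrFun hx m
      rcases Lk.lam_ker F.hs hE hl with h | h | h | h <;> simp [hS, h]
    have hi : Function.Injective (fun u : φ.ker => (⟨_, hmem u⟩ : S)) := fun u v h => by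
      simp only [Subtype.mk.injEq] at h
      exact Subtype.ext (Subtype.ext h)
    refine (Nat.card_le_card_of_injective _ hi).trans ?_
    rw [Nat.card_eq_fintype_card, Fintype.card_coe]
    exact Finset.card_le_four
  have h2 := Subgroup.card_eq_card_quotient_mul_card_subgroup φ.ker
  rw [← Subgroup.index_eq_card, Subgroup.index_ker, F.L.cardP] at h2
  have htop : φ.range = ⊤ := by
    refine Subgroup.eq_top_of_le_card _ ?_
    rw [Nat.card_congr Multiplicative.toAdd, Nat.card_prod, Nat.card_prod, Nat.card_pi]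
    simp only [Finset.prod_const, Finset.card_univ, Fintype.card_fin, Nat.card_zmod]
    norm_num only
    by_contra hlt
    have := Nat.mul_le_mul (Nat.le_of_lt_succ (Nat.lt_of_not_le hlt) : Nat.card φ.range ≤ 127) hker
    omega
  obtain ⟨y, hy⟩ := (htop.symm ▸ Subgroup.mem_top (Multiplicative.ofAdd ((1 : ZMod 2), (0 : Fin 3 → ZMod 2),
    (0 : Fin 3 → ZMod 2))) : Multiplicative.ofAdd ((1 : ZMod 2), (0 : Fin 3 → ZMod 2),
    (0 : Fin 3 → ZMod 2)) ∈ φ.range)
  have hy' : ((ind ⁅(y : G), F.t⁆, (fun a => ind ⁅(y : G), F.x a⁆), fun a => ind ⁅(y : G), F.e a⁆) :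
      ZMod 2 × (Fin 3 → ZMod 2) × (Fin 3 → ZMod 2)) = (1, 0, 0) := congrArg Multiplicative.toAdd hy
  simp only [Prod.mk.injEq] at hy'
  obtain ⟨h1, hx, he⟩ := hy'
  have hyt : ⁅(y : G), F.t⁆ = F.s := (F.L.cfg.dP.comm _ y.2 _ F.L.cfg.z_mem).resolve_left fun h => by
    rw [h, ind_one] at h1; exact zero_ne_one h1
  have hcj : cj (y : G) F.t = F.t * F.s := by
    rw [F.ts, ← hyt, commutatorElement_def, cj]; group
  have hyx : ∀ a, (y : G) * F.x a = F.x a * y := fun a =>
    commutatorElement_eq_one_iff_mul_comm.mp (ind_eq_zero.mp (congrFun hx a))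
  have hye : ∀ a, (y : G) * F.e a = F.e a * y := fun a =>
    commutatorElement_eq_one_iff_mul_comm.mp (ind_eq_zero.mp (congrFun he a))
  rcases F.L.cfg.dP.sq y.2 with h | h
  · exact ⟨y, y.2, h, hcj, hyx, hye⟩
  · refine ⟨y * F.t, mul_mem y.2 F.L.cfg.z_mem, ?_, ?_, fun a => ?_, fun a => ?_⟩
    · calc (y : G) * F.t * (y * F.t) = cj (y : G) F.t * (y * y) * F.t := by rw [cj]; group
        _ = 1 := by rw [hcj, h, mul_assoc F.t, F.ss, mul_one, F.tt]
    · rw [← cj_cj, cj_of_comm (rfl : F.t * F.t = F.t * F.t), hcj]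
    · exact (Commute.mul_left (hyx a) (F.L.BB_t (F.xB a)).symm).eq
    · exact (Commute.mul_left (hye a) (F.e_t a)).eq

end Fr

theorem Fr.exists_fd [Finite G] (F : Fr G) : ∃ D : Fd G, D.L = F.L := by
  classical
  obtain ⟨y, hyP, hyy, hyt, hyx, hye⟩ := F.exists_partner
  have hys : cj y F.s = F.s := cj_of_comm (F.L.cfg.dP.z_central y hyP)
  set q := F.p * y with hq
  set w := q * q * q with hw
  have hqt : cj q F.t = F.s := by
    rw [hq, ← cj_cj, hyt, cj_mul, cj_of_comm F.p_t, F.p_s, ← F.ts, ← mul_assoc, F.tt, one_mul]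
  have hqs : cj q F.s = F.s * F.t := by rw [hq, ← cj_cj, hys, F.p_s]
  have hqst : cj q (F.s * F.t) = F.t := by
    rw [cj_mul, hqs, hqt, mul_assoc, F.ts, ← mul_assoc, F.ss, one_mul]
  have hwt : cj w F.t = F.t := by rw [hw, ← cj_cj, ← cj_cj, hqt, hqs, hqst]
  have hws : cj w F.s = F.s := by rw [hw, ← cj_cj, ← cj_cj, hqs, hqst, hqt]
  have hqe : ∀ a, Commute q (F.e a) := fun a => Commute.mul_left (F.p_e a) (hye a)
  have hwe : ∀ a, w * F.e a = F.e a * w := fun a => (((hqe a).mul_left (hqe a)).mul_left (hqe a)).eq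
  have hwE : w ∈ F.L.EE := F.decomp_E (comm_of_cj hwt) (comm_of_cj hws) hwe
  set γ := Lk.lam F.hs w with hγ
  obtain ⟨v, hv, hwv⟩ := F.E_basis hwE
  rw [← hγ] at hwv
  have hqw : Commute q w := ((Commute.refl q).mul_right (Commute.refl q)).mul_right (Commute.refl q)
  have hqc : Commute q (Lk.comb F.e γ) :=
    (Subgroup.mem_centralizer_singleton_iff.mp (Lk.comb_mem (S := Subgroup.centralizer ({q} : Set G))
      (fun m => Subgroup.mem_centralizer_singleton_iff.mpr (hqe m).eq.symm) γ)).symm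
  have hv1 : v = 1 := by
    have hqv : cj q v = v := by
      refine cj_of_comm ?_
      have := hqw.mul_right hqc.inv_right
      rwa [hwv, mul_inv_cancel_right] at this
    rcases hv with h | h | h | h
    · exact h
    · rw [h, hqt] at hqv; exact absurd hqv F.L.cfg.ne
    · rw [h, hqs] at hqv; exact absurd (mul_eq_left.mp hqv) F.t_ne
    · rw [h, hqst] at hqv; exact absurd (right_eq_mul.mp hqv) F.s_ne
  have hwc : w = Lk.comb F.e γ := by rw [hwv, hv1, one_mul]
  have hww : w * w = 1 := F.L.cfg.E_sq hwE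
  have hyw : Commute y w := by
    refine comm_of_cj ?_
    calc cj y w = (q * q * q)⁻¹ := by
          rw [hw, hq]
          simp only [cj, mul_inv_rev, inv_eq_of_mul_eq_one_right F.p_sq, inv_eq_of_mul_eq_one_right hyy]
          simp only [mul_assoc, hyy, mul_one]
      _ = w := inv_eq_of_mul_eq_one_right hww
  -- the new involutions
  set x' : Fin 3 → G := fun a => if γ a = 0 then F.x a else F.x a * F.t with hx'
  have hx'eq : ∀ a, ∃ r : G, (r = 1 ∨ r = F.t) ∧ x' a = F.x a * r ∧ cj w (x' a) = (if r = 1 then 1 else F.s) * x' a := by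
    intro a
    have hc : cj w (F.x a) = ⁅w, F.x a⁆ * F.x a := by rw [cj, commutatorElement_def]; group
    have hp := Lk.pair_B F.hs hwE (F.xB a)
    rw [F.bit_x, Lk.dot_single, ← hγ] at hp
    by_cases h : γ a = 0
    · refine ⟨1, Or.inl rfl, by simp [hx', h], ?_⟩
      rw [show x' a = F.x a by simp [hx', h], if_pos rfl, hc, ind_eq_zero.mp (hp.trans h)]
    · refine ⟨F.t, Or.inr rfl, by simp [hx', h], ?_⟩
      have hne : ⁅w, F.x a⁆ = F.s := (F.L.comm_E_B hwE (F.xB a)).resolve_left fun e => h (by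
        rw [← hp, e, ind_one])
      rw [show x' a = F.x a * F.t by simp [hx', h], if_neg F.t_ne, cj_mul, hc, hne, hwt, mul_assoc]
  have hxt : ∀ a, Commute (F.x a) F.t := fun a => F.L.BB_t (F.xB a)
  have hmem : ∀ (a : Fin 3) (S : Subgroup G), F.x a ∈ S → F.t ∈ S → x' a ∈ S := fun a S h1 h2 => by
    simp only [hx']; split_ifs; exacts [h1, mul_mem h1 h2]
  have hxr : ∀ a (g : G), Commute (F.x a) g → Commute F.t g → Commute (x' a) g := fun a g h1 h2 => by
    simp only [hx']; split_ifs; exacts [h1, h1.mul_left h2]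
  let F' : Fr G :=
    { F with
      x := x'
      xB := fun a => hmem a _ (F.xB a) (F.L.E_le_B F.L.cfg.z_mem_E)
      xx := fun a => by
        simp only [hx']; split_ifs
        · exact F.xx a
        · rw [mul_assoc, ← mul_assoc F.t, ← (hxt a).eq, mul_assoc (F.x a), F.tt, mul_one, F.xx]
      xcomm := fun a b => (hxr a _ ((hxr b _ (F.xcomm b a) (hxt a).symm).symm)
        ((hxr b _ (hxt b) (Commute.refl _)).symm)).eq
      xc := fun a b h => (hxr a _ (F.xc a b h) (F.ct b).symm).eq
      xcx := fun a => by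
        simp only [hx']; split_ifs
        · exact F.xcx a
        · have hct : Commute (F.c a) F.t := F.ct a
          calc F.x a * F.t * F.c a * (F.x a * F.t) = F.x a * (F.t * F.c a) * (F.x a * F.t) := by group
            _ = F.x a * (F.c a * F.t) * (F.t * F.x a) := by rw [hct.eq, (hxt a).eq]
            _ = F.x a * F.c a * (F.t * F.t) * F.x a := by group
            _ = _ := by rw [F.tt, mul_one, F.xcx]
      xρ := fun a => by
        simp only [hx']; split_ifs
        · exact F.xρ a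
        · rw [F.L.H.mul _ _ (hxt a).eq rfl, F.L.H.ρ_Q F.L.H.data.z_mem, mul_one, F.xρ] }
  refine ⟨{ toFr := F'
            y := y * w
            yP := mul_mem hyP hwE.2
            yy := ?_
            y_t := by show cj (y * w) F.t = F.t * F.s; rw [← cj_cj, hwt, hyt]
            y_s := by show cj (y * w) F.s = F.s; rw [← cj_cj, hws, hys]
            y_x := fun a => ?_
            y_e := fun a => by
              show y * w * F.e a = F.e a * (y * w)
              exact (Commute.mul_left (hye a) (hwe a)).eq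
            py3 := ?_ }, rfl⟩
  · rw [mul_assoc, ← mul_assoc w, ← hyw.eq, mul_assoc y, hww, mul_one, hyy]
  · show y * w * x' a = x' a * (y * w)
    refine comm_of_cj ?_
    obtain ⟨r, hr, he, hcw⟩ := hx'eq a
    rw [← cj_cj, hcw, cj_mul, he, cj_mul, cj_of_comm (hyx a)]
    rcases hr with rfl | rfl
    · rw [if_pos rfl, cj_one, one_mul]
    · rw [if_neg F.t_ne, hys, hyt, ← mul_assoc, ← mul_assoc, ← F.L.BB_s (F.xB a), mul_assoc _ F.s F.t, ← F.ts,
        ← mul_assoc, mul_assoc (F.x a * F.t), F.ss, mul_one]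
  · show F.p * (y * w) * (F.p * (y * w)) * (F.p * (y * w)) = 1
    rw [← mul_assoc F.p y w, ← hq]
    calc q * w * (q * w) * (q * w) = q * (w * q) * w * (q * w) := by group
      _ = q * (q * w) * w * (q * w) := by rw [hqw.eq]
      _ = q * q * (w * w) * q * w := by group
      _ = 1 := by rw [hww, mul_one, ← hw, hww]

end Cfsg.Agent.OmegaEight
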