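import Cfsg.Agent.Lib.OmegaEight.Partner
import Cfsg.Agent.Lib.OmegaEight.Classes

/-
The D4 relations for `x a`, `Y a`, `p`, `y`, and the copy of Ω⁺₈(2) they generate (`Fd.exists_sub`).
-/

set_option autoImplicit false
set_option linter.unusedSectionVars false

namespace Cfsg.Agent.OmegaEight

open Cfsg.Agent.LargeExtraspecial
open scoped commutatorElement

variable {G : Type*} [Group G]

theorem cj_commutator (g u v : G) : cj g ⁅u, v⁆ = ⁅cj g u, cj g v⁆ := conjugate_commutatorElement u v g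

theorem cj_conj (g u v : G) : cj g (cj u v) = cj (cj g u) (cj g v) := by simp only [cj]; group

theorem cube_mul (q w : G) :
    q * w * (q * w) * (q * w) = cj q w * cj q (cj q w) * cj (q * q * q) w * (q * q * q) := by
  simp only [cj]; group

/-- Commuting involutions. -/
theorem sq_comm {u v : G} (hu : u * u = 1) (hv : v * v = 1) (h : u * v = v * u) : u * v * u * v = 1 := by
  rw [mul_assoc u v u, ← h, ← mul_assoc, hu, one_mul, hv]

theorem cube_cj (g q : G) : cj g (q * q * q) = cj g q * cj g q * cj g q := by rw [cj_mul, cj_mul]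

namespace Fd

variable (D : Fd G)

/-- The reflection joining `p` and `y`. -/
def n : G := D.p * D.y * D.p

/-- The eight generators. -/
def gens : ℕ → G := fun i => [D.x 0, D.Y 0, D.p, D.y, D.x 1, D.Y 1, D.x 2, D.Y 2].getD i 1

variable [Finite G]

theorem yy' : D.y * D.y = 1 := D.yy

theorem py3' : D.p * D.y * (D.p * D.y) * (D.p * D.y) = 1 := D.py3

theorem n_eq : D.n = D.y * D.p * D.y := by
  have h : D.p * D.y * D.p * (D.y * D.p * D.y) = 1 := by
    rw [← D.py3']; group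
  rw [n, eq_inv_of_mul_eq_one_left h, mul_inv_rev, mul_inv_rev, inv_eq_of_mul_eq_one_right D.yy',
    inv_eq_of_mul_eq_one_right D.p_sq, mul_assoc]

theorem n_sq : D.n * D.n = 1 := by
  unfold n
  rw [show D.p * D.y * D.p * (D.p * D.y * D.p) = D.p * D.y * (D.p * D.p) * D.y * D.p by group, D.p_sq, mul_one,
    mul_assoc D.p D.y D.y, D.yy', mul_one, D.p_sq]

theorem cj_n (u : G) : cj D.n u = cj D.p (cj D.y (cj D.p u)) := by rw [cj_cj, cj_cj]; rfl

theorem y_t' : cj D.y D.t = D.t * D.s := D.y_t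
theorem y_s' : cj D.y D.s = D.s := D.y_s

theorem n_t : cj D.n D.t = D.s := by
  rw [D.cj_n, cj_of_comm D.p_t, D.y_t', cj_mul, cj_of_comm D.p_t, D.p_s, ← D.ts, ← mul_assoc, D.tt, one_mul]

theorem n_s : cj D.n D.s = D.t := cj_symm D.n_sq D.n_t

theorem n_e (a : Fin 3) : cj D.n (D.e a) = D.e a := by
  rw [D.cj_n, cj_of_comm (D.p_e a), cj_of_comm (D.y_e a), cj_of_comm (D.p_e a)]

theorem n_p : cj D.n D.p = D.y := by
  rw [D.cj_n, cj_of_comm rfl, conj_inv D.yy', ← D.n_eq, conj_inv D.p_sq, n]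
  calc D.p * (D.p * D.y * D.p) * D.p = (D.p * D.p) * D.y * (D.p * D.p) := by group
    _ = D.y := by rw [D.p_sq, one_mul, mul_one]

theorem n_y : cj D.n D.y = D.p := cj_symm D.n_sq D.n_p

theorem n_Q {u : G} (hu : u ∈ D.L.P) : cj D.n u ∈ D.L.H.Q := D.nat D.n D.n_s u hu

theorem p_x (a : Fin 3) : cj D.p (D.x a) = D.x a * D.k a := by
  have h := D.x_p a
  rw [conj_inv (D.xx a)] at h
  calc cj D.p (D.x a) = D.p * D.x a * D.p := conj_inv D.p_sq
    _ = (D.x a * D.x a) * (D.p * D.x a) * D.p := by rw [D.xx, one_mul]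
    _ = D.x a * (D.x a * D.p * D.x a) * D.p := by group
    _ = D.x a * D.k a * (D.p * D.p) := by rw [h]; group
    _ = D.x a * D.k a := by rw [D.p_sq, mul_one]

theorem k_x_ne (a b : Fin 3) (h : a ≠ b) :
    ∃ m, a ≠ m ∧ b ≠ m ∧ cj (D.k a) (D.x b) = D.x b * D.e m := by
  have key : ∀ m, a ≠ m → cj (D.x b) (D.k a) = D.k a * D.e m → cj (D.k a) (D.x b) = D.x b * D.e m :=
    fun m hm e => by
      have hke := D.k_e_ne a m hm.symm
      rw [conj_inv (D.xx b)] at e
      calc cj (D.k a) (D.x b) = (D.x b * D.x b) * (D.k a * D.x b * D.k a) := by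
            rw [D.xx, one_mul, conj_inv (D.k_sq a)]
        _ = D.x b * (D.x b * D.k a * D.x b) * D.k a := by group
        _ = D.x b * (D.k a * D.e m) * D.k a := by rw [e]
        _ = D.x b * D.e m * (D.k a * D.k a) := by rw [hke]; group
        _ = _ := by rw [D.k_sq, mul_one]
  obtain ⟨ha1, ha2, -, -, h12, h21, -⟩ := fin3_facts a
  rcases fin3_other a b h with rfl | rfl
  · exact ⟨a + 2, ha2, h12, key _ ha2 (D.x_k1 a)⟩
  · exact ⟨a + 1, ha1, h21, key _ ha1 (D.x_k2 a)⟩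

theorem y_k (a : Fin 3) : cj D.y (D.k a) = D.k a * D.x a := by
  classical
  set k := D.k a with hk
  set x := D.x a with hx
  set u := cj D.n x with hu
  have huQ : u ∈ D.L.H.Q := D.n_Q (Cfg.mem_A.mp (D.xB a)).1
  have hus : u * D.s = D.s * u := by
    rw [← D.n_t]; exact cj_comm _ (D.L.BB_t (D.xB a))
  have huA : u ∈ D.L.AA := Cfg.mem_A.mpr ⟨huQ, hus⟩
  have hmu : Lk.mu D.hs u = Pi.single a 1 := funext fun m => by
    rw [← Lk.single_dot m (Lk.mu D.hs u), ← D.lam_e m, ← Lk.pair_A D.hs (D.e_mem m) huA, ← D.n_e m, hu,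
      ← cj_commutator, comm_inv (D.e_sq m) (D.xx a)]
    rcases eq_or_ne a m with rfl | h
    · rw [D.x_e, D.e_s, ← mul_assoc, D.e_sq, one_mul, D.n_s, ind_of_ne D.t_ne, Pi.single_eq_same]
    · rw [D.x_e_ne a m h, D.e_sq, cj_one, ind_one, Pi.single_eq_of_ne h.symm]
  set f := k * u with hf
  have hfE : f ∈ D.L.EE := Lk.mu_ker D.hs (mul_mem (D.k_mem a) huA) (by
    rw [Lk.mu_mul D.hs (D.k_mem a) huA, D.mu_k, hmu, ZModModule.add_self])
  have hpu : Commute D.p u := by
    have h := cj_comm D.n (D.y_x a)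
    rwa [D.n_y, ← hx, ← hu] at h
  have hpf : Commute D.p f := (show Commute D.p k from D.p_k a).mul_right hpu
  have huu : u * u = 1 := by rw [hu, ← cj_mul, hx, D.xx, cj_one]
  have hkk : k * k = 1 := D.k_sq a
  have hkf : k * f = u := by rw [hf, ← mul_assoc, hkk, one_mul]
  have hfk : f * k = k * f := by
    have h1 : f * f = 1 := D.L.cfg.E_sq hfE
    calc f * k = (f * k) * (u * u) := by rw [huu, mul_one]
      _ = f * k * (k * f) * (k * f) := by rw [hkf, ← mul_assoc (f * k)]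
      _ = f * (k * k) * f * (k * f) := by group
      _ = k * f := by rw [hkk, mul_one, h1, one_mul]
  set ε := Lk.lam D.hs f with hε
  obtain ⟨v, hv, hfv⟩ := D.E_basis hfE
  rw [← hε] at hfv
  set E0 := Lk.comb D.e ε with hE0
  have hE0E : E0 ∈ D.L.EE := Lk.comb_mem D.e_mem _
  have hE0g : ∀ g : G, (∀ m, g * D.e m = D.e m * g) → Commute g E0 := fun g hg =>
    (Subgroup.mem_centralizer_singleton_iff.mp (Lk.comb_mem (S := Subgroup.centralizer ({g} : Set G))
      (fun m => Subgroup.mem_centralizer_singleton_iff.mpr (hg m).symm) ε)).symm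
  have hv' : v = 1 ∨ v = D.t := by
    have h1 : cj D.p v = v := by
      refine cj_of_comm ?_
      have := hpf.mul_right (hE0g _ D.p_e).inv_right
      rwa [hfv, mul_inv_cancel_right] at this
    rcases hv with h | h | h | h
    · exact Or.inl h
    · exact Or.inr h
    · rw [h, D.p_s] at h1; exact absurd (mul_eq_left.mp h1) D.t_ne
    · rw [h, cj_mul, D.p_s, cj_of_comm D.p_t] at h1
      exact absurd (mul_eq_left.mp h1) D.t_ne
  have hlE0 : Lk.lam D.hs E0 = ε := by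
    have := congrArg (Lk.lam D.hs) hfv
    rwa [Lk.lam_mul D.hs (D.L.V_mem_E hv) hE0E, Lk.lam_V D.hs hv, zero_add, ← hε, eq_comm] at this
  have hεa : ε a = 0 := by
    have := Lk.pair_A D.hs hfE (D.k_mem a)
    rw [commutatorElement_eq_one_iff_mul_comm.mpr hfk, ind_one, D.mu_k, Lk.dot_single, ← hε] at this
    exact this.symm
  have hxE0 : Commute E0 x := by
    refine commutatorElement_eq_one_iff_mul_comm.mp (ind_eq_zero.mp ?_)
    rw [Lk.pair_B D.hs hE0E (D.xB a), D.bit_x, Lk.dot_single, hlE0, hεa]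
  have hE02 : E0 * E0 = 1 := D.L.cfg.E_sq hE0E
  set v' := cj D.n v with hv'def
  have hpv : cj D.p v' = v' * v ∧ v' * v' = 1 ∧ Commute v' x ∧ Commute v x ∧ v * v = 1 ∧ cj D.n v' = v ∧
      Commute v v' ∧ v' ∈ D.L.EE := by
    rw [hv'def]
    rcases hv' with rfl | rfl
    · simp [cj]
    · rw [D.n_t]
      exact ⟨D.p_s, D.ss, (D.L.BB_s (D.xB a)).symm, (D.L.BB_t (D.xB a)).symm, D.tt, D.n_s, D.ts, D.L.cfg.s_mem_E⟩
  obtain ⟨hpv, hv'2, hv'x, hvx, hvv, hnv', hvv', hv'E⟩ := hpv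
  have hgn : cj D.n f = v' * E0 := by
    rw [hfv, cj_mul, ← hv'def, cj_of_comm (hE0g _ (fun m => comm_of_cj (D.n_e m))).eq]
  have hnk : cj D.n k = x * (v' * E0) := by
    have h1 : k = u * f := by
      rw [← hkf, mul_assoc, D.L.cfg.E_sq hfE, mul_one]
    conv_lhs => rw [h1]
    rw [cj_mul, hgn, hu, cj_self D.n_sq]
  have key : cj D.y k = k * x * E0 := by
    have e1 : cj D.y k = cj D.n (cj D.p (cj D.n k)) := by
      rw [cj_cj, cj_cj, show D.n * D.p * D.n = cj D.n D.p by rw [conj_inv D.n_sq], D.n_p]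
    have hnE0 : cj D.n E0 = E0 := cj_of_comm (hE0g _ fun m => comm_of_cj (D.n_e m)).eq
    rw [e1, hnk, cj_mul, cj_mul, D.p_x, cj_mul, cj_mul, hpv, cj_of_comm (hE0g _ D.p_e).eq, cj_mul, cj_mul, hnE0,
      hnv', ← hv'def, ← hk, ← hx, ← hu, hnk, ← hkf]
    rw [hfv]
    have c1 : Commute v E0 := D.L.E_comm (D.L.V_mem_E hv) hE0E
    have c2 : Commute v' E0 := D.L.E_comm hv'E hE0E
    calc k * (v * E0) * (x * (v' * E0)) * (v * v' * E0)
        = k * (v * E0) * x * ((v' * E0) * (v * v' * E0)) := by group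
      _ = k * (v * E0) * x * v := by
          congr 1
          calc v' * E0 * (v * v' * E0) = v' * (E0 * (v * v')) * E0 := by group
            _ = v' * ((v * v') * E0) * E0 := by rw [(c1.mul_left c2).eq]
            _ = (v' * v) * v' * (E0 * E0) := by group
            _ = v * (v' * v') * (E0 * E0) := by rw [← hvv'.eq]; group
            _ = v := by rw [hv'2, hE02, mul_one, mul_one]
      _ = k * ((v * E0) * (x * v)) := by group
      _ = k * (x * E0) := by
          congr 1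
          calc v * E0 * (x * v) = v * (E0 * (x * v)) := by group
            _ = v * ((x * v) * E0) := by rw [(hxE0.mul_right c1.symm).eq]
            _ = (v * x) * v * E0 := by group
            _ = x * E0 := by rw [hvx.eq, mul_assoc x, hvv, mul_one]
      _ = k * x * E0 := by group
  suffices hε0 : ε = 0 by
    rw [key, hE0, hε0]
    simp [Lk.comb]
  funext b
  rcases eq_or_ne a b with rfl | hab
  · exact hεa
  obtain ⟨m, hm, hbm, hkx⟩ := D.k_x_ne a b hab
  have hky : cj k D.y = x * E0 * D.y := by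
    rw [conj_inv hkk]
    rw [conj_inv D.yy'] at key
    calc k * D.y * k = k * (D.y * k) * (D.y * D.y) := by rw [D.yy', mul_one]; group
      _ = k * (D.y * k * D.y) * D.y := by group
      _ = (k * k) * x * E0 * D.y := by rw [key]; group
      _ = _ := by rw [hkk, one_mul]
  have hc : Commute (x * E0 * D.y) (D.x b * D.e m) := by
    rw [← hky, ← hkx]; exact cj_comm k (D.y_x b)
  have hxc : Commute x (D.x b * D.e m) :=
    (show Commute x (D.x b) from D.xcomm a b).mul_right (comm_of_cj (D.x_e_ne a m hm))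
  have hyc : Commute D.y (D.x b * D.e m) := (show Commute D.y (D.x b) from D.y_x b).mul_right (D.y_e m)
  have h2 := (hxc.inv_left.mul_left hc).mul_left hyc.inv_left
  rw [show x⁻¹ * (x * E0 * D.y) * D.y⁻¹ = E0 by group] at h2
  have hem : Commute E0 (D.e m) := (hE0g _ fun i => D.e_e m i).symm
  have h3 : Commute E0 (D.x b) := by
    have := h2.mul_right hem.inv_right
    rwa [mul_inv_cancel_right] at this
  have := Lk.pair_B D.hs hE0E (D.xB b)
  rw [commutatorElement_eq_one_iff_mul_comm.mpr h3.eq, ind_one, D.bit_x, Lk.dot_single, hlE0] at this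
  exact this.symm

theorem n_x (a : Fin 3) : cj D.n (D.x a) = D.k a := by
  have hxk : cj (D.x a) (D.k a) = D.k a := D.x_k a
  rw [conj_inv (D.xx a), mul_assoc] at hxk
  rw [D.cj_n, D.p_x, cj_mul, cj_of_comm (D.y_x a), D.y_k, hxk, cj_of_comm (D.p_k a)]

theorem n_k (a : Fin 3) : cj D.n (D.k a) = D.x a := cj_symm D.n_sq (D.n_x a)

theorem x_Y (a : Fin 3) : cj (D.x a) (D.Y a) = D.N a := by
  show cj (D.x a) (cj (D.c a) (D.x a)) = D.c a * D.x a
  rw [conj_inv (D.xx a), cj]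
  calc D.x a * (D.c a * D.x a * (D.c a)⁻¹) * D.x a = (D.x a * D.c a * D.x a) * (D.c a)⁻¹ * D.x a := by group
    _ = _ := by rw [D.xcx, mul_inv_cancel_right]

theorem xY (a : Fin 3) : D.x a * D.Y a = D.c a := by
  show D.x a * cj (D.c a) (D.x a) = D.c a
  rw [cj]
  calc D.x a * (D.c a * D.x a * (D.c a)⁻¹) = (D.x a * D.c a * D.x a) * (D.c a)⁻¹ := by group
    _ = _ := by rw [D.xcx, mul_inv_cancel_right]

theorem e_ne_s (a : Fin 3) : D.e a ≠ D.s := fun h => by
  have h2 := D.lam_e a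
  rw [h, Lk.lam_V D.hs (Or.inr (Or.inr (Or.inl rfl)))] at h2
  simpa using congrFun h2 a

theorem braid (a : Fin 3) :
    cj (D.N a) D.y = cj D.n (D.Y a) ∧ D.N a * D.n * (D.N a * D.n) * (D.N a * D.n) = 1 := by
  set z1 := cj (D.N a) D.y with hz1
  set z2 := cj D.n (D.Y a) with hz2
  have hz1sq : z1 * z1 = 1 := by rw [hz1, ← cj_mul, D.yy', cj_one]
  have hz2sq : z2 * z2 = 1 := by rw [hz2, ← cj_mul, D.Y_sq, cj_one]
  have hNn := D.N_sq a
  have z1t : cj z1 D.t = D.t * D.e a := by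
    calc cj z1 D.t = cj (cj (D.N a) D.y) (cj (D.N a) D.t) := by rw [D.N_t]
      _ = cj (D.N a) (cj D.y D.t) := by simp only [cj]; group
      _ = _ := by rw [D.y_t', cj_mul, D.N_t, D.N_s]
  have z2t : cj z2 D.t = D.t * D.e a := by
    calc cj z2 D.t = cj (cj D.n (D.Y a)) (cj D.n D.s) := by rw [D.n_s]
      _ = cj D.n (cj (D.Y a) D.s) := by simp only [cj]; group
      _ = _ := by rw [D.Y_s, cj_mul, D.n_e, D.n_s, D.e_t]
  have z1s : Commute z1 D.s := by
    rw [← D.N_e a]; exact cj_comm _ (D.y_e a)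
  have z2s : Commute z2 D.s := by
    rw [← D.n_t]; exact cj_comm _ (comm_of_cj (D.Y_t a))
  have z1e : Commute z1 (D.e a) := by
    rw [← D.N_s a]; exact cj_comm _ (comm_of_cj D.y_s')
  have z2e : Commute z2 (D.e a) := by
    rw [← D.n_e a]; exact cj_comm _ (comm_of_cj (D.Y_e a))
  set w := z1 * z2 with hw
  have hwt : cj w D.t = D.t := by
    rw [hw, ← cj_cj, z2t, cj_mul, z1t, cj_of_comm z1e.eq, mul_assoc, D.e_sq, mul_one]
  obtain ⟨hwE, hlam⟩ := D.cent_pair a (comm_of_cj hwt) (z1s.mul_left z2s).eq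
    (fun b hb => by
      refine (Commute.mul_left ?_ ?_).eq
      · rw [← D.N_xb a b hb]; exact cj_comm _ (D.y_x b)
      · rw [← D.n_k b]; exact cj_comm _ (D.Y_k a b hb))
    (fun b hb => by
      refine (Commute.mul_left ?_ ?_).eq
      · obtain ⟨m, -, -, hm⟩ := D.N_k_ne a b hb
        rw [← cj_symm hNn hm]; exact cj_comm _ (D.y_e m)
      · rw [← D.n_x b]; exact cj_comm _ (D.Y_x a b hb))
  obtain ⟨v, r, hv, hr, hwvr⟩ := D.E_basis_one a hwE hlam
  have hww : w * w = 1 := D.L.cfg.E_sq hwE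
  have hz1w : Commute z1 w := by
    refine comm_of_cj ?_
    calc cj z1 w = (z1 * z1) * z2 * z1⁻¹ := by rw [hw, cj]; group
      _ = w⁻¹ := by rw [hz1sq, one_mul, hw, mul_inv_rev, inv_eq_of_mul_eq_one_right hz2sq]
      _ = w := inv_eq_of_mul_eq_one_right hww
  have hz1v : cj z1 v = v := by
    refine cj_of_comm ?_
    have hz1r : Commute z1 r := by rcases hr with rfl | rfl; exacts [Commute.one_right _, z1e]
    have := hz1w.mul_right hz1r.inv_right
    rwa [hwvr, mul_inv_cancel_right] at this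
  have he1 : D.e a ≠ 1 := fun h => D.s_ne (by rw [← D.N_e a, h, cj_one])
  have hv' : v = 1 ∨ v = D.s := by
    rcases hv with h | h | h | h
    · exact Or.inl h
    · rw [h, z1t] at hz1v; exact absurd (mul_eq_left.mp hz1v) he1
    · exact Or.inr h
    · rw [h, cj_mul, cj_of_comm z1s.eq, z1t] at hz1v
      exact absurd (mul_eq_left.mp (mul_left_cancel hz1v)) he1
  -- the cube of `N n`
  set k := D.k a with hk
  have hNnN : cj (D.N a) D.n = cj k z1 := by
    show cj (D.N a) (D.p * D.y * D.p) = _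
    rw [cj_mul, cj_mul, D.N_p, ← hz1, conj_inv (D.k_sq a)]
  have hnNn : cj D.n (D.N a) = cj k z2 := by
    rw [← D.x_Y a, cj_conj, D.n_x]
  set U := D.N a * D.n * (D.N a * D.n) * (D.N a * D.n) with hU
  have hUw : U = cj k w := by
    rw [hw, cj_mul, ← hNnN, ← hnNn, conj_inv hNn, conj_inv D.n_sq, hU]
    group
  have hUN : cj (D.N a) U = U := by
    have hU2 : U * U = 1 := by rw [hUw, ← cj_mul, hww, cj_one]
    calc cj (D.N a) U = U⁻¹ := by
          rw [hU]
          simp only [cj, mul_inv_rev, inv_eq_of_mul_eq_one_right hNn, inv_eq_of_mul_eq_one_right D.n_sq]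
          simp only [mul_assoc]
          rw [← mul_assoc (D.N a) (D.N a), hNn, one_mul]
      _ = U := inv_eq_of_mul_eq_one_right hU2
  have hks : cj k D.s = D.s := cj_of_comm (D.k_s a)
  have hwse : w = 1 ∨ w = D.s * D.e a := by
    rw [hUw] at hUN
    rcases hv' with rfl | rfl <;> rcases hr with rfl | rfl
    · exact Or.inl (by rw [hwvr, one_mul])
    · rw [hwvr, one_mul, D.k_e, cj_mul, D.N_e, D.N_t] at hUN
      exact absurd (mul_right_cancel hUN).symm (D.e_ne_s a)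
    · rw [hwvr, mul_one, hks, D.N_s] at hUN
      exact absurd hUN (D.e_ne_s a)
    · exact Or.inr hwvr
  suffices hw1 : w = 1 by
    refine ⟨?_, by rw [hUw, hw1, cj_one]⟩
    calc z1 = z1 * z2 * z2⁻¹ := by group
      _ = z2 := by rw [← hw, hw1, one_mul, inv_eq_of_mul_eq_one_right hz2sq]
  refine hwse.resolve_right fun hse => D.s_ne ?_
  set q := k * z1 with hq
  have hq3 : q * q * q = 1 := by
    refine cj_inj (g := D.N a) ?_
    rw [cube_cj, hq, cj_mul, D.N_k, hz1, cj_self hNn, cj_one]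
    exact D.py3'
  have hqw3 : q * w * (q * w) * (q * w) = 1 := by
    refine cj_inj (g := D.n) ?_
    have hqw : q * w = k * z2 := by
      rw [hq, hw, show k * z1 * (z1 * z2) = k * (z1 * z1) * z2 by group, hz1sq, mul_one]
    rw [cube_cj, hqw, cj_mul, D.n_k, hz2, cj_self D.n_sq, cj_one, D.xY, D.ccc]
  have hqt : cj q D.t = D.e a := by
    rw [hq, ← cj_cj, z1t, cj_mul, cj_of_comm (D.k_t a), D.k_e, ← D.e_t, ← mul_assoc, D.tt, one_mul]
  have hqs : cj q D.s = D.s := by rw [hq, ← cj_cj, cj_of_comm z1s.eq, hks]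
  have hqe : cj q (D.e a) = D.e a * D.t := by rw [hq, ← cj_cj, cj_of_comm z1e.eq, D.k_e]
  have hq3w : cj (q * q * q) w = w := by rw [hq3]; simp [cj]
  have h1 : cj q w = D.s * (D.e a * D.t) := by rw [hse, cj_mul, hqs, hqe]
  have h2 : cj q (cj q w) = D.s * D.t := by
    rw [h1, cj_mul, cj_mul, hqs, hqt, hqe, mul_assoc (D.e a), D.e_t, ← mul_assoc (D.e a), D.e_sq, one_mul]
  have h3 := cube_mul q w
  rw [hqw3, hq3w, h2, h1, hse, hq3, mul_one] at h3
  calc D.s = (D.s * D.e a) * ((D.t * D.s * D.t) * (D.s * D.e a)) := by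
        rw [D.ts, mul_assoc D.s D.t, D.tt, mul_one, ← mul_assoc D.s D.s, D.ss, one_mul, mul_assoc, D.e_sq, mul_one]
    _ = D.s * (D.e a * D.t) * (D.s * D.t) * (D.s * D.e a) := by group
    _ = 1 := h3.symm

theorem Yy4 (a : Fin 3) : (D.Y a * D.y) * (D.Y a * D.y) * ((D.Y a * D.y) * (D.Y a * D.y)) = 1 := by
  obtain ⟨hz, -⟩ := D.braid a
  have hx : cj (D.N a * D.n * D.N a) (D.x a) = D.y := by
    rw [← cj_cj, ← cj_cj, D.N_x, ← hz, cj_self (D.N_sq a)]
  have hp : cj (D.N a * D.n * D.N a) D.p = D.Y a := by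
    rw [← cj_cj, ← cj_cj, D.N_p, D.n_k, D.N_x]
  have h2 : D.p * D.x a * (D.p * D.x a) = D.k a := by
    have := D.p_x a
    rw [conj_inv D.p_sq] at this
    have hxk := D.x_k a
    rw [conj_inv (D.xx a)] at hxk
    calc D.p * D.x a * (D.p * D.x a) = D.p * D.x a * D.p * D.x a := by group
      _ = _ := by rw [this, hxk]
  rw [← hp, ← hx, ← cj_mul, ← cj_mul, ← cj_mul, h2, D.k_sq, cj_one]

/-! ### Relations as words -/

theorem rel_xY (a : Fin 3) : D.x a * D.Y a * D.x a * D.Y a * D.x a * D.Y a = 1 := by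
  rw [← D.ccc a, ← D.xY a]; group

theorem rel_py : D.p * D.y * D.p * D.y * D.p * D.y = 1 := by rw [← D.py3']; group

theorem xpxp (a : Fin 3) : D.x a * D.p * D.x a * D.p = D.k a := by
  rw [← conj_inv (D.xx a), D.x_p, mul_assoc, D.p_sq, mul_one]

theorem pxpx (a : Fin 3) : D.p * D.x a * D.p * D.x a = D.k a := by
  rw [← conj_inv D.p_sq, D.p_x, ← conj_inv (D.xx a), D.x_k]

theorem rel_xp (a : Fin 3) : D.x a * D.p * D.x a * D.p * D.x a * D.p * D.x a * D.p = 1 := by
  rw [← D.k_sq a]; nth_rewrite 1 [← D.xpxp a]; nth_rewrite 1 [← D.xpxp a]; group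

theorem rel_px (a : Fin 3) : D.p * D.x a * D.p * D.x a * D.p * D.x a * D.p * D.x a = 1 := by
  rw [← D.k_sq a]; nth_rewrite 1 [← D.pxpx a]; nth_rewrite 1 [← D.pxpx a]; group

theorem rel_Yy (a : Fin 3) : D.Y a * D.y * D.Y a * D.y * D.Y a * D.y * D.Y a * D.y = 1 := by
  rw [← D.Yy4 a]; group

theorem rel_yY (a : Fin 3) : D.y * D.Y a * D.y * D.Y a * D.y * D.Y a * D.y * D.Y a = 1 := by
  have := congrArg (cj D.y) (D.Yy4 a)
  rw [cj_one] at this
  rw [← this]
  simp only [cj, inv_eq_of_mul_eq_one_right D.yy']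
  simp only [mul_assoc, D.yy', mul_one]

theorem rel_N (a : Fin 3) :
    D.x a * D.Y a * D.x a * D.p * D.x a * D.Y a * D.x a * D.x a * D.p * D.x a * D.p = 1 := by
  have h : cj (D.x a * D.Y a * D.x a) D.p = D.k a := by
    rw [← conj_inv (D.xx a) (u := D.Y a), D.x_Y, D.N_p]
  have hi : (D.x a * D.Y a * D.x a)⁻¹ = D.x a * D.Y a * D.x a := by
    rw [← conj_inv (D.xx a) (u := D.Y a), D.x_Y, inv_eq_of_mul_eq_one_right (D.N_sq a)]
  rw [cj, hi] at h
  rw [← D.k_sq a]; nth_rewrite 1 [← h]; nth_rewrite 1 [← D.xpxp a]; group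

theorem rel_n (a : Fin 3) :
    D.p * D.y * D.p * D.x a * D.p * D.y * D.p * D.p * D.x a * D.p * D.x a = 1 := by
  have h : D.p * D.y * D.p * D.x a * (D.p * D.y * D.p) = D.k a := by
    rw [← D.n_x a, conj_inv D.n_sq]; rfl
  rw [← D.k_sq a]; nth_rewrite 1 [← h]; nth_rewrite 1 [← D.pxpx a]; group

theorem rel_hex (a : Fin 3) : D.x a * D.Y a * D.x a * D.p * D.y * D.p * D.x a * D.Y a * D.x a * D.p * D.y * D.p *
    D.x a * D.Y a * D.x a * D.p * D.y * D.p = 1 := by
  obtain ⟨-, h⟩ := D.braid a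
  rw [← D.x_Y a, conj_inv (D.xx a)] at h
  rw [← h, n]; group

theorem gens_sq (i : ℕ) : D.gens i * D.gens i = 1 := by
  rcases i with _ | _ | _ | _ | _ | _ | _ | _ | i
  exacts [D.xx 0, D.Y_sq 0, D.p_sq, D.yy', D.xx 1, D.Y_sq 1, D.xx 2, D.Y_sq 2, one_mul 1]

theorem rels : ∀ w ∈ relsD4, evalL D.gens w = 1 := by
  have hxx := fun a b => sq_comm (D.xx a) (D.xx b) (D.xcomm a b)
  have hxY := fun a b (h : b ≠ a) => sq_comm (D.xx a) (D.Y_sq b) (D.Y_x b a h).symm
  have hYx := fun a b (h : a ≠ b) => sq_comm (D.Y_sq a) (D.xx b) (D.Y_x a b h)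
  have hYY := fun a b (h : a ≠ b) => sq_comm (D.Y_sq a) (D.Y_sq b) (D.Y_Y a b h)
  have hxy := fun a => sq_comm (D.xx a) D.yy' (D.y_x a).symm
  have hyx := fun a => sq_comm D.yy' (D.xx a) (D.y_x a)
  have hYp := fun a => sq_comm (D.Y_sq a) D.p_sq (D.Y_p a)
  have hpY := fun a => sq_comm D.p_sq (D.Y_sq a) (D.Y_p a).symm
  simp only [relsD4, List.forall_mem_cons, List.not_mem_nil, false_implies, implies_true, and_true]
  simp only [evalL, gens, List.map_cons, List.map_nil, List.prod_cons, List.prod_nil, mul_one,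
    List.getD_cons_zero, List.getD_cons_succ, ← mul_assoc]
  exact ⟨D.rel_xY 0, D.rel_py, D.rel_xY 1, D.rel_xY 2, D.rel_xp 0, hxy 0, hYp 0, D.rel_Yy 0, D.rel_N 0, D.rel_n 0,
    hxx 0 1, hxY 0 1 (by decide), hYx 0 1 (by decide), hYY 0 1 (by decide),
    hxx 0 2, hxY 0 2 (by decide), hYx 0 2 (by decide), hYY 0 2 (by decide),
    D.rel_px 1, hpY 1, hyx 1, D.rel_yY 1, D.rel_N 1, D.rel_n 1,
    D.rel_px 2, hpY 2, hyx 2, D.rel_yY 2, D.rel_N 2, D.rel_n 2,
    hxx 1 2, hxY 1 2 (by decide), hYx 1 2 (by decide), hYY 1 2 (by decide),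
    D.rel_hex 0, D.rel_hex 1, D.rel_hex 2⟩

theorem evalL_append (g : ℕ → G) (l l' : List ℕ) : evalL g (l ++ l') = evalL g l * evalL g l' := by
  rw [evalL, List.map_append, List.prod_append]; rfl

theorem gens_tWord : evalL D.gens tWord = D.t := by
  have e1 : ∀ i, evalL D.gens [i] = D.gens i := fun i => mul_one _
  have hX : evalL D.gens [4, 2, 4, 2] = D.k 1 ∧ evalL D.gens [2, 4, 2, 4] = D.k 1 := by
    constructor <;>
      simp only [evalL, gens, List.map_cons, List.map_nil, List.prod_cons, List.prod_nil, mul_one,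
        List.getD_cons_zero, List.getD_cons_succ, ← mul_assoc]
    exacts [D.xpxp 1, D.pxpx 1]
  have hk : cj (D.x 0) (D.k 1) = D.k 1 * D.e 2 := D.x_k2 1
  rw [conj_inv (D.xx 0)] at hk
  have hke : D.k 1 * D.e 2 = D.e 2 * D.k 1 := D.k_e_ne 1 2 (by decide)
  have hZ : evalL D.gens ([0] ++ [4, 2, 4, 2] ++ [0] ++ [2, 4, 2, 4]) = D.e 2 := by
    rw [evalL_append, evalL_append, evalL_append, e1, hX.1, hX.2]
    show D.x 0 * D.k 1 * D.x 0 * D.k 1 = D.e 2
    rw [hk, hke, mul_assoc, D.k_sq, mul_one]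
  have hZ' : evalL D.gens ([4, 2, 4, 2] ++ [0] ++ [2, 4, 2, 4] ++ [0]) = D.e 2 := by
    rw [evalL_append, evalL_append, evalL_append, e1, hX.1, hX.2]
    show D.k 1 * D.x 0 * D.k 1 * D.x 0 = D.e 2
    rw [mul_assoc (D.k 1) _ _, mul_assoc (D.k 1), hk, ← mul_assoc, D.k_sq, one_mul]
  have he : D.x 2 * D.e 2 * D.x 2 = D.s * D.e 2 := by rw [← conj_inv (D.xx 2)]; exact D.x_e 2
  set Z : List ℕ := [0] ++ [4, 2, 4, 2] ++ [0] ++ [2, 4, 2, 4] with hZdef
  set Z' : List ℕ := [4, 2, 4, 2] ++ [0] ++ [2, 4, 2, 4] ++ [0] with hZ'def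
  have hS : evalL D.gens ([6] ++ Z ++ [6] ++ Z') = D.s := by
    rw [evalL_append, evalL_append, evalL_append, e1, hZ, hZ']
    show D.x 2 * D.e 2 * D.x 2 * D.e 2 = D.s
    rw [he, mul_assoc, D.e_sq, mul_one]
  have hS' : evalL D.gens (Z ++ [6] ++ Z' ++ [6]) = D.s := by
    rw [evalL_append, evalL_append, evalL_append, e1, hZ, hZ']
    show D.e 2 * D.x 2 * D.e 2 * D.x 2 = D.s
    rw [mul_assoc (D.e 2) _ _, mul_assoc (D.e 2), he, D.e_s, ← mul_assoc, D.e_sq, one_mul]
  have hw : tWord = [2] ++ ([6] ++ Z ++ [6] ++ Z') ++ [2] ++ (Z ++ [6] ++ Z' ++ [6]) := rfl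
  rw [hw, evalL_append, evalL_append, evalL_append, e1, hS, hS']
  show D.p * D.s * D.p * D.s = D.t
  rw [← conj_inv D.p_sq, D.p_s, ← D.ts, mul_assoc, D.ss, mul_one]

/-- The copy of Ω⁺₈(2). -/
theorem exists_sub : ∃ φ : Multiplier.O8.G0 →* G, Function.Injective φ ∧ φ tM = D.t ∧
    φ.range = Subgroup.closure (D.gens '' Set.Iio 8) := by
  obtain ⟨φ, hφ, hg, hr⟩ := exists_hom D.gens_sq D.rels ⟨2, by norm_num, D.p_ne⟩
  refine ⟨φ, hφ, ?_, hr⟩
  rw [← D.gens_tWord, tM, evalL, evalL, map_list_prod, List.map_map]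
  refine congrArg List.prod (List.map_congr_left fun i hi => hg i ?_)
  have h : ∀ i ∈ tWord, i < 8 := by decide
  exact h i hi

end Fd

end Cfsg.Agent.OmegaEight
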