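import Cfsg.Agent.Lib.LargeExtraspecial.Quotient
import Cfsg.Agent.Lib.LargeExtraspecial.FourGroup
import Cfsg.Agent.Lib.LargeExtraspecial.Simple

/-
An involution `t` whose centraliser is an extraspecial group `Q` of order `2^9` extended by `S₃³`:
`Hyp` with the map `ρ`, the transport `Hyp.conj` to a conjugate, the adjustment `Hyp.twist`,
elementary facts about `S₃³`, and `exists_hyp`.
-/

set_option autoImplicit false
set_option maxRecDepth 4000

namespace Cfsg.Agent.OmegaEight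

open Cfsg.Agent.LargeExtraspecial
open scoped commutatorElement

/-- `S₃³`. -/
abbrev S33 : Type := Fin 3 → Equiv.Perm (Fin 3)

/-- The chosen transposition. -/
def σ₃ : Equiv.Perm (Fin 3) := Equiv.swap 0 1

/-- The chosen three-cycle. -/
def γ₃ : Equiv.Perm (Fin 3) := Equiv.swap 0 1 * Equiv.swap 1 2

theorem γ₃_facts : γ₃ * γ₃ * γ₃ = 1 ∧ σ₃ * σ₃ = 1 ∧ σ₃ * γ₃ * σ₃ = γ₃ * γ₃ ∧ γ₃ ≠ 1 ∧ σ₃ ≠ 1 ∧
    γ₃ ≠ σ₃ ∧ γ₃ * γ₃ ≠ 1 := by decide

theorem perm3_sq : ∀ p : Equiv.Perm (Fin 3), p ^ 8 = 1 → p * p = 1 := by decide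

theorem perm3_norm : ∀ p : Equiv.Perm (Fin 3), (p * σ₃ * p⁻¹ = 1 ∨ p * σ₃ * p⁻¹ = σ₃) → p = 1 ∨ p = σ₃ := by
  decide

theorem perm3_cases : ∀ p : Equiv.Perm (Fin 3), p = 1 ∨ p = σ₃ ∨ p = γ₃ ∨ p = γ₃ * γ₃ ∨ p = σ₃ * γ₃ ∨
    p = σ₃ * (γ₃ * γ₃) := by decide

theorem card_S33 : Nat.card S33 = 216 := by
  rw [Nat.card_pi]
  simp [Nat.card_eq_fintype_card, Fintype.card_perm, Nat.factorial]

/-- The standard Sylow 2-subgroup. -/
def Tbar : Subgroup S33 := Subgroup.pi Set.univ fun _ => Subgroup.zpowers σ₃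

theorem mem_zpowers_σ₃ {p : Equiv.Perm (Fin 3)} : p ∈ Subgroup.zpowers σ₃ ↔ p = 1 ∨ p = σ₃ := by
  constructor
  · exact mem_zpowers_two γ₃_facts.2.1
  · rintro (rfl | rfl)
    exacts [one_mem _, Subgroup.mem_zpowers _]

theorem mem_Tbar {r : S33} : r ∈ Tbar ↔ ∀ a, r a = 1 ∨ r a = σ₃ := by
  simp only [Tbar, Subgroup.mem_pi, Set.mem_univ, true_implies, mem_zpowers_σ₃]

theorem Tbar_comm {r r' : S33} (h : r ∈ Tbar) (h' : r' ∈ Tbar) : r * r' = r' * r ∧ r * r = 1 := by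
  rw [mem_Tbar] at h h'
  constructor <;> funext a <;> rcases h a with e | e <;> rcases h' a with e' | e' <;>
    simp [e, e', γ₃_facts.2.1]

/-- The generators of `Tbar`. -/
def sb (a : Fin 3) : S33 := Pi.mulSingle a σ₃

/-- The generators of the Sylow 3-subgroup. -/
def gm (a : Fin 3) : S33 := Pi.mulSingle a γ₃

theorem sb_mem (a : Fin 3) : sb a ∈ Tbar := mem_Tbar.mpr fun b => by
  rcases eq_or_ne b a with rfl | h
  · exact Or.inr (Pi.mulSingle_eq_same _ _)
  · exact Or.inl (Pi.mulSingle_eq_of_ne h _)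

theorem Tbar_self_norm {r : S33} (h : ∀ a, r * sb a * r⁻¹ ∈ Tbar) : r ∈ Tbar := mem_Tbar.mpr fun a => by
  refine perm3_norm _ ?_
  have := mem_Tbar.mp (h a) a
  simpa [sb] using this

theorem card_Tbar : Nat.card Tbar = 8 := by
  let f : Tbar ≃ (Fin 3 → Subgroup.zpowers σ₃) :=
    { toFun := fun r a => ⟨r.1 a, r.2 a (Set.mem_univ a)⟩
      invFun := fun r => ⟨fun a => r a, fun a _ => (r a).2⟩
      left_inv := fun _ => rfl
      right_inv := fun _ => rfl }
  haveI : Fact (Nat.Prime 2) := ⟨Nat.prime_two⟩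
  rw [Nat.card_congr f, Nat.card_pi, Finset.prod_const, Finset.card_univ, Fintype.card_fin, Nat.card_zpowers,
    orderOf_eq_prime (p := 2) ((pow_two σ₃).trans γ₃_facts.2.1) γ₃_facts.2.2.2.2.1]
  norm_num

theorem exists_conj_Tbar {W : Subgroup S33} (hW : Nat.card W = 8) :
    ∃ g : S33, W.map (MulAut.conj g).toMonoidHom = Tbar := by
  haveI : Fact (Nat.Prime 2) := ⟨Nat.prime_two⟩
  have hf : 2 ^ (Nat.card S33).factorization 2 = 8 := by
    rw [card_S33, show (216 : ℕ) = 2 ^ 3 * 27 by norm_num,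
      Nat.factorization_mul (by norm_num) (by norm_num), Finsupp.add_apply,
      Nat.Prime.factorization_pow Nat.prime_two, Finsupp.single_eq_same,
      Nat.factorization_eq_zero_of_not_dvd (n := 27) (by norm_num)]
    norm_num
  let P1 : Sylow 2 S33 := Sylow.ofCard W (by rw [hW, hf])
  let P2 : Sylow 2 S33 := Sylow.ofCard Tbar (by rw [card_Tbar, hf])
  obtain ⟨g, hg⟩ := MulAction.exists_smul_eq S33 P1 P2
  refine ⟨g, ?_⟩
  have := congrArg (fun P : Sylow 2 S33 => (P : Subgroup S33)) hg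
  rw [Sylow.coe_subgroup_smul, Subgroup.pointwise_smul_def] at this
  exact this

variable {G : Type*} [Group G]

/-- The hypotheses at the involution `t`. -/
structure Hyp (G : Type*) [Group G] where
  t : G
  Q : Subgroup G
  ρ : G → S33
  data : Data Q t
  extra : Cfsg.IsExtraspecial 2 ↥Q
  card : Nat.card Q = 512
  mul : ∀ g h, g * t = t * g → h * t = t * h → ρ (g * h) = ρ g * ρ h
  ker : ∀ g, g * t = t * g → (ρ g = 1 ↔ g ∈ Q)
  surj : ∀ r, ∃ g, g * t = t * g ∧ ρ g = r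

namespace Hyp

variable (H : Hyp G)

theorem ct {q : G} (hq : q ∈ H.Q) : q * H.t = H.t * q := H.data.z_central q hq

theorem ρ_one : H.ρ 1 = 1 := (H.ker 1 (by simp)).mpr (one_mem _)

theorem ρ_Q {q : G} (hq : q ∈ H.Q) : H.ρ q = 1 := (H.ker q (H.ct hq)).mpr hq

theorem ρ_inv {g : G} (hg : g * H.t = H.t * g) : H.ρ g⁻¹ = (H.ρ g)⁻¹ := by
  refine eq_inv_of_mul_eq_one_left ?_
  rw [← H.mul g⁻¹ g (Commute.inv_left hg).eq hg, inv_mul_cancel, H.ρ_one]

theorem ρ_conj {g h : G} (hg : g * H.t = H.t * g) (hh : h * H.t = H.t * h) :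
    H.ρ (g * h * g⁻¹) = H.ρ g * H.ρ h * (H.ρ g)⁻¹ := by
  rw [H.mul _ _ (Commute.mul_left hg hh).eq (Commute.inv_left hg).eq, H.mul g h hg hh, H.ρ_inv hg]

theorem ρ_pow {g : G} (hg : g * H.t = H.t * g) (n : ℕ) : H.ρ (g ^ n) = H.ρ g ^ n := by
  induction n with
  | zero => simpa using H.ρ_one
  | succ n ih => rw [pow_succ, pow_succ, H.mul _ _ (Commute.pow_left hg n).eq hg, ih]

/-- Same image in the quotient. -/
theorem mem_of_ρ_eq {g h : G} (hg : g * H.t = H.t * g) (hh : h * H.t = H.t * h) (e : H.ρ g = H.ρ h) :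
    g⁻¹ * h ∈ H.Q := by
  have hc := (Commute.mul_left (Commute.inv_left hg) hh).eq
  rw [← H.ker _ hc, H.mul _ _ (Commute.inv_left hg).eq hh, H.ρ_inv hg, e, inv_mul_cancel]

theorem sq_mem_of_two [Finite G] {P : Subgroup G} (hP : IsPGroup 2 P) {g : G} (hg : g ∈ P)
    (hgt : g * H.t = H.t * g) : g * g ∈ H.Q := by
  rw [← H.ker _ (Commute.mul_left hgt hgt).eq, H.mul g g hgt hgt]
  funext a
  refine perm3_sq _ ?_
  obtain ⟨n, hn⟩ := hP ⟨g, hg⟩
  have h1 : H.ρ g a ^ 2 ^ n = 1 := by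
    have hn' : g ^ 2 ^ n = 1 := by simpa using congrArg Subtype.val hn
    have := congrArg (fun r : S33 => r a) (H.ρ_pow hgt (2 ^ n))
    simp only [hn', H.ρ_one, Pi.pow_apply, Pi.one_apply] at this
    exact this.symm
  rw [← orderOf_dvd_iff_pow_eq_one]
  have h2 : orderOf (H.ρ g a) ∣ Nat.gcd (2 ^ n) 6 :=
    Nat.dvd_gcd (orderOf_dvd_of_pow_eq_one h1) (by
      have := orderOf_dvd_natCard (H.ρ g a)
      simpa [Nat.card_eq_fintype_card, Fintype.card_perm, Nat.factorial] using this)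
  refine h2.trans (Dvd.dvd.trans ?_ (show 2 ∣ 8 by norm_num))
  rcases n with - | n
  · simp
  · rw [pow_succ, mul_comm, show (6 : ℕ) = 2 * 3 by norm_num, Nat.gcd_mul_left]
    rw [show Nat.gcd (2 ^ n) 3 = 1 from Nat.Coprime.pow_left n (by norm_num)]

/-- Transport to a conjugate. -/
def conj (g : G) : Hyp G where
  t := g * H.t * g⁻¹
  Q := conjS g H.Q
  ρ x := H.ρ (g⁻¹ * x * g)
  data := H.data.conjugate g
  extra := isExtraspecial_congr (H.Q.equivMapOfInjective (MulAut.conj g).toMonoidHom (MulAut.conj g).injective) H.extra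
  card := (Subgroup.card_map_of_injective (MulAut.conj g).injective).trans H.card
  mul a b ha hb := by
    have ha' : (g⁻¹ * a * g) * H.t = H.t * (g⁻¹ * a * g) := by
      have := congrArg (fun x => g⁻¹ * x * g) ha
      simpa [mul_assoc] using this
    have hb' : (g⁻¹ * b * g) * H.t = H.t * (g⁻¹ * b * g) := by
      have := congrArg (fun x => g⁻¹ * x * g) hb
      simpa [mul_assoc] using this
    rw [← H.mul _ _ ha' hb']
    congr 1; group
  ker a ha := by
    have ha' : (g⁻¹ * a * g) * H.t = H.t * (g⁻¹ * a * g) := by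
      have := congrArg (fun x => g⁻¹ * x * g) ha
      simpa [mul_assoc] using this
    rw [H.ker _ ha', mem_conjS]
  surj r := by
    obtain ⟨x, hx, rfl⟩ := H.surj r
    refine ⟨g * x * g⁻¹, ?_, by congr 1; group⟩
    have := congrArg (fun y => g * y * g⁻¹) hx
    simpa [mul_assoc] using this

/-- Change of coordinates in `S₃³`. -/
def twist (w : S33) : Hyp G :=
  { H with
    ρ := fun x => w * H.ρ x * w⁻¹
    mul := fun a b ha hb => by rw [H.mul a b ha hb]; group
    ker := fun a ha => by rw [conj_eq_one_iff, H.ker a ha]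
    surj := fun r => by
      obtain ⟨x, hx, hr⟩ := H.surj (w⁻¹ * r * w)
      exact ⟨x, hx, by rw [hr]; group⟩ }

@[simp] theorem conj_t (g : G) : (H.conj g).t = g * H.t * g⁻¹ := rfl
@[simp] theorem conj_Q (g : G) : (H.conj g).Q = conjS g H.Q := rfl
@[simp] theorem twist_t (w : S33) : (H.twist w).t = H.t := rfl
@[simp] theorem twist_Q (w : S33) : (H.twist w).Q = H.Q := rfl

end Hyp

/-- The hypotheses of the statement give `Hyp`. -/
theorem exists_hyp [Finite G] (t : G) (ht : orderOf t = 2) (C : Subgroup G)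
    (hC : C = Subgroup.centralizer ({t} : Set G))
    (hF : Cfsg.IsExtraspecial 2 (Cfsg.generalizedFittingSubgroup C))
    (hFcard : Nat.card (Cfsg.generalizedFittingSubgroup C) = 2 ^ 9)
    (hF2 : Cfsg.generalizedFittingSubgroup C = Cfsg.pCore 2 C)
    (e : C ⧸ Cfsg.pCore 2 C ≃* Equiv.Perm (Fin 3) × Equiv.Perm (Fin 3) × Equiv.Perm (Fin 3)) :
    ∃ H : Hyp G, H.t = t := by
  classical
  subst hC
  set C := Subgroup.centralizer ({t} : Set G) with hC
  set Q : Subgroup G := (Cfsg.generalizedFittingSubgroup C).map C.subtype with hQ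
  have hex : Cfsg.IsExtraspecial 2 ↥Q := isExtraspecial_congr
    ((Cfsg.generalizedFittingSubgroup C).equivMapOfInjective C.subtype C.subtype_injective) hF
  obtain ⟨D, -⟩ := Data.of_generalizedFitting ht (Q := Q) rfl hex
  let f : (Equiv.Perm (Fin 3) × Equiv.Perm (Fin 3) × Equiv.Perm (Fin 3)) ≃* S33 :=
    { toFun := fun p => ![p.1, p.2.1, p.2.2]
      invFun := fun r => (r 0, r 1, r 2)
      left_inv := fun p => rfl
      right_inv := fun r => by funext a; fin_cases a <;> rfl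
      map_mul' := fun p q => by funext a; fin_cases a <;> rfl }
  let h : C →* S33 := f.toMonoidHom.comp (e.toMonoidHom.comp (QuotientGroup.mk' _))
  have hmem : ∀ g, g * t = t * g ↔ g ∈ C := fun g => Subgroup.mem_centralizer_singleton_iff.symm
  refine ⟨⟨t, Q, fun g => if hg : g ∈ C then h ⟨g, hg⟩ else 1, D, hex,
    (Subgroup.card_map_of_injective C.subtype_injective).trans hFcard, ?_, ?_, ?_⟩, rfl⟩
  · intro a b ha hb
    rw [hmem] at ha hb
    rw [dif_pos ha, dif_pos hb, dif_pos (mul_mem ha hb), ← map_mul]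
    rfl
  · intro a ha
    rw [hmem] at ha
    rw [dif_pos ha]
    have : h ⟨a, ha⟩ = 1 ↔ (⟨a, ha⟩ : C) ∈ Cfsg.pCore 2 C := by
      simp [h, QuotientGroup.eq_one_iff]
    rw [this, ← hF2]
    exact ⟨fun hm => ⟨_, hm, rfl⟩, fun ⟨x, hx, hxa⟩ => by rwa [show (⟨a, ha⟩ : C) = x from Subtype.ext hxa.symm]⟩
  · intro r
    obtain ⟨x, hx⟩ := QuotientGroup.mk_surjective (e.symm (f.symm r))
    refine ⟨x, (hmem _).mpr x.2, ?_⟩
    rw [dif_pos x.2]
    simp [h, hx]

end Cfsg.Agent.OmegaEight
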